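import Cfsg.Prelude.Def_LieClassical

/-!
The order of the general unitary group `Cfsg.GU n F q` and of `Cfsg.SU n F q` (`|F| = q ^ 2`), reduced to the
number of vectors of norm one.
-/

set_option autoImplicit false
open Cfsg

namespace Cfsg.Agent.LieClassical.GUOrder

open Matrix

variable {F : Type*} [Field F]

theorem herm_def (n q : ℕ) (u v : Fin n → F) :
    hermForm n F q u v = ∑ i, u i * (v i) ^ q := rfl

theorem herm_succ (n q : ℕ) (u v : Fin (n + 1) → F) :
    hermForm (n + 1) F q u v =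
      u 0 * (v 0) ^ q + hermForm n F q (fun i => u i.succ) (fun i => v i.succ) := by
  rw [herm_def, herm_def, Fin.sum_univ_succ]

theorem mem_GU_iff {n q : ℕ} (g : GL (Fin n) F) :
    g ∈ Cfsg.GU n F q ↔ ∀ u v : Fin n → F,
      hermForm n F q ((g : Matrix (Fin n) (Fin n) F) *ᵥ u)
        ((g : Matrix (Fin n) (Fin n) F) *ᵥ v) = hermForm n F q u v :=
  Iff.rfl

variable [Fintype F] {q : ℕ}

theorem two_le (hF : Fintype.card F = q ^ 2) : 2 ≤ q := by
  have h1 : 1 < Fintype.card F := Fintype.one_lt_card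
  rw [hF] at h1
  by_contra hcon
  have : q = 0 ∨ q = 1 := by omega
  rcases this with rfl | rfl <;> simp at h1

theorem add_pow_q (hF : Fintype.card F = q ^ 2) (x y : F) : (x + y) ^ q = x ^ q + y ^ q := by
  obtain ⟨p, hp⟩ := CharP.exists F
  obtain ⟨n, hpp, hn⟩ := FiniteField.card F p
  have : Fact p.Prime := ⟨hpp⟩
  have hdvd : q ∣ p ^ (n : ℕ) := by
    rw [← hn, hF]; exact dvd_pow_self q two_ne_zero
  obtain ⟨k, -, rfl⟩ := (Nat.dvd_prime_pow hpp).1 hdvd
  exact add_pow_char_pow x y p k

/-- The field endomorphism `x ↦ x ^ q`. -/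
def frob (hF : Fintype.card F = q ^ 2) : F →+* F where
  toFun x := x ^ q
  map_one' := one_pow q
  map_mul' x y := mul_pow x y q
  map_zero' := zero_pow (by have := two_le hF; omega)
  map_add' := add_pow_q hF

theorem frob_apply (hF : Fintype.card F = q ^ 2) (x : F) : frob hF x = x ^ q := rfl

theorem frob_frob (hF : Fintype.card F = q ^ 2) (x : F) : frob hF (frob hF x) = x := by
  rw [frob_apply, frob_apply, ← pow_mul, ← sq, ← hF, FiniteField.pow_card]

theorem herm_eq (hF : Fintype.card F = q ^ 2) {n : ℕ} (u v : Fin n → F) :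
    hermForm n F q u v = ∑ i, u i * frob hF (v i) := rfl

theorem herm_add_left (hF : Fintype.card F = q ^ 2) {n : ℕ} (u v w : Fin n → F) :
    hermForm n F q (u + v) w = hermForm n F q u w + hermForm n F q v w := by
  simp only [herm_eq hF, Pi.add_apply, add_mul, Finset.sum_add_distrib]

theorem herm_smul_left (hF : Fintype.card F = q ^ 2) {n : ℕ} (c : F) (u w : Fin n → F) :
    hermForm n F q (c • u) w = c * hermForm n F q u w := by
  simp only [herm_eq hF, Pi.smul_apply, smul_eq_mul, Finset.mul_sum, mul_assoc]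

theorem herm_add_right (hF : Fintype.card F = q ^ 2) {n : ℕ} (u v w : Fin n → F) :
    hermForm n F q u (v + w) = hermForm n F q u v + hermForm n F q u w := by
  simp only [herm_eq hF, Pi.add_apply, map_add, mul_add, Finset.sum_add_distrib]

theorem herm_smul_right (hF : Fintype.card F = q ^ 2) {n : ℕ} (c : F) (u w : Fin n → F) :
    hermForm n F q u (c • w) = frob hF c * hermForm n F q u w := by
  simp only [herm_eq hF, Pi.smul_apply, smul_eq_mul, Finset.mul_sum, map_mul]
  exact Finset.sum_congr rfl fun i _ => by ring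

theorem herm_sub_left (hF : Fintype.card F = q ^ 2) {n : ℕ} (u v w : Fin n → F) :
    hermForm n F q (u - v) w = hermForm n F q u w - hermForm n F q v w := by
  simp only [herm_eq hF, Pi.sub_apply, sub_mul, Finset.sum_sub_distrib]

theorem herm_sub_right (hF : Fintype.card F = q ^ 2) {n : ℕ} (u v w : Fin n → F) :
    hermForm n F q u (v - w) = hermForm n F q u v - hermForm n F q u w := by
  simp only [herm_eq hF, Pi.sub_apply, map_sub, mul_sub, Finset.sum_sub_distrib]

theorem frob_herm (hF : Fintype.card F = q ^ 2) {n : ℕ} (u v : Fin n → F) :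
    frob hF (hermForm n F q u v) = hermForm n F q v u := by
  simp only [herm_eq hF, map_sum, map_mul, frob_frob]
  exact Finset.sum_congr rfl fun i _ => by ring

/-- `vecMulVec w (frob w)` applied to `x` is `h(x,w) w`. -/
theorem vecMulVec_mulVec_herm (hF : Fintype.card F = q ^ 2) {n : ℕ} (w w' x : Fin n → F) :
    Matrix.vecMulVec w (fun i => frob hF (w' i)) *ᵥ x = hermForm n F q x w' • w := by
  ext i
  simp only [Matrix.mulVec, dotProduct, Matrix.vecMulVec_apply, Pi.smul_apply, smul_eq_mul,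
    herm_eq hF, Finset.sum_mul]
  exact Finset.sum_congr rfl fun j _ => by ring

theorem mul_map_eq_one_iff (hF : Fintype.card F = q ^ 2) {n : ℕ} (M : Matrix (Fin n) (Fin n) F) :
    (∀ u v : Fin n → F, hermForm n F q (M *ᵥ u) (M *ᵥ v) = hermForm n F q u v) ↔
      Mᵀ * M.map (frob hF) = 1 := by
  have key : ∀ u v : Fin n → F, hermForm n F q (M *ᵥ u) (M *ᵥ v) =
      u ⬝ᵥ ((Mᵀ * M.map (frob hF)) *ᵥ (fun i => frob hF (v i))) := by
    intro u v
    have h1 : (fun i => frob hF ((M *ᵥ v) i)) = M.map (frob hF) *ᵥ (fun i => frob hF (v i)) := by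
      ext i
      simp only [Matrix.mulVec, dotProduct, map_sum, map_mul, Matrix.map_apply]
    have h2 : hermForm n F q (M *ᵥ u) (M *ᵥ v) = (M *ᵥ u) ⬝ᵥ (fun i => frob hF ((M *ᵥ v) i)) :=
      rfl
    rw [h2, h1, ← Matrix.mulVec_mulVec]
    conv_rhs => rw [Matrix.dotProduct_mulVec, Matrix.vecMul_transpose]
  have key2 : ∀ u v : Fin n → F, hermForm n F q u v = u ⬝ᵥ (fun i => frob hF (v i)) :=
    fun u v => rfl
  constructor
  · intro h
    ext i j
    have h3 := h (Pi.single i 1) (Pi.single j 1)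
    rw [key, key2] at h3
    have h4 : (fun k => frob hF ((Pi.single j (1 : F) : Fin n → F) k)) = Pi.single j 1 := by
      ext k
      rcases eq_or_ne k j with rfl | hk
      · simp
      · simp [hk]
    rw [h4] at h3
    simp only [Matrix.mulVec_single_one, single_one_dotProduct] at h3
    rw [Matrix.one_apply]
    simpa [Pi.single_apply] using h3
  · intro h u v
    rw [key, h, Matrix.one_mulVec]
    rfl

/-- A matrix preserving the Hermitian form has nonzero determinant. -/
theorem det_ne_zero_of_isom (hF : Fintype.card F = q ^ 2) {n : ℕ} (M : Matrix (Fin n) (Fin n) F)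
    (h : ∀ u v : Fin n → F, hermForm n F q (M *ᵥ u) (M *ᵥ v) = hermForm n F q u v) :
    M.det ≠ 0 := by
  have h1 := (mul_map_eq_one_iff hF M).1 h
  intro h2
  have h3 := congrArg Matrix.det h1
  rw [Matrix.det_mul, Matrix.det_transpose, h2, zero_mul, Matrix.det_one] at h3
  exact zero_ne_one h3

/-- Norm of the determinant. -/
theorem det_mul_frob_det (hF : Fintype.card F = q ^ 2) {n : ℕ} (M : Matrix (Fin n) (Fin n) F)
    (h : ∀ u v : Fin n → F, hermForm n F q (M *ᵥ u) (M *ᵥ v) = hermForm n F q u v) :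
    M.det ^ (q + 1) = 1 := by
  have h1 := (mul_map_eq_one_iff hF M).1 h
  have h3 := congrArg Matrix.det h1
  have h4 : (M.map (frob hF)).det = frob hF M.det := by
    rw [RingHom.map_det]; rfl
  rw [Matrix.det_mul, Matrix.det_transpose, Matrix.det_one, h4, frob_apply] at h3
  rw [pow_succ', h3]

/-- The element of `GU` with a given matrix preserving the form. -/
noncomputable def mkGU (hF : Fintype.card F = q ^ 2) {n : ℕ} (M : Matrix (Fin n) (Fin n) F)
    (h : ∀ u v : Fin n → F, hermForm n F q (M *ᵥ u) (M *ᵥ v) = hermForm n F q u v) :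
    Cfsg.GU n F q :=
  ⟨Matrix.GeneralLinearGroup.mkOfDetNeZero M (det_ne_zero_of_isom hF M h), h⟩

theorem coe_mkGU (hF : Fintype.card F = q ^ 2) {n : ℕ} (M : Matrix (Fin n) (Fin n) F)
    (h : ∀ u v : Fin n → F, hermForm n F q (M *ᵥ u) (M *ᵥ v) = hermForm n F q u v) :
    (((mkGU hF M h : Cfsg.GU n F q) : GL (Fin n) F) : Matrix (Fin n) (Fin n) F) = M := rfl

/-- The quasi-reflection moving `u` to `v`, when `h(u,v) ≠ 1`. -/
theorem exists_gu_map_of_ne (hF : Fintype.card F = q ^ 2) {n : ℕ} {u v : Fin n → F}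
    (hu : hermForm n F q u u = 1) (hv : hermForm n F q v v = 1) (huv : hermForm n F q u v ≠ 1) :
    ∃ g : Cfsg.GU n F q, ((g : GL (Fin n) F) : Matrix (Fin n) (Fin n) F) *ᵥ u = v := by
  set w : Fin n → F := u - v with hw
  set d : F := hermForm n F q u w with hd
  have hd1 : d = 1 - hermForm n F q u v := by rw [hd, hw, herm_sub_right hF, hu]
  have hd0 : d ≠ 0 := by rw [hd1]; exact sub_ne_zero.2 (Ne.symm huv)
  have hfd0 : frob hF d ≠ 0 := by
    rw [Ne, map_eq_zero]; exact hd0
  have hww : hermForm n F q w w = d + frob hF d := by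
    have h1 : hermForm n F q v w = hermForm n F q v u - 1 := by
      rw [hw, herm_sub_right hF, hv]
    have h2 : hermForm n F q w w = hermForm n F q u w - hermForm n F q v w := by
      conv_lhs => rw [hw, herm_sub_left hF]
    rw [h2, h1, ← hd, hd1, map_sub, map_one, frob_herm]
    ring
  set M : Matrix (Fin n) (Fin n) F :=
    1 + (-d⁻¹) • Matrix.vecMulVec w (fun i => frob hF (w i)) with hM
  have hMx : ∀ x, M *ᵥ x = x + (-d⁻¹ * hermForm n F q x w) • w := by
    intro x
    rw [hM, Matrix.add_mulVec, Matrix.one_mulVec, Matrix.smul_mulVec,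
      vecMulVec_mulVec_herm hF, smul_smul]
  have hiso : ∀ x y : Fin n → F, hermForm n F q (M *ᵥ x) (M *ᵥ y) = hermForm n F q x y := by
    intro x y
    have hwy : hermForm n F q w y = frob hF (hermForm n F q y w) := (frob_herm hF y w).symm
    rw [hMx, hMx, herm_add_left hF, herm_add_right hF, herm_add_right hF, herm_smul_left hF,
      herm_smul_right hF, herm_smul_left hF, herm_smul_right hF, hww, map_mul, map_neg,
      map_inv₀, hwy]
    generalize hermForm n F q x w = a at *
    generalize frob hF (hermForm n F q y w) = b at *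
    generalize frob hF d = e at *
    field_simp
    ring
  refine ⟨mkGU hF M hiso, ?_⟩
  rw [coe_mkGU, hMx, ← hd, neg_mul, inv_mul_cancel₀ hd0, neg_one_smul, hw]
  abel

/-- Scalars of norm one. -/
theorem exists_norm_one (hF : Fintype.card F = q ^ 2) : ∃ c : F, c ^ (q + 1) = 1 ∧ c ≠ 1 := by
  classical
  have hq := two_le hF
  have hcard : Nat.card Fˣ = q ^ 2 - 1 := by
    rw [Nat.card_eq_fintype_card, Fintype.card_units, hF]
  have hfac : q ^ 2 - 1 = (q + 1) * (q - 1) := by
    have := Nat.sq_sub_sq q 1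
    simpa using this
  have hker : Nat.card (powMonoidHom (q + 1) : Fˣ →* Fˣ).ker = q + 1 := by
    rw [IsCyclic.card_powMonoidHom_ker, hcard, hfac]
    simp
  have hnt : Nontrivial (powMonoidHom (q + 1) : Fˣ →* Fˣ).ker := by
    rw [← Finite.one_lt_card_iff_nontrivial, hker]
    omega
  obtain ⟨x, hx⟩ := exists_ne (1 : (powMonoidHom (q + 1) : Fˣ →* Fˣ).ker)
  refine ⟨((x : Fˣ) : F), ?_, ?_⟩
  · have := x.2
    rw [MonoidHom.mem_ker, powMonoidHom_apply] at this
    rw [← Units.val_pow_eq_pow_val, this, Units.val_one]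
  · intro h
    apply hx
    ext
    simpa using h

/-- `GU` is transitive on the vectors of norm one. -/
theorem exists_gu_map (hF : Fintype.card F = q ^ 2) {n : ℕ} {u v : Fin n → F}
    (hu : hermForm n F q u u = 1) (hv : hermForm n F q v v = 1) :
    ∃ g : Cfsg.GU n F q, ((g : GL (Fin n) F) : Matrix (Fin n) (Fin n) F) *ᵥ u = v := by
  by_cases huv : hermForm n F q u v = 1
  · obtain ⟨c, hc, hc1⟩ := exists_norm_one hF
    have hcc : c * frob hF c = 1 := by rw [frob_apply, ← pow_succ', hc]
    have h1 : hermForm n F q (c • u) (c • u) = 1 := by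
      rw [herm_smul_left hF, herm_smul_right hF, hu, mul_one, hcc]
    have h2 : hermForm n F q (c • u) v ≠ 1 := by
      rw [herm_smul_left hF, huv, mul_one]; exact hc1
    have h3 : hermForm n F q u (c • u) ≠ 1 := by
      rw [herm_smul_right hF, hu, mul_one]
      intro h
      rw [h, mul_one] at hcc
      exact hc1 hcc
    obtain ⟨g, hg⟩ := exists_gu_map_of_ne hF h1 hv h2
    obtain ⟨g', hg'⟩ := exists_gu_map_of_ne hF hu h1 h3
    refine ⟨g * g', ?_⟩
    rw [Subgroup.coe_mul, Units.val_mul, ← Matrix.mulVec_mulVec, hg', hg]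
  · exact exists_gu_map_of_ne hF hu hv huv

/-- A copy of `Fin n → F`, carrying the natural action of `GU`. -/
structure Vec (n : ℕ) (F : Type*) where
  /-- the underlying vector -/
  val : Fin n → F

theorem Vec.ext' {n : ℕ} {F : Type*} {a b : Vec n F} (h : a.val = b.val) : a = b := by
  cases a; cases b; cases h; rfl

/-- The natural action of `GU` on vectors. -/
instance guAction (n : ℕ) (F : Type*) [Field F] (q : ℕ) :
    MulAction (Cfsg.GU n F q) (Vec n F) where
  smul g v := ⟨((g : GL (Fin n) F) : Matrix (Fin n) (Fin n) F) *ᵥ v.val⟩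
  one_smul v := by
    apply Vec.ext'
    change (((1 : Cfsg.GU n F q) : GL (Fin n) F) : Matrix (Fin n) (Fin n) F) *ᵥ v.val = v.val
    rw [Subgroup.coe_one, Units.val_one, Matrix.one_mulVec]
  mul_smul a b v := by
    apply Vec.ext'
    change (((a * b : Cfsg.GU n F q) : GL (Fin n) F) : Matrix (Fin n) (Fin n) F) *ᵥ v.val =
      ((a : GL (Fin n) F) : Matrix (Fin n) (Fin n) F) *ᵥ
        (((b : GL (Fin n) F) : Matrix (Fin n) (Fin n) F) *ᵥ v.val)
    rw [Subgroup.coe_mul, Units.val_mul, Matrix.mulVec_mulVec]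

theorem smul_val {n : ℕ} {F : Type*} [Field F] {q : ℕ} (g : Cfsg.GU n F q) (v : Vec n F) :
    (g • v).val = ((g : GL (Fin n) F) : Matrix (Fin n) (Fin n) F) *ᵥ v.val := rfl

/-- The block matrix `diag(c, A)`. -/
def ext1 {n : ℕ} (c : F) (A : Matrix (Fin n) (Fin n) F) : Matrix (Fin (n + 1)) (Fin (n + 1)) F :=
  Matrix.of (Fin.cons (Fin.cons c (fun _ => 0)) (fun i => Fin.cons 0 (A i)))

omit [Fintype F] in
theorem ext1_mulVec_zero {n : ℕ} (c : F) (A : Matrix (Fin n) (Fin n) F) (v : Fin (n + 1) → F) :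
    (ext1 c A *ᵥ v) 0 = c * v 0 := by
  simp [ext1, Matrix.mulVec, dotProduct, Fin.sum_univ_succ]

omit [Fintype F] in
theorem ext1_mulVec_succ {n : ℕ} (c : F) (A : Matrix (Fin n) (Fin n) F) (v : Fin (n + 1) → F)
    (i : Fin n) : (ext1 c A *ᵥ v) i.succ = (A *ᵥ (fun j => v j.succ)) i := by
  simp [ext1, Matrix.mulVec, dotProduct, Fin.sum_univ_succ]

omit [Fintype F] in
theorem ext1_isom {n : ℕ} (c : F) (hc : c ^ (q + 1) = 1) (A : Matrix (Fin n) (Fin n) F)
    (hA : ∀ u v : Fin n → F, hermForm n F q (A *ᵥ u) (A *ᵥ v) = hermForm n F q u v)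
    (u v : Fin (n + 1) → F) :
    hermForm (n + 1) F q (ext1 c A *ᵥ u) (ext1 c A *ᵥ v) = hermForm (n + 1) F q u v := by
  rw [herm_succ, herm_succ, ext1_mulVec_zero, ext1_mulVec_zero]
  simp only [ext1_mulVec_succ]
  have h1 : hermForm n F q (fun i => (A *ᵥ fun j => u j.succ) i)
      (fun i => (A *ᵥ fun j => v j.succ) i) =
      hermForm n F q (fun i => u i.succ) (fun i => v i.succ) := hA _ _
  rw [h1, mul_pow]
  rw [pow_succ'] at hc
  congr 1
  calc c * u 0 * (c ^ q * v 0 ^ q) = (c * c ^ q) * (u 0 * v 0 ^ q) := by ring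
    _ = _ := by rw [hc, one_mul]

omit [Fintype F] in
theorem det_ext1 {n : ℕ} (c : F) (A : Matrix (Fin n) (Fin n) F) : (ext1 c A).det = c * A.det := by
  rw [Matrix.det_succ_row_zero, Fin.sum_univ_succ]
  have h1 : (ext1 c A).submatrix Fin.succ (Fin.succAbove 0) = A := by
    ext i j
    simp [ext1]
  have h2 : ∀ i : Fin n, ext1 c A 0 i.succ = 0 := by
    intro i; simp [ext1]
  simp only [h1, h2]
  simp [ext1]

/-- An isometry fixing the first basis vector has matrix `diag(1, A)`. -/
theorem eq_ext1_of_fix (hF : Fintype.card F = q ^ 2) {n : ℕ}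
    (M : Matrix (Fin (n + 1)) (Fin (n + 1)) F)
    (hM : ∀ u v, hermForm (n + 1) F q (M *ᵥ u) (M *ᵥ v) = hermForm (n + 1) F q u v)
    (hfix : M *ᵥ (Pi.single 0 1) = Pi.single 0 1) :
    M = ext1 1 (M.submatrix Fin.succ Fin.succ) := by
  have hcol : ∀ i, M i 0 = (Pi.single 0 (1 : F) : Fin (n + 1) → F) i := by
    intro i
    have := congrFun hfix i
    rwa [Matrix.mulVec_single_one] at this
  have hrow : ∀ j : Fin n, M 0 j.succ = 0 := by
    intro j
    have h := hM (Pi.single 0 1) (Pi.single j.succ 1)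
    rw [hfix, Matrix.mulVec_single_one] at h
    rw [herm_eq hF, herm_eq hF, Finset.sum_eq_single 0, Finset.sum_eq_single 0] at h
    · simp only [Pi.single_eq_same, one_mul] at h
      rw [Pi.single_eq_of_ne (Fin.succ_ne_zero j).symm, map_zero, map_eq_zero] at h
      exact h
    · intro b _ hb
      rw [Pi.single_eq_of_ne hb, zero_mul]
    · intro h; exact absurd (Finset.mem_univ _) h
    · intro b _ hb
      rw [Pi.single_eq_of_ne hb, zero_mul]
    · intro h; exact absurd (Finset.mem_univ _) h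
  ext i j
  refine Fin.cases ?_ (fun i => ?_) i
  · refine Fin.cases ?_ (fun j => ?_) j
    · rw [hcol]; simp [ext1]
    · rw [hrow]; simp [ext1]
  · refine Fin.cases ?_ (fun j => ?_) j
    · rw [hcol]; simp [ext1]
    · simp [ext1]

theorem submatrix_isom {n : ℕ} (hF : Fintype.card F = q ^ 2) (A : Matrix (Fin n) (Fin n) F)
    (hM : ∀ u v, hermForm (n + 1) F q (ext1 1 A *ᵥ u) (ext1 1 A *ᵥ v) = hermForm (n + 1) F q u v)
    (u v : Fin n → F) : hermForm n F q (A *ᵥ u) (A *ᵥ v) = hermForm n F q u v := by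
  have hq := two_le hF
  have h := hM (Fin.cons 0 u) (Fin.cons 0 v)
  rw [herm_succ, herm_succ, ext1_mulVec_zero, ext1_mulVec_zero] at h
  simp only [ext1_mulVec_succ, Fin.cons_zero, Fin.cons_succ, mul_zero, zero_mul, zero_add] at h
  exact h

/-- The stabiliser of the first basis vector in `GU (n + 1)` is `GU n`, as a bijection. -/
noncomputable def stabEquiv (hF : Fintype.card F = q ^ 2) (n : ℕ) :
    {g : Cfsg.GU (n + 1) F q //
      ((g : GL (Fin (n + 1)) F) : Matrix (Fin (n + 1)) (Fin (n + 1)) F) *ᵥ (Pi.single 0 1) =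
        Pi.single 0 1} ≃ Cfsg.GU n F q where
  toFun g := mkGU hF ((((g : Cfsg.GU (n + 1) F q) : GL (Fin (n + 1)) F) :
      Matrix (Fin (n + 1)) (Fin (n + 1)) F).submatrix Fin.succ Fin.succ) (by
        have h : (((g : Cfsg.GU (n + 1) F q) : GL (Fin (n + 1)) F) :
            Matrix (Fin (n + 1)) (Fin (n + 1)) F) = ext1 1
            ((((g : Cfsg.GU (n + 1) F q) : GL (Fin (n + 1)) F) :
            Matrix (Fin (n + 1)) (Fin (n + 1)) F).submatrix Fin.succ Fin.succ) :=
          eq_ext1_of_fix hF _ g.1.2 g.2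
        have h2 := g.1.2
        apply submatrix_isom hF
        intro u v
        have h3 := (mem_GU_iff _).1 h2 u v
        rw [h] at h3
        exact h3)
  invFun g := ⟨mkGU hF (ext1 1 ((g : GL (Fin n) F) : Matrix (Fin n) (Fin n) F))
      (ext1_isom 1 (one_pow _) _ g.2), by
        rw [coe_mkGU, Matrix.mulVec_single_one]
        ext i
        refine Fin.cases ?_ (fun i => ?_) i
        · simp [ext1]
        · simp [ext1]⟩
  left_inv g := by
    apply Subtype.ext
    apply Subtype.ext
    apply Units.ext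
    exact (eq_ext1_of_fix hF _ g.1.2 g.2).symm
  right_inv g := by
    apply Subtype.ext
    apply Units.ext
    rw [coe_mkGU]
    ext i j
    change ext1 1 _ i.succ j.succ = _
    simp [ext1]

theorem finite_GU (n : ℕ) : Finite (Cfsg.GU n F q) := by
  have : Finite (GL (Fin n) F) := inferInstance
  infer_instance

/-- Recursion for the order of `GU`. -/
theorem card_GU_succ (hF : Fintype.card F = q ^ 2) (n : ℕ) :
    Nat.card (Cfsg.GU (n + 1) F q) =
      Nat.card {v : Fin (n + 1) → F // hermForm (n + 1) F q v v = 1} *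
        Nat.card (Cfsg.GU n F q) := by
  have := finite_GU (F := F) (q := q) (n + 1)
  set e : Vec (n + 1) F := ⟨Pi.single 0 1⟩ with he
  have hee : hermForm (n + 1) F q e.val e.val = 1 := by
    rw [herm_def, Finset.sum_eq_single 0]
    · simp [he]
    · intro b _ hb
      rw [he]
      change (Pi.single 0 (1 : F) : Fin (n + 1) → F) b * _ = 0
      rw [Pi.single_eq_of_ne hb, zero_mul]
    · intro h; exact absurd (Finset.mem_univ _) h
  have horb : MulAction.orbit (Cfsg.GU (n + 1) F q) e =
      {v : Vec (n + 1) F | hermForm (n + 1) F q v.val v.val = 1} := by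
    ext v
    constructor
    · rintro ⟨g, rfl⟩
      have h := (mem_GU_iff _).1 g.2 e.val e.val
      rw [hee] at h
      exact h
    · intro hv
      obtain ⟨g, hg⟩ := exists_gu_map hF hee hv
      exact ⟨g, Vec.ext' hg⟩
  have hidx := MulAction.index_stabilizer (Cfsg.GU (n + 1) F q) e
  have hmul := Subgroup.card_mul_index (MulAction.stabilizer (Cfsg.GU (n + 1) F q) e)
  have hst : Nat.card (MulAction.stabilizer (Cfsg.GU (n + 1) F q) e) =
      Nat.card (Cfsg.GU n F q) := by
    refine Nat.card_congr (Equiv.trans (Equiv.subtypeEquivRight ?_) (stabEquiv hF n))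
    intro g
    rw [MulAction.mem_stabilizer_iff]
    constructor
    · intro h
      exact congrArg Vec.val h
    · intro h
      exact Vec.ext' h
  have hcard : ({v : Vec (n + 1) F | hermForm (n + 1) F q v.val v.val = 1}).ncard =
      Nat.card {v : Fin (n + 1) → F // hermForm (n + 1) F q v v = 1} := by
    rw [← Nat.card_coe_set_eq]
    exact Nat.card_congr
      { toFun := fun v => ⟨v.1.val, v.2⟩
        invFun := fun v => ⟨⟨v.1⟩, v.2⟩
        left_inv := fun v => rfl
        right_inv := fun v => rfl }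
  rw [← hmul, hidx, hst, horb, hcard, mul_comm]

/-- The number of scalars of norm one. -/
theorem card_ker_pow (hF : Fintype.card F = q ^ 2) :
    Nat.card (powMonoidHom (q + 1) : Fˣ →* Fˣ).ker = q + 1 := by
  classical
  have hcard : Nat.card Fˣ = q ^ 2 - 1 := by
    rw [Nat.card_eq_fintype_card, Fintype.card_units, hF]
  have hfac : q ^ 2 - 1 = (q + 1) * (q - 1) := by
    have := Nat.sq_sub_sq q 1
    simpa using this
  rw [IsCyclic.card_powMonoidHom_ker, hcard, hfac]
  simp

/-- The determinant on `GU`. -/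
noncomputable def detGU (n : ℕ) (F : Type*) [Field F] (q : ℕ) : Cfsg.GU n F q →* Fˣ :=
  Matrix.GeneralLinearGroup.det.comp (Cfsg.GU n F q).subtype

omit [Fintype F] in
theorem coe_detGU {n : ℕ} (g : Cfsg.GU n F q) :
    ((detGU n F q g : Fˣ) : F) = ((g : GL (Fin n) F) : Matrix (Fin n) (Fin n) F).det := rfl

theorem range_detGU (hF : Fintype.card F = q ^ 2) {n : ℕ} (hn : 1 ≤ n) :
    (detGU n F q).range = (powMonoidHom (q + 1) : Fˣ →* Fˣ).ker := by
  obtain ⟨n, rfl⟩ : ∃ m, n = m + 1 := ⟨n - 1, by omega⟩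
  ext c
  rw [MonoidHom.mem_range, MonoidHom.mem_ker, powMonoidHom_apply]
  constructor
  · rintro ⟨g, rfl⟩
    ext
    rw [Units.val_pow_eq_pow_val, coe_detGU, Units.val_one]
    exact det_mul_frob_det hF _ g.2
  · intro hc
    have hc' : (c : F) ^ (q + 1) = 1 := by
      rw [← Units.val_pow_eq_pow_val, hc, Units.val_one]
    refine ⟨mkGU hF (ext1 (c : F) 1) (ext1_isom _ hc' 1 (fun u v => by
      rw [Matrix.one_mulVec, Matrix.one_mulVec])), ?_⟩
    ext
    rw [coe_detGU, coe_mkGU, det_ext1, Matrix.det_one, mul_one]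

/-- The kernel of the determinant on `GU` is `SU`. -/
noncomputable def kerEquiv (n : ℕ) : (detGU n F q).ker ≃ Cfsg.SU n F q where
  toFun g := ⟨⟨((((g : Cfsg.GU n F q) : GL (Fin n) F)) : Matrix (Fin n) (Fin n) F), by
      have h := MonoidHom.mem_ker.1 g.2
      have h2 := congrArg (fun x : Fˣ => (x : F)) h
      exact h2⟩, fun u v => (mem_GU_iff _).1 g.1.2 u v⟩
  invFun g := ⟨⟨((g : Matrix.SpecialLinearGroup (Fin n) F) : GL (Fin n) F), fun u v => g.2 u v⟩, by
    rw [MonoidHom.mem_ker]
    ext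
    rw [coe_detGU, Units.val_one]
    exact g.1.2⟩
  left_inv g := by
    apply Subtype.ext
    apply Subtype.ext
    apply Units.ext
    rfl
  right_inv g := by
    apply Subtype.ext
    apply Subtype.ext
    rfl

theorem card_GU_eq (hF : Fintype.card F = q ^ 2) {n : ℕ} (hn : 1 ≤ n) :
    Nat.card (Cfsg.GU n F q) = (q + 1) * Nat.card (Cfsg.SU n F q) := by
  have := finite_GU (F := F) (q := q) n
  rw [← Subgroup.card_mul_index (detGU n F q).ker, Subgroup.index_ker, range_detGU hF hn,
    card_ker_pow hF, Nat.card_congr (kerEquiv n), mul_comm]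

/-- The order of `GU`, given the numbers of vectors of norm one. -/
theorem card_GU_of_count (hF : Fintype.card F = q ^ 2)
    (hcount : ∀ n : ℕ, Nat.card {v : Fin n → F // hermForm n F q v v = 1} =
      (if Even n then q ^ (n - 1) * (q ^ n - 1) else q ^ (n - 1) * (q ^ n + 1))) (n : ℕ) :
    Nat.card (Cfsg.GU n F q) = q ^ (n * (n - 1) / 2) *
      ∏ i ∈ Finset.range n, (if Even i then q ^ (i + 1) + 1 else q ^ (i + 1) - 1) := by
  induction n with
  | zero =>
    have : Subsingleton (Cfsg.GU 0 F q) := ⟨fun a b => by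
      apply Subtype.ext
      apply Units.ext
      exact Subsingleton.elim _ _⟩
    rw [Nat.card_eq_one_iff_unique.2 ⟨this, ⟨1⟩⟩]
    simp
  | succ n ih =>
    rw [card_GU_succ hF, ih, hcount, Finset.prod_range_succ]
    have h1 : (n + 1) * (n + 1 - 1) / 2 = n * (n - 1) / 2 + n := Nat.triangle_succ n
    rw [h1, pow_add, Nat.add_sub_cancel]
    by_cases hn : Even n
    · rw [if_pos hn, if_neg (by rw [Nat.even_add_one]; exact not_not.2 hn)]
      ring
    · rw [if_neg hn, if_pos (by rw [Nat.even_add_one]; exact hn)]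
      ring

end Cfsg.Agent.LieClassical.GUOrder
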