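import Mathlib
import Cfsg.Prelude.Def_Classical
import Cfsg.Prelude.Def_LieClassical

/-!
# The field with `q ^ 2` elements and the standard Hermitian form

`hF : Fintype.card F = q ^ 2` throughout. `x ↦ x ^ q` is an involutory automorphism of `F`; its fixed
field has `q` elements; norm `x * x ^ q` and trace `x + x ^ q` are surjective onto the fixed field.
Then the sesquilinear API of `Cfsg.hermForm n F q`.
-/

set_option autoImplicit false

namespace Cfsg.Agent.LieClassical.HermBasic

open Cfsg

section Field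

variable {F : Type*} [Field F] [Fintype F] {q : ℕ}

theorem two_le (hF : Fintype.card F = q ^ 2) : 2 ≤ q := by
  have h1 : 1 < Fintype.card F := Fintype.one_lt_card
  rcases q with _ | _ | q
  · simp [hF] at h1
  · simp [hF] at h1
  · omega

theorem q_pos (hF : Fintype.card F = q ^ 2) : 0 < q := by
  have := two_le hF; omega

theorem exists_prime_pow (hF : Fintype.card F = q ^ 2) :
    ∃ (p k : ℕ), p.Prime ∧ CharP F p ∧ q = p ^ k ∧ 0 < k := by
  obtain ⟨p, hp⟩ := CharP.exists F
  obtain ⟨n, hprime, hcard⟩ := FiniteField.card F p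
  have hdvd : q ∣ p ^ (n : ℕ) := by
    rw [← hcard, hF]; exact dvd_pow_self q two_ne_zero
  obtain ⟨k, -, hk⟩ := (Nat.dvd_prime_pow hprime).1 hdvd
  refine ⟨p, k, hprime, hp, hk, ?_⟩
  rcases Nat.eq_zero_or_pos k with h0 | h0
  · subst h0
    have := two_le hF
    simp at hk
    omega
  · exact h0

theorem pow_q_pow_q (hF : Fintype.card F = q ^ 2) (x : F) : (x ^ q) ^ q = x := by
  rw [← pow_mul, ← sq, ← hF]
  exact FiniteField.pow_card x

theorem add_pow_q (hF : Fintype.card F = q ^ 2) (x y : F) : (x + y) ^ q = x ^ q + y ^ q := by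
  obtain ⟨p, k, hp, hchar, hk, -⟩ := exists_prime_pow hF
  have := Fact.mk hp
  rw [hk]
  exact add_pow_char_pow x y p k

theorem zero_pow_q (hF : Fintype.card F = q ^ 2) : (0 : F) ^ q = 0 :=
  zero_pow (q_pos hF).ne'

theorem neg_pow_q (hF : Fintype.card F = q ^ 2) (x : F) : (-x) ^ q = -x ^ q := by
  have h := add_pow_q hF x (-x)
  rw [add_neg_cancel, zero_pow_q hF] at h
  exact (neg_eq_of_add_eq_zero_right h.symm).symm

theorem sub_pow_q (hF : Fintype.card F = q ^ 2) (x y : F) : (x - y) ^ q = x ^ q - y ^ q := by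
  rw [sub_eq_add_neg, add_pow_q hF, neg_pow_q hF, sub_eq_add_neg]

theorem sum_pow_q (hF : Fintype.card F = q ^ 2) {ι : Type*} (s : Finset ι) (f : ι → F) :
    (∑ i ∈ s, f i) ^ q = ∑ i ∈ s, f i ^ q := by
  classical
  induction s using Finset.induction_on with
  | empty => simp [zero_pow_q hF]
  | insert a s ha ih => rw [Finset.sum_insert ha, Finset.sum_insert ha, add_pow_q hF, ih]

/-- The involutory automorphism `x ↦ x ^ q`. -/
def conj (hF : Fintype.card F = q ^ 2) : F ≃+* F where
  toFun x := x ^ q
  invFun x := x ^ q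
  left_inv x := pow_q_pow_q hF x
  right_inv x := pow_q_pow_q hF x
  map_mul' x y := mul_pow x y q
  map_add' x y := add_pow_q hF x y

theorem conj_apply (hF : Fintype.card F = q ^ 2) (x : F) : conj hF x = x ^ q := rfl

theorem pow_q_inj (hF : Fintype.card F = q ^ 2) {x y : F} : x ^ q = y ^ q ↔ x = y :=
  (conj hF).injective.eq_iff

theorem pow_q_eq_zero (hF : Fintype.card F = q ^ 2) {x : F} : x ^ q = 0 ↔ x = 0 :=
  pow_eq_zero_iff (q_pos hF).ne'

theorem norm_pow_q (hF : Fintype.card F = q ^ 2) (x : F) : (x * x ^ q) ^ q = x * x ^ q := by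
  rw [mul_pow, pow_q_pow_q hF, mul_comm]

theorem trace_pow_q (hF : Fintype.card F = q ^ 2) (x : F) : (x + x ^ q) ^ q = x + x ^ q := by
  rw [add_pow_q hF, pow_q_pow_q hF, add_comm]

theorem norm_eq_zero (hF : Fintype.card F = q ^ 2) {x : F} : x * x ^ q = 0 ↔ x = 0 := by
  rw [mul_eq_zero, pow_q_eq_zero hF, or_self]

omit [Fintype F] in
theorem norm_mul (x y : F) : (x * y) * (x * y) ^ q = (x * x ^ q) * (y * y ^ q) := by
  rw [mul_pow]; ring

theorem card_units_eq (hF : Fintype.card F = q ^ 2) : Nat.card Fˣ = (q + 1) * (q - 1) := by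
  classical
  rw [Nat.card_eq_fintype_card, Fintype.card_units, hF]
  have := two_le hF
  obtain ⟨m, rfl⟩ : ∃ m, q = m + 1 := ⟨q - 1, by omega⟩
  simp only [Nat.add_sub_cancel]
  have : (m + 1) ^ 2 = (m + 1 + 1) * m + 1 := by ring
  omega

/-- The norm is surjective onto the fixed field. -/
theorem exists_norm_eq (hF : Fintype.card F = q ^ 2) {c : F} (hc : c ^ q = c) :
    ∃ x : F, x * x ^ q = c := by
  classical
  by_cases h0 : c = 0
  · exact ⟨0, by rw [h0, zero_mul]⟩
  · have h2 := two_le hF
    obtain ⟨g, hg⟩ := IsCyclic.exists_generator (α := Fˣ)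
    obtain ⟨k, hk⟩ := (mem_powers_iff_mem_zpowers.2 (hg (Units.mk0 c h0)))
    have hord : orderOf g = (q + 1) * (q - 1) := by
      rw [← card_units_eq hF]; exact orderOf_eq_card_of_forall_mem_zpowers hg
    have hc1 : (Units.mk0 c h0) ^ (q - 1) = 1 := by
      ext
      simp only [Units.val_pow_eq_pow_val, Units.val_mk0, Units.val_one]
      have : c ^ (q - 1) * c = 1 * c := by
        rw [← pow_succ, Nat.sub_add_cancel (by omega), hc, one_mul]
      exact mul_right_cancel₀ h0 this
    have hk' : g ^ k = Units.mk0 c h0 := hk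
    rw [← hk', ← pow_mul] at hc1
    have hdvd : (q + 1) * (q - 1) ∣ k * (q - 1) := by
      rw [← hord]; exact orderOf_dvd_of_pow_eq_one hc1
    have hdvd' : (q + 1) ∣ k := Nat.dvd_of_mul_dvd_mul_right (by omega) hdvd
    obtain ⟨m, hm⟩ := hdvd'
    refine ⟨((g ^ m : Fˣ) : F), ?_⟩
    rw [← pow_succ', ← Units.val_pow_eq_pow_val, ← pow_mul, mul_comm m, ← hm, hk', Units.val_mk0]

/-- Nonzero fixed element as norm of a nonzero element. -/
theorem exists_norm_eq_ne (hF : Fintype.card F = q ^ 2) {c : F} (hc : c ^ q = c) (h0 : c ≠ 0) :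
    ∃ x : F, x ≠ 0 ∧ x * x ^ q = c := by
  obtain ⟨x, hx⟩ := exists_norm_eq hF hc
  refine ⟨x, ?_, hx⟩
  rintro rfl
  exact h0 (by rw [← hx, zero_mul])

theorem card_norm_eq_one (hF : Fintype.card F = q ^ 2) :
    Nat.card {x : F // x * x ^ q = 1} = q + 1 := by
  classical
  have h2 := two_le hF
  have hker : Nat.card (powMonoidHom (q + 1) : Fˣ →* Fˣ).ker = q + 1 := by
    rw [IsCyclic.card_powMonoidHom_ker, card_units_eq hF]
    exact Nat.gcd_eq_right (Dvd.intro _ rfl)
  rw [← hker]
  apply Nat.card_congr
  refine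
    { toFun := fun x => ⟨Units.mk0 x.1 (fun h => by
        have := x.2; rw [h, zero_mul] at this; exact zero_ne_one this), ?_⟩
      invFun := fun x => ⟨((x.1 : Fˣ) : F), ?_⟩
      left_inv := fun x => rfl
      right_inv := fun x => ?_ }
  · rw [MonoidHom.mem_ker]
    ext
    simp only [powMonoidHom_apply, Units.val_pow_eq_pow_val, Units.val_mk0, Units.val_one]
    rw [pow_succ']; exact x.2
  · have := x.2
    rw [MonoidHom.mem_ker, powMonoidHom_apply] at this
    rw [← pow_succ', ← Units.val_pow_eq_pow_val, this, Units.val_one]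
  · ext; rfl

/-- Every nonzero element of the fixed field is the norm of exactly `q + 1` elements. -/
theorem card_norm_eq (hF : Fintype.card F = q ^ 2) {c : F} (hc : c ^ q = c) (h0 : c ≠ 0) :
    Nat.card {x : F // x * x ^ q = c} = q + 1 := by
  obtain ⟨y, hy0, hy⟩ := exists_norm_eq_ne hF hc h0
  rw [← card_norm_eq_one hF]
  apply Nat.card_congr
  refine
    { toFun := fun x => ⟨x.1 * y⁻¹, ?_⟩
      invFun := fun x => ⟨x.1 * y, ?_⟩
      left_inv := fun x => Subtype.ext (by simp [mul_assoc, inv_mul_cancel₀ hy0])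
      right_inv := fun x => Subtype.ext (by simp [mul_assoc, mul_inv_cancel₀ hy0]) }
  · have hx := x.2
    rw [norm_mul, hx, ← hy, inv_pow]
    have : y ^ q ≠ 0 := pow_ne_zero _ hy0
    field_simp
  · rw [norm_mul, x.2, hy, one_mul]

/-- The fixed field has `q` elements. -/
theorem card_fixed (hF : Fintype.card F = q ^ 2) : Nat.card {x : F // x ^ q = x} = q := by
  classical
  have h2 := two_le hF
  -- nonzero fixed elements = kernel of the `(q-1)`-th power
  have hker : Nat.card (powMonoidHom (q - 1) : Fˣ →* Fˣ).ker = q - 1 := by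
    rw [IsCyclic.card_powMonoidHom_ker, card_units_eq hF]
    exact Nat.gcd_eq_right (Dvd.intro_left _ rfl)
  have e : {x : F // x ^ q = x} ≃ Option (powMonoidHom (q - 1) : Fˣ →* Fˣ).ker := by
    refine
      { toFun := fun x => if h : x.1 = 0 then none else some ⟨Units.mk0 x.1 h, ?_⟩
        invFun := fun o => o.elim ⟨0, zero_pow_q hF⟩ (fun u => ⟨((u.1 : Fˣ) : F), ?_⟩)
        left_inv := fun x => ?_
        right_inv := fun o => ?_ }
    · rw [MonoidHom.mem_ker]
      ext
      simp only [powMonoidHom_apply, Units.val_pow_eq_pow_val, Units.val_mk0, Units.val_one]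
      have : x.1 ^ (q - 1) * x.1 = 1 * x.1 := by
        rw [← pow_succ, Nat.sub_add_cancel (by omega), x.2, one_mul]
      exact mul_right_cancel₀ h this
    · have := u.2
      rw [MonoidHom.mem_ker, powMonoidHom_apply] at this
      have h3 : ((u.1 : Fˣ) : F) ^ (q - 1) = 1 := by
        rw [← Units.val_pow_eq_pow_val, this, Units.val_one]
      calc ((u.1 : Fˣ) : F) ^ q = ((u.1 : Fˣ) : F) ^ (q - 1 + 1) := by
            rw [Nat.sub_add_cancel (by omega)]
        _ = _ := by rw [pow_succ, h3, one_mul]
    · by_cases h : x.1 = 0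
      · simp only [h, dite_true, Option.elim]
        exact Subtype.ext h.symm
      · simp only [h, dite_false, Option.elim]
        exact Subtype.ext rfl
    · cases o with
      | none => simp
      | some u =>
        simp
  rw [Nat.card_congr e, Finite.card_option, hker]
  omega

/-- There is an element outside the fixed field. -/
theorem exists_not_fixed (hF : Fintype.card F = q ^ 2) : ∃ x : F, x ^ q ≠ x := by
  by_contra hcon
  push Not at hcon
  have h1 : Nat.card {x : F // x ^ q = x} = Nat.card F :=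
    Nat.card_congr (Equiv.subtypeUnivEquiv hcon)
  rw [card_fixed hF, Nat.card_eq_fintype_card, hF] at h1
  have h2 := two_le hF
  nlinarith

/-- There is a nonzero element of trace zero. -/
theorem exists_trace_zero_ne (hF : Fintype.card F = q ^ 2) : ∃ x : F, x ≠ 0 ∧ x + x ^ q = 0 := by
  obtain ⟨x, hx⟩ := exists_not_fixed hF
  refine ⟨x - x ^ q, sub_ne_zero.2 (Ne.symm hx), ?_⟩
  rw [sub_pow_q hF, pow_q_pow_q hF]; ring

/-- There is an element of nonzero trace. -/
theorem exists_trace_ne (hF : Fintype.card F = q ^ 2) : ∃ x : F, x + x ^ q ≠ 0 := by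
  by_contra hcon
  push Not at hcon
  obtain ⟨x, hx⟩ := exists_not_fixed hF
  -- `1 + 1 = 0`, hence `x ^ q = - x = x`
  have h1 := hcon 1
  rw [one_pow] at h1
  have h2 := hcon x
  apply hx
  have : x ^ q = -x := (neg_eq_of_add_eq_zero_right h2).symm
  rw [this]
  have h3 : x + x = 0 := by
    have := congrArg (fun t => x * t) h1
    simpa [mul_add] using this
  exact neg_eq_of_add_eq_zero_left h3

/-- The trace is surjective onto the fixed field. -/
theorem exists_trace_eq (hF : Fintype.card F = q ^ 2) {c : F} (hc : c ^ q = c) :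
    ∃ x : F, x + x ^ q = c := by
  obtain ⟨x, hx⟩ := exists_trace_ne hF
  refine ⟨c * (x + x ^ q)⁻¹ * x, ?_⟩
  rw [mul_pow, mul_pow, hc, inv_pow, trace_pow_q hF, ← mul_add, mul_assoc,
    inv_mul_cancel₀ hx, mul_one]

/-- If `Tr (c * a) = 0` for all `c` then `a = 0`. -/
theorem eq_zero_of_forall_trace (hF : Fintype.card F = q ^ 2) {a : F}
    (h : ∀ c : F, c * a + (c * a) ^ q = 0) : a = 0 := by
  by_contra ha
  obtain ⟨x, hx⟩ := exists_trace_ne hF
  apply hx
  have := h (x * a⁻¹)
  rwa [mul_assoc, inv_mul_cancel₀ ha, mul_one] at this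

end Field

/-! ### The form -/

section Form

variable {F : Type*} [Field F] {q n : ℕ}

theorem herm_def (u v : Fin n → F) : hermForm n F q u v = ∑ i, u i * v i ^ q := rfl

theorem herm_add_left (u u' v : Fin n → F) :
    hermForm n F q (u + u') v = hermForm n F q u v + hermForm n F q u' v := by
  simp only [herm_def, Pi.add_apply, add_mul, Finset.sum_add_distrib]

theorem herm_smul_left (c : F) (u v : Fin n → F) :
    hermForm n F q (c • u) v = c * hermForm n F q u v := by
  simp only [herm_def, Pi.smul_apply, smul_eq_mul, mul_assoc, Finset.mul_sum]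

theorem herm_zero_left (v : Fin n → F) : hermForm n F q 0 v = 0 := by
  simp [herm_def]

theorem herm_neg_left (u v : Fin n → F) :
    hermForm n F q (-u) v = -hermForm n F q u v := by
  simp only [herm_def, Pi.neg_apply, neg_mul, Finset.sum_neg_distrib]

theorem herm_sub_left (u u' v : Fin n → F) :
    hermForm n F q (u - u') v = hermForm n F q u v - hermForm n F q u' v := by
  rw [sub_eq_add_neg, herm_add_left, herm_neg_left, sub_eq_add_neg]

theorem herm_sum_left {ι : Type*} (s : Finset ι) (f : ι → Fin n → F) (v : Fin n → F) :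
    hermForm n F q (∑ i ∈ s, f i) v = ∑ i ∈ s, hermForm n F q (f i) v := by
  classical
  induction s using Finset.induction_on with
  | empty => simp [herm_zero_left]
  | insert a s ha ih => rw [Finset.sum_insert ha, Finset.sum_insert ha, herm_add_left, ih]

variable [Fintype F]

theorem herm_add_right (hF : Fintype.card F = q ^ 2) (u v v' : Fin n → F) :
    hermForm n F q u (v + v') = hermForm n F q u v + hermForm n F q u v' := by
  simp only [herm_def, Pi.add_apply, add_pow_q hF, mul_add, Finset.sum_add_distrib]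

omit [Fintype F] in
theorem herm_smul_right (c : F) (u v : Fin n → F) :
    hermForm n F q u (c • v) = c ^ q * hermForm n F q u v := by
  simp only [herm_def, Pi.smul_apply, smul_eq_mul, mul_pow, Finset.mul_sum]
  exact Finset.sum_congr rfl fun i _ => by ring

theorem herm_zero_right (hF : Fintype.card F = q ^ 2) (u : Fin n → F) :
    hermForm n F q u 0 = 0 := by
  simp [herm_def, zero_pow_q hF]

theorem herm_neg_right (hF : Fintype.card F = q ^ 2) (u v : Fin n → F) :
    hermForm n F q u (-v) = -hermForm n F q u v := by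
  simp only [herm_def, Pi.neg_apply, neg_pow_q hF, mul_neg, Finset.sum_neg_distrib]

theorem herm_sub_right (hF : Fintype.card F = q ^ 2) (u v v' : Fin n → F) :
    hermForm n F q u (v - v') = hermForm n F q u v - hermForm n F q u v' := by
  rw [sub_eq_add_neg, herm_add_right hF, herm_neg_right hF, sub_eq_add_neg]

theorem herm_sum_right (hF : Fintype.card F = q ^ 2) {ι : Type*} (s : Finset ι)
    (f : ι → Fin n → F) (u : Fin n → F) :
    hermForm n F q u (∑ i ∈ s, f i) = ∑ i ∈ s, hermForm n F q u (f i) := by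
  classical
  induction s using Finset.induction_on with
  | empty => simp [herm_zero_right hF]
  | insert a s ha ih => rw [Finset.sum_insert ha, Finset.sum_insert ha, herm_add_right hF, ih]

theorem herm_swap (hF : Fintype.card F = q ^ 2) (u v : Fin n → F) :
    hermForm n F q v u = (hermForm n F q u v) ^ q := by
  simp only [herm_def, sum_pow_q hF, mul_pow, pow_q_pow_q hF]
  exact Finset.sum_congr rfl fun i _ => mul_comm _ _

theorem herm_self_pow (hF : Fintype.card F = q ^ 2) (u : Fin n → F) :
    (hermForm n F q u u) ^ q = hermForm n F q u u :=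
  (herm_swap hF u u).symm

theorem herm_eq_zero_swap (hF : Fintype.card F = q ^ 2) {u v : Fin n → F}
    (h : hermForm n F q u v = 0) : hermForm n F q v u = 0 := by
  rw [herm_swap hF, h, zero_pow_q hF]

theorem herm_single_right (hF : Fintype.card F = q ^ 2) (u : Fin n → F) (i : Fin n) (a : F) :
    hermForm n F q u (Pi.single i a) = u i * a ^ q := by
  classical
  rw [herm_def, Finset.sum_eq_single i]
  · rw [Pi.single_eq_same]
  · intro j _ hj
    rw [Pi.single_eq_of_ne hj, zero_pow_q hF, mul_zero]
  · intro h; exact absurd (Finset.mem_univ i) h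

omit [Fintype F] in
theorem herm_single_left (u : Fin n → F) (i : Fin n) (a : F) :
    hermForm n F q (Pi.single i a) u = a * u i ^ q := by
  classical
  rw [herm_def, Finset.sum_eq_single i]
  · rw [Pi.single_eq_same]
  · intro j _ hj
    rw [Pi.single_eq_of_ne hj, zero_mul]
  · intro h; exact absurd (Finset.mem_univ i) h

theorem herm_nondeg (hF : Fintype.card F = q ^ 2) {u : Fin n → F}
    (h : ∀ v, hermForm n F q u v = 0) : u = 0 := by
  funext i
  have := h (Pi.single i 1)
  rwa [herm_single_right hF, one_pow, mul_one] at this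

theorem exists_herm_ne_zero (hF : Fintype.card F = q ^ 2) {u : Fin n → F} (hu : u ≠ 0) :
    ∃ v, hermForm n F q u v ≠ 0 := by
  by_contra hcon
  push Not at hcon
  exact hu (herm_nondeg hF hcon)

end Form

/-! ### Membership in the groups -/

section Groups

variable {F : Type*} [Field F] {q n : ℕ}

theorem mem_SU_iff (g : Matrix.SpecialLinearGroup (Fin n) F) :
    g ∈ SU n F q ↔ ∀ u v : Fin n → F,
      hermForm n F q ((g : Matrix (Fin n) (Fin n) F).mulVec u)
        ((g : Matrix (Fin n) (Fin n) F).mulVec v) = hermForm n F q u v :=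
  Iff.rfl

theorem mem_GU_iff (g : Matrix.GeneralLinearGroup (Fin n) F) :
    g ∈ GU n F q ↔ ∀ u v : Fin n → F,
      hermForm n F q ((g : Matrix (Fin n) (Fin n) F).mulVec u)
        ((g : Matrix (Fin n) (Fin n) F).mulVec v) = hermForm n F q u v :=
  Iff.rfl

end Groups

end Cfsg.Agent.LieClassical.HermBasic
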