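import Cfsg.Agent.LieClassical.GLTwoUnipotent

/-!
# Unipotent (Sylow `p`-) subgroups of `SL₂` over a (finite) field

* `u x = !![1, x; 0, 1]`, `l x = !![1, 0; x, 1]` in `SL₂(F)`, `eq_top_of_u_mem_of_l_mem`:
  they generate `SL₂(F)` (any field).
* `upperUnipSL F`, `upperUnipSylowSL F p`.
* `sylow_sup_eq_top`: any two distinct Sylow `p`-subgroups generate `SL₂(q)`.
-/

set_option autoImplicit false

namespace Cfsg.Agent.LieClassical.SLTwoUnipotent

open Matrix
open scoped Pointwise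
open Cfsg.Agent.LieClassical.GLTwoUnipotent

section Field

variable {F : Type*} [Field F]

theorem ext_coe {A B : SpecialLinearGroup (Fin 2) F}
    (h : (A : Matrix (Fin 2) (Fin 2) F) = (B : Matrix (Fin 2) (Fin 2) F)) : A = B :=
  Subtype.ext h

theorem coe_mul (A B : SpecialLinearGroup (Fin 2) F) :
    ((A * B : SpecialLinearGroup (Fin 2) F) : Matrix (Fin 2) (Fin 2) F) =
      (A : Matrix (Fin 2) (Fin 2) F) * (B : Matrix (Fin 2) (Fin 2) F) := rfl

theorem coe_one :
    ((1 : SpecialLinearGroup (Fin 2) F) : Matrix (Fin 2) (Fin 2) F) = !![1, 0; 0, 1] :=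
  Matrix.one_fin_two

/-- The matrix `!![1, x; 0, 1]` in `SL₂(F)`. -/
def u (x : F) : SpecialLinearGroup (Fin 2) F := ⟨!![1, x; 0, 1], by simp⟩

/-- The matrix `!![1, 0; x, 1]` in `SL₂(F)`. -/
def l (x : F) : SpecialLinearGroup (Fin 2) F := ⟨!![1, 0; x, 1], by simp⟩

theorem coe_u (x : F) : ((u x : SpecialLinearGroup (Fin 2) F) : Matrix (Fin 2) (Fin 2) F) =
    !![1, x; 0, 1] := rfl

theorem coe_l (x : F) : ((l x : SpecialLinearGroup (Fin 2) F) : Matrix (Fin 2) (Fin 2) F) =
    !![1, 0; x, 1] := rfl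

theorem u_add (x y : F) : u (x + y) = u x * u y := by
  apply ext_coe
  rw [coe_mul, coe_u, coe_u, coe_u]
  simp [add_comm]

theorem u_zero : u (0 : F) = 1 := by
  apply ext_coe
  rw [coe_u, coe_one]

theorem u_neg (x : F) : u (-x) = (u x)⁻¹ := by
  rw [eq_inv_iff_mul_eq_one, ← u_add, neg_add_cancel, u_zero]

theorem l_add (x y : F) : l (x + y) = l x * l y := by
  apply ext_coe
  rw [coe_mul, coe_l, coe_l, coe_l]
  simp

theorem l_zero : l (0 : F) = 1 := by
  apply ext_coe
  rw [coe_l, coe_one]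

theorem l_neg (x : F) : l (-x) = (l x)⁻¹ := by
  rw [eq_inv_iff_mul_eq_one, ← l_add, neg_add_cancel, l_zero]

/-- The `u l u` decomposition of an element of `SL₂(F)` whose lower left entry is not zero. -/
theorem eq_u_mul_l_mul_u (g : SpecialLinearGroup (Fin 2) F) (h : g 1 0 ≠ 0) :
    g = u ((g 0 0 - 1) / g 1 0) * l (g 1 0) * u ((g 1 1 - 1) / g 1 0) := by
  apply ext_coe
  have hdet : g 0 0 * g 1 1 - g 0 1 * g 1 0 = 1 := by
    rw [← Matrix.det_fin_two, g.det_coe]
  rw [coe_mul, coe_mul, coe_u, coe_u, coe_l,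
    Matrix.mul_fin_two, Matrix.mul_fin_two]
  ext i j
  fin_cases i <;> fin_cases j
  · simp [h]
  · simp
    field_simp
    linear_combination -hdet
  · simp
  · simp
    field_simp
    ring

/-- `SL₂(F)` is generated by the upper and the lower unitriangular matrices. -/
theorem eq_top_of_u_mem_of_l_mem (H : Subgroup (SpecialLinearGroup (Fin 2) F))
    (hu : ∀ x, u x ∈ H) (hl : ∀ x, l x ∈ H) : H = ⊤ := by
  have key : ∀ g : SpecialLinearGroup (Fin 2) F, g 1 0 ≠ 0 → g ∈ H := by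
    intro g hg
    rw [eq_u_mul_l_mul_u g hg]
    exact H.mul_mem (H.mul_mem (hu _) (hl _)) (hu _)
  rw [eq_top_iff]
  intro g _
  by_cases hg : g 1 0 = 0
  · have hdet : g 0 0 * g 1 1 - g 0 1 * g 1 0 = 1 := by
      rw [← Matrix.det_fin_two, g.det_coe]
    have h0 : g 0 0 ≠ 0 := by
      intro h0
      rw [h0, hg] at hdet
      simp at hdet
    have h1 : l 1 * g ∈ H := by
      apply key
      rw [coe_mul, coe_l]
      simp [Matrix.mul_apply, Fin.sum_univ_two, hg, h0]
    have := H.mul_mem (H.inv_mem (hl 1)) h1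
    simpa using this
  · exact key g hg

/-- The subgroup of `SL₂(F)` of upper unitriangular matrices. -/
def upperUnipSL (F : Type*) [Field F] : Subgroup (SpecialLinearGroup (Fin 2) F) :=
  (upperUnip F).comap SpecialLinearGroup.toGL

theorem mem_upperUnipSL_iff {g : SpecialLinearGroup (Fin 2) F} :
    g ∈ upperUnipSL F ↔ g 0 0 = 1 ∧ g 1 0 = 0 ∧ g 1 1 = 1 :=
  mem_upperUnip_iff (g := SpecialLinearGroup.toGL g)

theorem u_mem_upperUnipSL (x : F) : u x ∈ upperUnipSL F := by
  rw [mem_upperUnipSL_iff, coe_u]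
  simp

theorem eq_u_of_mem_upperUnipSL {g : SpecialLinearGroup (Fin 2) F} (hg : g ∈ upperUnipSL F) :
    g = u (g 0 1) := by
  rw [mem_upperUnipSL_iff] at hg
  obtain ⟨h1, h2, h3⟩ := hg
  apply ext_coe
  rw [coe_u]
  ext i j
  fin_cases i <;> fin_cases j <;> simp [h1, h2, h3]

theorem mem_upperUnipSL_iff_exists {g : SpecialLinearGroup (Fin 2) F} :
    g ∈ upperUnipSL F ↔ ∃ x, g = u x :=
  ⟨fun h => ⟨_, eq_u_of_mem_upperUnipSL h⟩, fun ⟨x, hx⟩ => hx ▸ u_mem_upperUnipSL x⟩

theorem upperUnip_le_range_toGL :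
    upperUnip F ≤ (SpecialLinearGroup.toGL : SpecialLinearGroup (Fin 2) F →* _).range := by
  intro g hg
  rw [mem_upperUnip_iff] at hg
  obtain ⟨h1, h2, h3⟩ := hg
  refine ⟨u (g 0 1), ?_⟩
  ext i j
  change (u (g 0 1) : Matrix (Fin 2) (Fin 2) F) i j = g i j
  rw [coe_u]
  fin_cases i <;> fin_cases j <;> simp [h1, h2, h3]

theorem card_upperUnipSL : Nat.card (upperUnipSL F) = Nat.card F := by
  have h : (upperUnipSL F).map SpecialLinearGroup.toGL = upperUnip F :=
    Subgroup.map_comap_eq_self upperUnip_le_range_toGL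
  rw [← card_upperUnip (F := F), ← h,
    Subgroup.card_map_of_injective SpecialLinearGroup.toGL_injective]

/-- For `g` not upper triangular, `g` conjugates some upper unitriangular matrix to
`u (g 0 0 / g 1 0) * l x * u (-g 0 0 / g 1 0)`. -/
theorem conj_u_eq (g : SpecialLinearGroup (Fin 2) F) (h : g 1 0 ≠ 0) (x : F) :
    g * u (-x / (g 1 0) ^ 2) * g⁻¹ = u (g 0 0 / g 1 0) * l x * (u (g 0 0 / g 1 0))⁻¹ := by
  rw [mul_inv_eq_iff_eq_mul, mul_assoc, mul_assoc, ← u_neg]
  apply ext_coe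
  have hdet : g 0 0 * g 1 1 - g 0 1 * g 1 0 = 1 := by
    rw [← Matrix.det_fin_two, g.det_coe]
  rw [coe_mul, coe_mul, coe_mul, coe_mul, coe_u, coe_u, coe_u, coe_l]
  have hg := Matrix.eta_fin_two (g : Matrix (Fin 2) (Fin 2) F)
  set a := g 0 0
  set b := g 0 1
  set c := g 1 0
  set d := g 1 1
  rw [hg]
  simp only [Matrix.mul_fin_two]
  ext i j
  fin_cases i <;> fin_cases j
  · simp
    field_simp
    ring
  · simp
    field_simp
    linear_combination a * x * hdet
  · simp
    field_simp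
    simp
  · simp
    field_simp
    linear_combination x * hdet

/-- If `g` is not upper triangular, then `U` and `g U g⁻¹` generate `SL₂(F)`. -/
theorem upperUnipSL_sup_conj_eq_top (g : SpecialLinearGroup (Fin 2) F) (h : g 1 0 ≠ 0)
    (H : Subgroup (SpecialLinearGroup (Fin 2) F)) (h1 : upperUnipSL F ≤ H)
    (h2 : ∀ x, g * u x * g⁻¹ ∈ H) : H = ⊤ := by
  apply eq_top_of_u_mem_of_l_mem H (fun x => h1 (u_mem_upperUnipSL x))
  intro x
  have h3 := h2 (-x / (g 1 0) ^ 2)
  rw [conj_u_eq g h x] at h3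
  have h4 : u (g 0 0 / g 1 0) ∈ H := h1 (u_mem_upperUnipSL _)
  have h5 := H.mul_mem (H.mul_mem (H.inv_mem h4) h3) h4
  simpa [mul_assoc] using h5

theorem apply_one_zero_eq_zero_of_conj_SL {c v : SpecialLinearGroup (Fin 2) F}
    (hu : v ∈ upperUnipSL F) (hu1 : v ≠ 1) (hc : c * v * c⁻¹ ∈ upperUnipSL F) : c 1 0 = 0 := by
  refine apply_one_zero_eq_zero_of_conj (c := SpecialLinearGroup.toGL c)
    (u := SpecialLinearGroup.toGL v) hu ?_ ?_
  · intro h
    exact hu1 (SpecialLinearGroup.toGL_injective (h.trans (map_one _).symm))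
  · have : SpecialLinearGroup.toGL (c * v * c⁻¹) ∈ upperUnip F := hc
    rwa [map_mul, map_mul, map_inv] at this

theorem conj_mem_upperUnipSL {c v : SpecialLinearGroup (Fin 2) F}
    (hc : c 1 0 = 0) (hu : v ∈ upperUnipSL F) : c * v * c⁻¹ ∈ upperUnipSL F := by
  have h := conj_mem_upperUnip (c := SpecialLinearGroup.toGL c)
    (u := SpecialLinearGroup.toGL v) hc hu
  have h' : SpecialLinearGroup.toGL (c * v * c⁻¹) ∈ upperUnip F := by
    rwa [map_mul, map_mul, map_inv]
  exact h'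

theorem exists_mem_upperUnipSL_ne_one : ∃ v ∈ upperUnipSL F, v ≠ 1 := by
  refine ⟨u 1, u_mem_upperUnipSL 1, fun h => ?_⟩
  have h1 := congrArg (fun g : SpecialLinearGroup (Fin 2) F => g 0 1) h
  simp only [coe_u, coe_one] at h1
  simp at h1

/-- The normaliser of the upper unitriangular subgroup of `SL₂(F)` is the Borel subgroup of
upper triangular matrices. -/
theorem mem_normalizer_upperUnipSL_iff {c : SpecialLinearGroup (Fin 2) F} :
    c ∈ Subgroup.normalizer (upperUnipSL F : Set (SpecialLinearGroup (Fin 2) F)) ↔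
      c 1 0 = 0 := by
  rw [Subgroup.mem_normalizer_iff]
  constructor
  · intro h
    obtain ⟨v, hv, hv1⟩ := exists_mem_upperUnipSL_ne_one (F := F)
    exact apply_one_zero_eq_zero_of_conj_SL hv hv1 ((h v).1 hv)
  · intro h v
    refine ⟨fun hv => conj_mem_upperUnipSL h hv, fun hv => ?_⟩
    have hinv : c⁻¹ 1 0 = 0 := by
      rw [SpecialLinearGroup.SL2_inv_expl]
      simp [h]
    have := conj_mem_upperUnipSL hinv hv
    simpa [mul_assoc] using this

end Field

section Finite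

variable {F : Type*} [Field F] [Fintype F]

variable (F) in
/-- The upper unitriangular subgroup of `SL₂(q)`, as a Sylow `p`-subgroup. -/
def upperUnipSylowSL (p : ℕ) [Fact p.Prime] [CharP F p] :
    Sylow p (SpecialLinearGroup (Fin 2) F) :=
  (upperUnipSylow F p).comapOfInjective SpecialLinearGroup.toGL
    SpecialLinearGroup.toGL_injective upperUnip_le_range_toGL

theorem coe_upperUnipSylowSL (p : ℕ) [Fact p.Prime] [CharP F p] :
    (upperUnipSylowSL F p : Subgroup (SpecialLinearGroup (Fin 2) F)) = upperUnipSL F := rfl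

/-- Every Sylow `p`-subgroup of `SL₂(q)` is conjugate to the upper unitriangular one. -/
theorem exists_smul_upperUnipSylowSL_eq (p : ℕ) [Fact p.Prime] [CharP F p]
    (P : Sylow p (SpecialLinearGroup (Fin 2) F)) :
    ∃ a : SpecialLinearGroup (Fin 2) F, a • upperUnipSylowSL F p = P :=
  MulAction.exists_smul_eq _ _ _

theorem smul_upperUnipSylowSL_eq_self_iff (p : ℕ) [Fact p.Prime] [CharP F p]
    {c : SpecialLinearGroup (Fin 2) F} :
    c • upperUnipSylowSL F p = upperUnipSylowSL F p ↔ c 1 0 = 0 := by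
  rw [Sylow.smul_eq_iff_mem_normalizer]
  exact mem_normalizer_upperUnipSL_iff

theorem mem_smul_upperUnipSylowSL_iff (p : ℕ) [Fact p.Prime] [CharP F p]
    {a g : SpecialLinearGroup (Fin 2) F} :
    g ∈ a • upperUnipSylowSL F p ↔ a⁻¹ * g * a ∈ upperUnipSL F := by
  have h : g ∈ a • upperUnipSylowSL F p ↔
      g ∈ MulAut.conj a • (upperUnipSL F : Subgroup (SpecialLinearGroup (Fin 2) F)) := Iff.rfl
  rw [h, Subgroup.mem_pointwise_smul_iff_inv_smul_mem]
  simp [MulAut.smul_def, MulAut.conj_apply, ← map_inv]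

/-- Distinct Sylow `p`-subgroups of `SL₂(q)` intersect trivially. -/
theorem sylow_inf_eq_bot_SL (p : ℕ) [Fact p.Prime] [CharP F p]
    (P Q : Sylow p (SpecialLinearGroup (Fin 2) F)) (h : P ≠ Q) :
    (P : Subgroup (SpecialLinearGroup (Fin 2) F)) ⊓
      (Q : Subgroup (SpecialLinearGroup (Fin 2) F)) = ⊥ := by
  obtain ⟨a, rfl⟩ := exists_smul_upperUnipSylowSL_eq p P
  obtain ⟨b, rfl⟩ := exists_smul_upperUnipSylowSL_eq p Q
  rw [eq_bot_iff]
  rintro g ⟨hg1, hg2⟩
  rw [Subgroup.mem_bot]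
  by_contra hg
  have h1 : a⁻¹ * g * a ∈ upperUnipSL F := (mem_smul_upperUnipSylowSL_iff p).1 hg1
  have h2 : b⁻¹ * g * b ∈ upperUnipSL F := (mem_smul_upperUnipSylowSL_iff p).1 hg2
  have h3 : (b⁻¹ * a) 1 0 = 0 := by
    apply apply_one_zero_eq_zero_of_conj_SL h1
    · intro h
      apply hg
      have := congrArg (fun x => a * x * a⁻¹) h
      simpa [mul_assoc] using this
    · simpa [mul_assoc] using h2
  rw [← smul_upperUnipSylowSL_eq_self_iff p] at h3
  apply h
  calc a • upperUnipSylowSL F p = b • ((b⁻¹ * a) • upperUnipSylowSL F p) := by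
        rw [smul_smul, mul_inv_cancel_left]
    _ = b • upperUnipSylowSL F p := by rw [h3]

/-- Any two distinct Sylow `p`-subgroups of `SL₂(q)` generate `SL₂(q)`. -/
theorem sylow_sup_eq_top (p : ℕ) [Fact p.Prime] [CharP F p]
    (P Q : Sylow p (SpecialLinearGroup (Fin 2) F)) (h : P ≠ Q) :
    (P : Subgroup (SpecialLinearGroup (Fin 2) F)) ⊔
      (Q : Subgroup (SpecialLinearGroup (Fin 2) F)) = ⊤ := by
  obtain ⟨a, rfl⟩ := exists_smul_upperUnipSylowSL_eq p P
  obtain ⟨b, rfl⟩ := exists_smul_upperUnipSylowSL_eq p Q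
  have hc : (a⁻¹ * b) 1 0 ≠ 0 := by
    intro h3
    rw [← smul_upperUnipSylowSL_eq_self_iff p] at h3
    apply h
    calc a • upperUnipSylowSL F p = a • ((a⁻¹ * b) • upperUnipSylowSL F p) := by rw [h3]
      _ = b • upperUnipSylowSL F p := by rw [smul_smul, mul_inv_cancel_left]
  set H := ((a • upperUnipSylowSL F p : Sylow p _) : Subgroup (SpecialLinearGroup (Fin 2) F)) ⊔
    ((b • upperUnipSylowSL F p : Sylow p _) : Subgroup (SpecialLinearGroup (Fin 2) F)) with hH
  have hP : ∀ g : SpecialLinearGroup (Fin 2) F, a⁻¹ * g * a ∈ upperUnipSL F → g ∈ H :=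
    fun g hg => Subgroup.mem_sup_left ((mem_smul_upperUnipSylowSL_iff p).2 hg)
  have hQ : ∀ g : SpecialLinearGroup (Fin 2) F, b⁻¹ * g * b ∈ upperUnipSL F → g ∈ H :=
    fun g hg => Subgroup.mem_sup_right ((mem_smul_upperUnipSylowSL_iff p).2 hg)
  have key : H.comap (MulAut.conj a).toMonoidHom = ⊤ := by
    apply upperUnipSL_sup_conj_eq_top (a⁻¹ * b) hc
    · intro x hx
      rw [Subgroup.mem_comap]
      apply hP
      simpa [mul_assoc] using hx
    · intro x
      rw [Subgroup.mem_comap]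
      apply hQ
      simpa [mul_assoc] using u_mem_upperUnipSL x
  rw [eq_top_iff]
  intro g _
  have : a⁻¹ * g * a ∈ H.comap (MulAut.conj a).toMonoidHom := key ▸ Subgroup.mem_top _
  rw [Subgroup.mem_comap] at this
  simpa [mul_assoc] using this

end Finite

end Cfsg.Agent.LieClassical.SLTwoUnipotent
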