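import Mathlib
import Cfsg.Agent.LieClassical.OrthCore

/-!
Orthogonal groups, Witt index at least 2, dimension at least 5, all characteristics: transitivity
of the group `E Q` generated by Siegel transformations, `⁅O Q, O Q⁆ = E Q`, `E Q` perfect.
-/

set_option autoImplicit false

namespace Cfsg.Agent.LieClassical.OrthTrans

open QuadraticMap Cfsg.Agent.LieClassical.OrthCore
open scoped commutatorElement

variable {F V : Type*} [Field F] [AddCommGroup V] [Module F V] {Q : QuadraticForm F V}

/-! ### Linear algebra of hyperbolic pairs -/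

theorem polar_zero_of_comm {x y : V} (h : polar Q x y = 0) : polar Q y x = 0 := by
  rw [polar_comm]; exact h

/-- `(x, y)` is a hyperbolic pair. -/
structure Hyp (Q : QuadraticForm F V) (x y : V) : Prop where
  left : Q x = 0
  right : Q y = 0
  pair : polar Q x y = 1

theorem Hyp.symm {x y : V} (h : Hyp Q x y) : Hyp Q y x :=
  ⟨h.right, h.left, by rw [polar_comm]; exact h.pair⟩

theorem Hyp.pair' {x y : V} (h : Hyp Q x y) : polar Q y x = 1 := h.symm.pair

theorem Hyp.left_ne {x y : V} (h : Hyp Q x y) : x ≠ 0 := by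
  rintro rfl
  have := h.pair
  rw [polar_zero_left] at this
  exact zero_ne_one this

theorem Hyp.right_ne {x y : V} (h : Hyp Q x y) : y ≠ 0 := h.symm.left_ne

theorem Hyp.polar_left {x y : V} (h : Hyp Q x y) : polar Q x x = 0 := polar_self_of_sing h.left

theorem Hyp.polar_right {x y : V} (h : Hyp Q x y) : polar Q y y = 0 := polar_self_of_sing h.right

theorem Hyp.map {x y : V} (h : Hyp Q x y) {g : V ≃ₗ[F] V} (hg : g ∈ O Q) : Hyp Q (g x) (g y) :=
  ⟨by rw [mem_O.1 hg]; exact h.left, by rw [mem_O.1 hg]; exact h.right,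
    by rw [polar_map hg]; exact h.pair⟩

/-- Projection to the orthogonal complement of a hyperbolic pair. -/
def proj (Q : QuadraticForm F V) (x y v : V) : V := v - polar Q y v • x - polar Q x v • y

theorem polar_proj_left {x y : V} (h : Hyp Q x y) (v : V) : polar Q x (proj Q x y v) = 0 := by
  simp only [proj, polar_sub_right, polar_smul_right, h.polar_left, h.pair, smul_eq_mul]
  ring

theorem polar_proj_right {x y : V} (h : Hyp Q x y) (v : V) : polar Q y (proj Q x y v) = 0 := by
  simp only [proj, polar_sub_right, polar_smul_right, h.polar_right, h.pair', smul_eq_mul]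
  ring

theorem polar_proj_of_perp {x y w : V} (hx : polar Q x w = 0) (hy : polar Q y w = 0) (v : V) :
    polar Q w (proj Q x y v) = polar Q w v := by
  simp only [proj, polar_sub_right, polar_smul_right, polar_comm Q w x, polar_comm Q w y, hx, hy,
    smul_eq_mul]
  ring

/-- A partner of a nonzero singular vector. -/
theorem exists_hyp {x : V} (hQ : Nondeg Q) (hx : Q x = 0) (h0 : x ≠ 0) : ∃ y, Hyp Q x y := by
  obtain ⟨y, hy⟩ := hQ.exists_polar_eq h0 1
  refine ⟨y + (-Q y) • x, hx, ?_, ?_⟩
  · rw [Q_add, QuadraticMap.map_smul, hx, polar_smul_right, polar_comm Q y x, hy]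
    simp
  · rw [polar_add_right, polar_smul_right, polar_self_of_sing hx, hy]
    simp

/-- A partner of a nonzero singular vector orthogonal to a hyperbolic pair, orthogonal to the
pair. -/
theorem exists_hyp_perp {x y w : V} (hQ : Nondeg Q) (h : Hyp Q x y) (hw : Q w = 0) (h0 : w ≠ 0)
    (hx : polar Q x w = 0) (hy : polar Q y w = 0) :
    ∃ z, Hyp Q w z ∧ polar Q x z = 0 ∧ polar Q y z = 0 := by
  obtain ⟨v, hv⟩ := hQ.exists_polar_eq h0 1
  set v' := proj Q x y v with hv'
  have h1 : polar Q w v' = 1 := by rw [hv', polar_proj_of_perp hx hy, hv]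
  refine ⟨v' + (-Q v') • w, ⟨hw, ?_, ?_⟩, ?_, ?_⟩
  · rw [Q_add, QuadraticMap.map_smul, hw, polar_smul_right, polar_comm Q v' w, h1]
    simp
  · rw [polar_add_right, polar_smul_right, polar_self_of_sing hw, h1]
    simp
  · rw [polar_add_right, polar_smul_right, hx, polar_proj_left h]
    simp
  · rw [polar_add_right, polar_smul_right, hy, polar_proj_right h]
    simp

/-- Separation: if `x` is not a multiple of `z`, there is `y ⊥ z` with `b(x, y) = 1`. -/
theorem exists_sep {x z : V} (hQ : Nondeg Q) (h : ∀ c : F, x ≠ c • z) :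
    ∃ y, polar Q z y = 0 ∧ polar Q x y = 1 := by
  by_cases hz : z = 0
  · have hx : x ≠ 0 := by simpa using h 0
    obtain ⟨y, hy⟩ := hQ.exists_polar_eq hx 1
    exact ⟨y, by rw [hz, polar_zero_left], hy⟩
  obtain ⟨y0, hy0⟩ := hQ.exists_polar_eq hz 1
  by_contra hcon
  push Not at hcon
  apply h (polar Q x y0)
  rw [← sub_eq_zero]
  apply hQ
  intro v
  -- `v - b(z,v) y0` is orthogonal to `z`
  set v' := v - polar Q z v • y0 with hv'
  have h1 : polar Q z v' = 0 := by
    rw [hv', polar_sub_right, polar_smul_right, hy0]; simp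
  have h2 : polar Q x v' = 0 := by
    by_contra hne
    apply hcon ((polar Q x v')⁻¹ • v')
    · rw [polar_smul_right, h1, smul_zero]
    · rw [polar_smul_right, smul_eq_mul, inv_mul_cancel₀ hne]
  rw [hv', polar_sub_right, polar_smul_right, smul_eq_mul] at h2
  rw [polar_sub_left, polar_smul_left, smul_eq_mul]
  linear_combination h2

/-- Nonzero vectors orthogonal to few given vectors. -/
theorem exists_perp_ne {n : ℕ} (u : Fin n → V) (hn : n < Module.finrank F V) :
    ∃ w : V, w ≠ 0 ∧ ∀ i, polar Q (u i) w = 0 := by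
  let f : V →ₗ[F] (Fin n → F) := LinearMap.pi fun i => polarBilin Q (u i)
  have : Module.Finite F V := Module.finite_of_finrank_pos (by omega)
  have hker : LinearMap.ker f ≠ ⊥ := by
    apply LinearMap.ker_ne_bot_of_finrank_lt
    rw [Module.finrank_fin_fun]
    exact hn
  obtain ⟨w, hw, hw0⟩ := Submodule.exists_mem_ne_zero_of_ne_bot hker
  refine ⟨w, hw0, fun i => ?_⟩
  have := congrFun (LinearMap.mem_ker.1 hw) i
  simpa [f] using this

/-- Complement of one hyperbolic pair in dimension at least three. -/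
theorem exists_perp2 (hQ : Nondeg Q) (hd : 3 ≤ Module.finrank F V) {x y : V} (h : Hyp Q x y) :
    ∃ a c : V, polar Q x a = 0 ∧ polar Q y a = 0 ∧ polar Q x c = 0 ∧ polar Q y c = 0 ∧
      polar Q a c = 1 := by
  obtain ⟨a, ha0, ha⟩ := exists_perp_ne (Q := Q) ![x, y] (by omega)
  have hxa : polar Q x a = 0 := ha 0
  have hya : polar Q y a = 0 := ha 1
  obtain ⟨c, hc⟩ := hQ.exists_polar_eq ha0 1
  refine ⟨a, proj Q x y c, hxa, hya, polar_proj_left h c, polar_proj_right h c, ?_⟩
  rw [polar_proj_of_perp hxa hya, hc]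

/-- Complement of two hyperbolic pairs in dimension at least five. -/
theorem exists_perp4 (hQ : Nondeg Q) (hd : 5 ≤ Module.finrank F V) {x y z w : V}
    (h : Hyp Q x y) (h' : Hyp Q z w) (hxz : polar Q x z = 0) (hxw : polar Q x w = 0)
    (hyz : polar Q y z = 0) (hyw : polar Q y w = 0) :
    ∃ a c : V, (polar Q x a = 0 ∧ polar Q y a = 0 ∧ polar Q z a = 0 ∧ polar Q w a = 0) ∧
      (polar Q x c = 0 ∧ polar Q y c = 0 ∧ polar Q z c = 0 ∧ polar Q w c = 0) ∧
      polar Q a c = 1 := by
  obtain ⟨a, ha0, ha⟩ := exists_perp_ne (Q := Q) ![x, y, z, w] (by omega)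
  have hxa : polar Q x a = 0 := ha 0
  have hya : polar Q y a = 0 := ha 1
  have hza : polar Q z a = 0 := ha 2
  have hwa : polar Q w a = 0 := ha 3
  obtain ⟨c, hc⟩ := hQ.exists_polar_eq ha0 1
  refine ⟨a, proj Q x y (proj Q z w c), ⟨hxa, hya, hza, hwa⟩,
    ⟨polar_proj_left h _, polar_proj_right h _, ?_, ?_⟩, ?_⟩
  · rw [polar_proj_of_perp hxz hyz, polar_proj_left h']
  · rw [polar_proj_of_perp hxw hyw, polar_proj_right h']
  · rw [polar_proj_of_perp hxa hya, polar_proj_of_perp hza hwa, hc]

/-- From `b(a, c) = 1` one of `a`, `c`, `a + c` is nonsingular. -/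
theorem exists_nonsing {a c : V} (h : polar Q a c = 1) : Q a ≠ 0 ∨ Q c ≠ 0 ∨ Q (a + c) ≠ 0 := by
  by_contra hcon
  push Not at hcon
  obtain ⟨h1, h2, h3⟩ := hcon
  rw [Q_add, h1, h2, h] at h3
  simp at h3

/-- The singular vector `x + v - Q(v) y` for `v` orthogonal to the hyperbolic pair `(x, y)`. -/
theorem sing_vec {x y v : V} (h : Hyp Q x y) (hx : polar Q x v = 0) (hy : polar Q y v = 0) :
    Q (x + v - Q v • y) = 0 := by
  rw [sub_eq_add_neg, ← neg_smul, Q_add, Q_add, QuadraticMap.map_smul, polar_smul_right,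
    polar_add_left, h.left, h.right, hx, h.pair, polar_comm Q v y, hy]
  simp

/-- Induction principle: an additive property of singular vectors orthogonal to nothing. -/
theorem sing_induction {x y : V} (h : Hyp Q x y) {P : V → Prop}
    (hadd : ∀ a c, P a → P c → P (a + c)) (hsing : ∀ a, Q a = 0 → P a) (v : V) : P v := by
  set v' := proj Q x y v with hv'
  have e : v = (((polar Q y v • x + polar Q x v • y) + (x + v' - Q v' • y)) + (Q v' • y)) +
      (-1 : F) • x := by
    rw [hv', proj]; module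
  rw [e]
  apply hadd
  · apply hadd
    · apply hadd
      · apply hadd
        · apply hsing; rw [QuadraticMap.map_smul, h.left, smul_zero]
        · apply hsing; rw [QuadraticMap.map_smul, h.right, smul_zero]
      · exact hsing _ (sing_vec h (polar_proj_left h v) (polar_proj_right h v))
    · apply hsing; rw [QuadraticMap.map_smul, h.right, smul_zero]
  · apply hsing; rw [QuadraticMap.map_smul, h.left, smul_zero]

/-- The same inside the complement of another hyperbolic pair `(z, w)`. -/
theorem sing_induction_perp {x y z w : V} (h : Hyp Q x y) (hzx : polar Q z x = 0)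
    (hzy : polar Q z y = 0) (hwx : polar Q w x = 0) (hwy : polar Q w y = 0) {P : V → Prop}
    (hadd : ∀ a c, polar Q z a = 0 → polar Q w a = 0 → polar Q z c = 0 → polar Q w c = 0 →
      P a → P c → P (a + c))
    (hsing : ∀ a, Q a = 0 → polar Q z a = 0 → polar Q w a = 0 → P a) (v : V)
    (hzv : polar Q z v = 0) (hwv : polar Q w v = 0) : P v := by
  let P' : V → Prop := fun a => polar Q z a = 0 ∧ polar Q w a = 0 ∧ P a
  set v' := proj Q x y v with hv'
  have e : v = (((polar Q y v • x + polar Q x v • y) + (x + v' - Q v' • y)) + (Q v' • y)) +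
      (-1 : F) • x := by
    rw [hv', proj]; module
  have hadd' : ∀ a c, P' a → P' c → P' (a + c) := by
    rintro a c ⟨h1, h2, h3⟩ ⟨h4, h5, h6⟩
    refine ⟨?_, ?_, hadd a c h1 h2 h4 h5 h3 h6⟩
    · rw [polar_add_right, h1, h4, add_zero]
    · rw [polar_add_right, h2, h5, add_zero]
  have hsing' : ∀ a, Q a = 0 → polar Q z a = 0 → polar Q w a = 0 → P' a :=
    fun a h1 h2 h3 => ⟨h2, h3, hsing a h1 h2 h3⟩
  have hzv' : polar Q z v' = 0 := by
    rw [hv', proj]
    simp only [polar_sub_right, polar_smul_right, hzx, hzy, hzv]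
    simp
  have hwv' : polar Q w v' = 0 := by
    rw [hv', proj]
    simp only [polar_sub_right, polar_smul_right, hwx, hwy, hwv]
    simp
  have : P' v := by
    rw [e]
    apply hadd'
    · apply hadd'
      · apply hadd'
        · apply hadd'
          · apply hsing'
            · rw [QuadraticMap.map_smul, h.left, smul_zero]
            · rw [polar_smul_right, hzx, smul_zero]
            · rw [polar_smul_right, hwx, smul_zero]
          · apply hsing'
            · rw [QuadraticMap.map_smul, h.right, smul_zero]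
            · rw [polar_smul_right, hzy, smul_zero]
            · rw [polar_smul_right, hwy, smul_zero]
        · apply hsing' (x + v' - Q v' • y) (sing_vec h (polar_proj_left h v) (polar_proj_right h v))
          · simp only [polar_sub_right, polar_add_right, polar_smul_right, hzx, hzy, hzv']
            simp
          · simp only [polar_sub_right, polar_add_right, polar_smul_right, hwx, hwy, hwv']
            simp
      · apply hsing'
        · rw [QuadraticMap.map_smul, h.right, smul_zero]
        · rw [polar_smul_right, hzy, smul_zero]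
        · rw [polar_smul_right, hwy, smul_zero]
    · apply hsing'
      · rw [QuadraticMap.map_smul, h.left, smul_zero]
      · rw [polar_smul_right, hzx, smul_zero]
      · rw [polar_smul_right, hwx, smul_zero]
  exact this.2.2

/-! ### Explicit moves by Siegel transformations -/

/-- If `x, x'` are singular, orthogonal and independent, a Siegel transformation maps `x` to
`x'`. -/
theorem exists_siegel_of_orth (hQ : Nondeg Q) {x x' : V} (hx : Q x = 0) (hx' : Q x' = 0)
    (h : polar Q x x' = 0) (hind : ∀ c : F, x ≠ c • (x' - x)) :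
    ∃ g ∈ E Q, g x = x' := by
  obtain ⟨y, hy1, hy2⟩ := exists_sep hQ hind
  have hz : Q (x' - x) = 0 := by
    rw [sub_eq_add_neg, Q_add, QuadraticMap.map_neg, polar_neg_right, polar_comm Q x' x, h, hx,
      hx']
    simp
  have hzy : polar Q (x' - x) (-y) = 0 := by rw [polar_neg_right, hy1, neg_zero]
  refine ⟨siegel Q (x' - x) (-y) hz hzy, siegel_mem_E _ _, ?_⟩
  have h1 : polar Q (x' - x) x = 0 := by
    rw [polar_sub_left, polar_comm Q x' x, h, polar_self_of_sing hx, sub_zero]
  rw [siegel_apply, h1, polar_neg_left, polar_comm Q y x, hy2]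
  simp

/-- Siegel transformations at `x` move the partners of `x`. -/
theorem siegel_partner {x y y' : V} (h : Hyp Q x y) (h' : Hyp Q x y') :
    ∃ g ∈ E Q, g x = x ∧ g y = y' := by
  have hw : polar Q x (y' - y) = 0 := by
    rw [polar_sub_right, h.pair, h'.pair, sub_self]
  refine ⟨siegel Q x (y' - y) h.left hw, siegel_mem_E _ _, ?_, ?_⟩
  · rw [siegel_apply, h.polar_left, polar_comm Q (y' - y) x, hw]
    simp
  · have hQ' : Q (y' - y) = - polar Q y' y := by
      rw [sub_eq_add_neg, Q_add, QuadraticMap.map_neg, polar_neg_right, h.right, h'.right]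
      ring
    rw [siegel_apply, h.pair, hQ', polar_sub_left, h.polar_right]
    module

/-- The standing hypotheses: nondegenerate, dimension at least 5, Witt index at least 2. -/
structure Good (Q : QuadraticForm F V) : Prop where
  nondeg : Nondeg Q
  dim : 5 ≤ Module.finrank F V
  sing : ∃ x : V, x ≠ 0 ∧ Q x = 0
  perp : ∀ x y : V, Hyp Q x y → ∃ w : V, w ≠ 0 ∧ Q w = 0 ∧ polar Q x w = 0 ∧ polar Q y w = 0

theorem Good.exists_hyp (hG : Good Q) : ∃ x y, Hyp Q x y := by
  obtain ⟨x, hx, hx0⟩ := hG.sing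
  obtain ⟨y, hy⟩ := OrthTrans.exists_hyp hG.nondeg hx0 hx
  exact ⟨x, y, hy⟩

theorem Good.exists_hyp2 (hG : Good Q) {x y : V} (h : Hyp Q x y) :
    ∃ z w, Hyp Q z w ∧ polar Q x z = 0 ∧ polar Q x w = 0 ∧ polar Q y z = 0 ∧ polar Q y w = 0 := by
  obtain ⟨z, hz0, hz, hxz, hyz⟩ := hG.perp x y h
  obtain ⟨w, hw, hxw, hyw⟩ := exists_hyp_perp hG.nondeg h hz hz0 hxz hyz
  exact ⟨z, w, hw, hxz, hxw, hyz, hyw⟩

theorem E_mul {g h : V ≃ₗ[F] V} (hg : g ∈ E Q) (hh : h ∈ E Q) : g * h ∈ E Q :=
  (E Q).mul_mem hg hh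

/-- `E Q` is transitive on nonzero singular vectors. -/
theorem Good.trans_sing (hG : Good Q) {x x' : V} (hx : Q x = 0) (hx' : Q x' = 0) (h0 : x ≠ 0)
    (h0' : x' ≠ 0) : ∃ g ∈ E Q, g x = x' := by
  -- it is enough to find a singular `w` orthogonal to and independent of both
  have key : ∀ w : V, Q w = 0 → polar Q x w = 0 → polar Q w x' = 0 →
      (∀ c : F, x ≠ c • w) → (∀ c : F, w ≠ c • x') → w ≠ 0 → ∃ g ∈ E Q, g x = x' := by
    intro w hw hxw hwx' hi hi' hw0
    have hind : ∀ c : F, x ≠ c • (w - x) := by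
      intro c hc
      by_cases h1 : (1 + c) = 0
      · have hc' : c = -1 := by linear_combination h1
        rw [hc'] at hc
        apply hw0
        have h2 : x - (-1 : F) • (w - x) = w := by module
        rw [← h2, ← hc, sub_self]
      · apply hi ((1 + c)⁻¹ * c)
        have h2 : (1 + c) • x = c • w := by
          have : (1 + c) • x = x + c • x := by module
          rw [this]
          nth_rewrite 1 [hc]
          module
        rw [mul_smul, ← h2, smul_smul, inv_mul_cancel₀ h1, one_smul]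
    have hind' : ∀ c : F, w ≠ c • (x' - w) := by
      intro c hc
      by_cases h1 : (1 + c) = 0
      · have hc' : c = -1 := by linear_combination h1
        rw [hc'] at hc
        apply h0'
        have h2 : w - (-1 : F) • (x' - w) = x' := by module
        rw [← h2, ← hc, sub_self]
      · apply hi' ((1 + c)⁻¹ * c)
        have h2 : (1 + c) • w = c • x' := by
          have : (1 + c) • w = w + c • w := by module
          rw [this]
          nth_rewrite 1 [hc]
          module
        rw [mul_smul, ← h2, smul_smul, inv_mul_cancel₀ h1, one_smul]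
    obtain ⟨g1, hg1, e1⟩ := exists_siegel_of_orth hG.nondeg hx hw hxw hind
    obtain ⟨g2, hg2, e2⟩ := exists_siegel_of_orth hG.nondeg hw hx' hwx' hind'
    refine ⟨g2 * g1, E_mul hg2 hg1, ?_⟩
    show g2 (g1 x) = x'
    rw [e1, e2]
  by_cases hp : polar Q x x' = 0
  · -- orthogonal case
    by_cases hdep : ∃ c : F, x' = c • x
    · obtain ⟨c, rfl⟩ := hdep
      have hc : c ≠ 0 := by
        rintro rfl
        exact h0' (zero_smul _ _)
      obtain ⟨y, hy⟩ := OrthTrans.exists_hyp hG.nondeg hx h0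
      obtain ⟨w, hw0, hw, hxw, hyw⟩ := hG.perp x y hy
      refine key w hw hxw ?_ ?_ ?_ hw0
      · rw [polar_smul_right, polar_comm Q w x, hxw, smul_zero]
      · intro d hd
        have h1 := hy.pair'
        rw [hd, polar_smul_right, hyw, smul_zero] at h1
        exact zero_ne_one h1
      · intro d hd
        apply hw0
        rw [hd, smul_smul, polar_smul_right, hy.pair', smul_eq_mul, mul_one] at hyw
        rw [hd, smul_smul, hyw, zero_smul]
    · push Not at hdep
      refine exists_siegel_of_orth hG.nondeg hx hx' hp ?_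
      intro c hc
      by_cases h1 : c = 0
      · rw [h1, zero_smul] at hc
        exact h0 hc
      · apply hdep (c⁻¹ + 1)
        have h2 : c⁻¹ • x = x' - x := by
          nth_rewrite 1 [hc]
          rw [smul_smul, inv_mul_cancel₀ h1, one_smul]
        rw [add_smul, h2, one_smul, sub_add_cancel]
  · -- non-orthogonal case
    have hyp : Hyp Q x ((polar Q x x')⁻¹ • x') := by
      refine ⟨hx, ?_, ?_⟩
      · rw [QuadraticMap.map_smul, hx', smul_zero]
      · rw [polar_smul_right, smul_eq_mul, inv_mul_cancel₀ hp]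
    obtain ⟨w, hw0, hw, hxw, hyw⟩ := hG.perp _ _ hyp
    have hx'w : polar Q x' w = 0 := by
      rw [polar_smul_left, smul_eq_mul] at hyw
      rcases mul_eq_zero.1 hyw with h | h
      · exact absurd (inv_eq_zero.1 h) hp
      · exact h
    refine key w hw hxw (polar_zero_of_comm hx'w) ?_ ?_ hw0
    · intro c hc
      apply hp
      rw [hc, polar_smul_left, polar_comm Q w x', hx'w, smul_zero]
    · intro c hc
      have h1 : polar Q x w = c * polar Q x x' := by rw [hc, polar_smul_right, smul_eq_mul]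
      rw [hxw] at h1
      rcases mul_eq_zero.1 h1.symm with h | h
      · rw [h, zero_smul] at hc
        exact hw0 hc
      · exact hp h

/-- `E Q` is transitive on hyperbolic pairs. -/
theorem Good.trans_hyp (hG : Good Q) {x y x' y' : V} (h : Hyp Q x y) (h' : Hyp Q x' y') :
    ∃ g ∈ E Q, g x = x' ∧ g y = y' := by
  obtain ⟨g1, hg1, e1⟩ := hG.trans_sing h.left h'.left h.left_ne h'.left_ne
  have h2 : Hyp Q x' (g1 y) := by
    have := h.map (E_le_O hg1)
    rwa [e1] at this
  obtain ⟨g2, hg2, e2, e3⟩ := siegel_partner h2 h'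
  refine ⟨g2 * g1, E_mul hg2 hg1, ?_, ?_⟩
  · show g2 (g1 x) = x'
    rw [e1, e2]
  · show g2 (g1 y) = y'
    exact e3

/-- Some singular vector is not orthogonal to a given nonzero vector. -/
theorem exists_sing_polar_one (hQ : Nondeg Q) {x y : V} (h : Hyp Q x y) {v : V} (hv : v ≠ 0) :
    ∃ u, Q u = 0 ∧ polar Q u v = 1 := by
  suffices hs : ∃ u, Q u = 0 ∧ polar Q u v ≠ 0 by
    obtain ⟨u, hu, hu'⟩ := hs
    refine ⟨(polar Q u v)⁻¹ • u, ?_, ?_⟩
    · rw [QuadraticMap.map_smul, hu, smul_zero]
    · rw [polar_smul_left, smul_eq_mul, inv_mul_cancel₀ hu']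
  by_contra hcon
  push Not at hcon
  apply hv
  apply hQ
  refine sing_induction h (P := fun a => polar Q v a = 0) ?_ ?_
  · intro a c ha hc
    show polar Q v (a + c) = 0
    rw [polar_add_right, ha, hc, add_zero]
  · intro a ha
    show polar Q v a = 0
    rw [polar_comm]
    exact hcon a ha

/-- A nonsingular vector is of the form `x + c y` for a hyperbolic pair `(x, y)`. -/
theorem exists_hyp_decomp (hQ : Nondeg Q) {x y : V} (h : Hyp Q x y) {v : V} (hv : v ≠ 0) :
    ∃ x' y', Hyp Q x' y' ∧ v = x' + Q v • y' := by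
  obtain ⟨u, hu, hu'⟩ := exists_sing_polar_one hQ h hv
  refine ⟨v - Q v • u, u, ⟨?_, hu, ?_⟩, ?_⟩
  · rw [sub_eq_add_neg, ← neg_smul, Q_add, QuadraticMap.map_smul, polar_smul_right, hu,
      polar_comm Q v u, hu']
    simp
  · rw [polar_sub_left, polar_smul_left, polar_self_of_sing hu, polar_comm Q v u, hu']
    simp
  · rw [sub_add_cancel]

/-- `E Q` is transitive on nonzero vectors of given norm. -/
theorem Good.trans_norm (hG : Good Q) {v v' : V} (hv : v ≠ 0) (hv' : v' ≠ 0) (h : Q v = Q v') :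
    ∃ g ∈ E Q, g v = v' := by
  obtain ⟨x, y, hxy⟩ := hG.exists_hyp
  obtain ⟨x1, y1, h1, e1⟩ := exists_hyp_decomp hG.nondeg hxy hv
  obtain ⟨x2, y2, h2, e2⟩ := exists_hyp_decomp hG.nondeg hxy hv'
  obtain ⟨g, hg, e3, e4⟩ := hG.trans_hyp h1 h2
  refine ⟨g, hg, ?_⟩
  rw [e1, map_add, map_smul, e3, e4, h, ← e2]

/-! ### `O Q / E Q` is abelian -/

theorem commutator_mem_of_closure {G : Type*} [Group G] {S : Set G} {N : Subgroup G}
    (hN : ∀ g ∈ Subgroup.closure S, ∀ n ∈ N, g * n * g⁻¹ ∈ N)
    (hS : ∀ a ∈ S, ∀ b ∈ S, ⁅a, b⁆ ∈ N) :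
    ⁅Subgroup.closure S, Subgroup.closure S⁆ ≤ N := by
  -- first: fixed `b ∈ S`
  have h1 : ∀ b ∈ S, ∀ a ∈ Subgroup.closure S, ⁅a, b⁆ ∈ N := by
    intro b hb a ha
    induction ha using Subgroup.closure_induction with
    | mem x hx => exact hS x hx b hb
    | one => simp
    | mul x y hx hy ihx ihy =>
      have e : ⁅x * y, b⁆ = (x * ⁅y, b⁆ * x⁻¹) * ⁅x, b⁆ := by
        simp only [commutatorElement_def]; group
      rw [e]
      exact N.mul_mem (hN x hx _ ihy) ihx
    | inv x hx ihx =>
      have e : ⁅x⁻¹, b⁆ = x⁻¹ * ⁅x, b⁆⁻¹ * x⁻¹⁻¹ := by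
        simp only [commutatorElement_def]; group
      rw [e]
      exact hN _ (Subgroup.inv_mem _ hx) _ (N.inv_mem ihx)
  rw [Subgroup.commutator_le]
  intro a ha b hb
  induction hb using Subgroup.closure_induction with
  | mem x hx => exact h1 x hx a ha
  | one => simp
  | mul x y hx hy ihx ihy =>
    have e : ⁅a, x * y⁆ = ⁅a, x⁆ * (x * ⁅a, y⁆ * x⁻¹) := by
      simp only [commutatorElement_def]; group
    rw [e]
    exact N.mul_mem ihx (hN x hx _ ihy)
  | inv x hx ihx =>
    have e : ⁅a, x⁻¹⁆ = x⁻¹ * ⁅a, x⁆⁻¹ * x⁻¹⁻¹ := by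
      simp only [commutatorElement_def]; group
    rw [e]
    exact hN _ (Subgroup.inv_mem _ hx) _ (N.inv_mem ihx)

/-- Reflections in vectors of the same norm agree modulo `E Q`. -/
theorem Good.refl_mul_refl_mem (hG : Good Q) {v v' : V} (hv : Q v ≠ 0) (hv' : Q v' ≠ 0)
    (h : Q v = Q v') : refl Q v' hv' * refl Q v hv ∈ E Q := by
  have h0 : ∀ {z : V}, Q z ≠ 0 → z ≠ 0 := by
    rintro z hz rfl
    exact hz (QuadraticMap.map_zero Q)
  obtain ⟨g, hg, e⟩ := hG.trans_norm (h0 hv) (h0 hv') h
  subst e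
  rw [← refl_conj (E_le_O hg) hv hv']
  have : g * refl Q v hv * g⁻¹ * refl Q v hv =
      g * (refl Q v hv * g⁻¹ * (refl Q v hv)⁻¹) := by
    rw [refl_inv]; group
  rw [this]
  exact E_mul hg (conj_mem_E (refl_mem_O hv) ((E Q).inv_mem hg))

/-- The commutator subgroup of `O Q` is contained in `E Q`. -/
theorem Good.commutator_le_E (hG : Good Q) : ⁅O Q, O Q⁆ ≤ E Q := by
  have : FiniteDimensional F V := Module.finite_of_finrank_pos (by have := hG.dim; omega)
  rw [O_eq_closure hG.nondeg]
  have hN : ∀ g ∈ Subgroup.closure (reflSet Q ∪ siegelSet Q), ∀ n ∈ E Q, g * n * g⁻¹ ∈ E Q := by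
    intro g hg n hn
    rw [← O_eq_closure hG.nondeg] at hg
    exact conj_mem_E hg hn
  apply commutator_mem_of_closure hN
  have hE : ∀ a ∈ O Q, ∀ b ∈ E Q, ⁅a, b⁆ ∈ E Q := by
    intro a ha b hb
    rw [commutatorElement_def]
    exact E_mul (conj_mem_E ha hb) ((E Q).inv_mem hb)
  rintro a (⟨v, hv, rfl⟩ | ⟨u, w, hu, hw, rfl⟩) b (⟨v', hv', rfl⟩ | ⟨u', w', hu', hw', rfl⟩)
  · -- two reflections: replace `v` by a vector orthogonal to `v'`
    obtain ⟨x0, y0, h0⟩ := hG.exists_hyp
    have hv'0 : v' ≠ 0 := by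
      rintro rfl
      exact hv' (QuadraticMap.map_zero Q)
    obtain ⟨x, y, hxy, e⟩ := exists_hyp_decomp hG.nondeg h0 hv'0
    obtain ⟨z, w, hzw, hxz, hxw, hyz, hyw⟩ := hG.exists_hyp2 hxy
    have hv1 : Q (z + Q v • w) = Q v := by
      rw [Q_add, QuadraticMap.map_smul, polar_smul_right, hzw.left, hzw.right, hzw.pair]
      simp
    have hv1' : Q (z + Q v • w) ≠ 0 := by rw [hv1]; exact hv
    have horth : polar Q (z + Q v • w) v' = 0 := by
      rw [e]
      simp only [polar_add_left, polar_add_right, polar_smul_left, polar_smul_right,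
        polar_comm Q z x, polar_comm Q z y, polar_comm Q w x, polar_comm Q w y, hxz, hxw, hyz,
        hyw]
      simp
    have h1 := hG.refl_mul_refl_mem hv1' hv hv1
    have hcomm := refl_comm hv1' hv' horth
    -- `refl v = e1 * r1`, with `e1 ∈ E` and `r1` commuting with `refl v'`
    set r1 := refl Q (z + Q v • w) hv1' with hr1
    set r := refl Q v hv with hr
    set r' := refl Q v' hv' with hr'
    have hr1r1 : r1 * r1 = 1 := refl_mul_self hv1'
    have e2 : r = (r * r1) * r1 := by rw [mul_assoc, hr1r1, mul_one]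
    have e3 : ⁅r, r'⁆ = (r * r1) * (r' * (r * r1)⁻¹ * r'⁻¹) := by
      have hc2 : r1 * r' * r1⁻¹ = r' := by rw [hcomm]; group
      have hc3 : r1 * r' = r' * r1 := hcomm
      calc ⁅r, r'⁆ = r * r' * r⁻¹ * r'⁻¹ := commutatorElement_def _ _
        _ = (r * r1) * (r1⁻¹ * r' * r1) * (r1⁻¹ * r⁻¹) * r'⁻¹ := by group
        _ = (r * r1) * (r1⁻¹ * (r' * r1)) * (r1⁻¹ * r⁻¹) * r'⁻¹ := by group
        _ = (r * r1) * (r1⁻¹ * (r1 * r')) * (r1⁻¹ * r⁻¹) * r'⁻¹ := by rw [hc3]
        _ = (r * r1) * (r' * (r * r1)⁻¹ * r'⁻¹) := by group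
    rw [e3]
    exact E_mul h1 (conj_mem_E (refl_mem_O hv') ((E Q).inv_mem h1))
  · exact hE _ (refl_mem_O hv) _ (siegel_mem_E hu' hw')
  · have := (E Q).inv_mem (hE _ (refl_mem_O hv') _ (siegel_mem_E hu hw))
    rwa [commutatorElement_inv] at this
  · exact hE _ (siegel_mem_O hu hw) _ (siegel_mem_E hu' hw')

/-! ### `E Q` is perfect -/

theorem siegel_inv {u w : V} (hu : Q u = 0) (hw : polar Q u w = 0)
    (hw' : polar Q u (-w) = 0) : (siegel Q u w hu hw)⁻¹ = siegel Q u (-w) hu hw' := by
  rw [inv_eq_iff_mul_eq_one]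
  have h0 : polar Q u (w + -w) = 0 := by rw [add_neg_cancel, polar_zero_right]
  rw [siegel_mul hu hw hw' h0]
  ext v
  rw [siegel_apply]
  simp

theorem siegel_add_mem {D : Subgroup (V ≃ₗ[F] V)} {u w w' : V} (hu : Q u = 0)
    (hw : polar Q u w = 0) (hw' : polar Q u w' = 0) (h : polar Q u (w + w') = 0)
    (h1 : siegel Q u w hu hw ∈ D) (h2 : siegel Q u w' hu hw' ∈ D) :
    siegel Q u (w + w') hu h ∈ D := by
  rw [← siegel_mul hu hw hw' h]
  exact D.mul_mem h1 h2

/-- Key commutator: `siegel u w` for singular `w` in the complement of a hyperbolic pair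
`(u, u')`. -/
theorem Good.siegel_mem_commutator_of_sing (hG : Good Q) {u u' w : V} (h : Hyp Q u u')
    (hw : Q w = 0) (huw : polar Q u w = 0) (hu'w : polar Q u' w = 0) :
    siegel Q u w h.left huw ∈ ⁅E Q, E Q⁆ := by
  by_cases hw0 : w = 0
  · subst hw0
    have : siegel Q u 0 h.left huw = 1 := by
      ext v
      rw [siegel_apply]
      simp
    rw [this]
    exact Subgroup.one_mem _
  obtain ⟨w', hw', huw', hu'w'⟩ := exists_hyp_perp hG.nondeg h hw hw0 huw hu'w
  obtain ⟨a, c, ⟨ha1, ha2, ha3, ha4⟩, ⟨hc1, hc2, hc3, hc4⟩, hac⟩ :=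
    exists_perp4 hG.nondeg hG.dim h hw' huw huw' hu'w hu'w'
  -- `g = siegel w a`, `t = siegel u c`; `g c = c - w`, `g u = u`
  have hgt : siegel Q w a hw ha3 u = u := by
    rw [siegel_apply, polar_comm Q w u, huw, polar_comm Q a u, ha1]
    simp
  have hgc : siegel Q w a hw ha3 c = c - w := by
    rw [siegel_apply, hc3, hac]
    simp
  have hg := siegel_mem_O hw ha3 (w := a)
  have hcomm : siegel Q w a hw ha3 * siegel Q u c h.left hc1 * (siegel Q w a hw ha3)⁻¹ *
      (siegel Q u c h.left hc1)⁻¹ ∈ ⁅E Q, E Q⁆ := by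
    rw [← commutatorElement_def]
    exact Subgroup.commutator_mem_commutator (siegel_mem_E _ _) (siegel_mem_E _ _)
  have h1 : Q (siegel Q w a hw ha3 u) = 0 := by rw [hgt]; exact h.left
  have h2 : polar Q (siegel Q w a hw ha3 u) (siegel Q w a hw ha3 c) = 0 := by
    rw [hgt, hgc, polar_sub_right, hc1, huw, sub_zero]
  have h3 : polar Q u (c - w) = 0 := by rw [polar_sub_right, hc1, huw, sub_zero]
  have h4 : polar Q u (-c) = 0 := by rw [polar_neg_right, hc1, neg_zero]
  have h5 : polar Q u (-w) = 0 := by rw [polar_neg_right, huw, neg_zero]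
  have h6 : polar Q u (c - w + -c) = 0 := by rw [polar_add_right, h3, h4, add_zero]
  have e1 : siegel Q w a hw ha3 * siegel Q u c h.left hc1 * (siegel Q w a hw ha3)⁻¹ =
      siegel Q u (c - w) h.left h3 := by
    rw [siegel_conj hg h.left hc1 h1 h2]
    congr 1
  rw [e1, siegel_inv h.left hc1 h4, siegel_mul h.left h3 h4 h6] at hcomm
  have e2 : siegel Q u (c - w + -c) h.left h6 = (siegel Q u w h.left huw)⁻¹ := by
    rw [siegel_inv h.left huw h5]
    congr 1
    abel
  rw [e2] at hcomm
  simpa using (Subgroup.inv_mem _ hcomm)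

/-- Every Siegel transformation is in the commutator subgroup of `E Q`. -/
theorem Good.siegel_mem_commutator (hG : Good Q) {u w : V} (hu : Q u = 0)
    (hw : polar Q u w = 0) : siegel Q u w hu hw ∈ ⁅E Q, E Q⁆ := by
  by_cases hu0 : u = 0
  · have : siegel Q u w hu hw = 1 := by
      ext v
      rw [siegel_apply, hu0]
      simp
    rw [this]
    exact Subgroup.one_mem _
  obtain ⟨u', h⟩ := OrthTrans.exists_hyp hG.nondeg hu hu0
  obtain ⟨z, z', hz, huz, huz', hu'z, hu'z'⟩ := hG.exists_hyp2 h
  -- split off the component along `u`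
  have hc : ∀ c : F, ∀ (hh : polar Q u (c • u) = 0), siegel Q u (c • u) hu hh = 1 := by
    intro c hh
    ext v
    rw [siegel_apply, QuadraticMap.map_smul, hu, polar_smul_left]
    simp only [smul_eq_mul, mul_zero, zero_mul, zero_smul, sub_zero, LinearEquiv.coe_one, id_eq]
    module
  have key : ∀ v, polar Q u v = 0 → polar Q u' v = 0 →
      ∀ (hh : polar Q u v = 0), siegel Q u v hu hh ∈ ⁅E Q, E Q⁆ := by
    intro v hv1 hv2
    refine sing_induction_perp hz huz huz' hu'z hu'z'
      (P := fun v => ∀ (hh : polar Q u v = 0), siegel Q u v hu hh ∈ ⁅E Q, E Q⁆) ?_ ?_ v hv1 hv2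
    · intro a c ha1 _ hc1 _ ha hc hh
      exact siegel_add_mem hu ha1 hc1 hh (ha ha1) (hc hc1)
    · intro a ha h1 h2 hh
      exact hG.siegel_mem_commutator_of_sing h ha h1 h2
  -- `w = proj w + b(u', w) u`
  have e : w = proj Q u u' w + (polar Q u' w) • u := by
    rw [proj, hw]; module
  have h1 := key (proj Q u u' w) (polar_proj_left h w) (polar_proj_right h w)
    (polar_proj_left h w)
  have hcu : polar Q u ((polar Q u' w) • u) = 0 := by
    rw [polar_smul_right, polar_self_of_sing hu, smul_zero]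
  have h2 : siegel Q u ((polar Q u' w) • u) hu hcu ∈ ⁅E Q, E Q⁆ := by
    rw [hc]
    exact Subgroup.one_mem _
  have hh : polar Q u (proj Q u u' w + (polar Q u' w) • u) = 0 := by rw [← e]; exact hw
  have h3 := siegel_add_mem hu (polar_proj_left h w) hcu hh h1 h2
  have e4 : siegel Q u w hu hw = siegel Q u (proj Q u u' w + (polar Q u' w) • u) hu hh := by
    congr 1
  rw [e4]
  exact h3

/-- `E Q` is perfect. -/
theorem Good.E_perfect (hG : Good Q) : ⁅E Q, E Q⁆ = E Q := by
  apply le_antisymm (Subgroup.commutator_le_self _)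
  nth_rewrite 1 [E]
  rw [Subgroup.closure_le]
  rintro _ ⟨u, w, hu, hw, rfl⟩
  exact hG.siegel_mem_commutator hu hw

/-- The commutator subgroup of `O Q` is `E Q`. -/
theorem Good.commutator_eq_E (hG : Good Q) : ⁅O Q, O Q⁆ = E Q := by
  apply le_antisymm hG.commutator_le_E
  rw [← hG.E_perfect]
  exact Subgroup.commutator_mono E_le_O E_le_O

end Cfsg.Agent.LieClassical.OrthTrans
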