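import Mathlib
import Cfsg.Agent.LieClassical.OrthTrans

/-!
Simplicity of `E Q / Z(E Q)` (dimension at least 5, Witt index at least 2, all characteristics).
-/

set_option autoImplicit false

namespace Cfsg.Agent.LieClassical.OrthSimple

open QuadraticMap Cfsg.Agent.LieClassical.OrthCore Cfsg.Agent.LieClassical.OrthTrans
open scoped commutatorElement

variable {F V : Type*} [Field F] [AddCommGroup V] [Module F V] {Q : QuadraticForm F V}

/-- For independent orthogonal singular `x, y` there is a partner `z` of `y`, orthogonal to `x`,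
and an element of `E Q` fixing `x` and moving `y` to a multiple of `z`. -/
theorem good_move (hG : Good Q) {x y : V} (hx : Q x = 0) (hy : Q y = 0) (hxy : polar Q x y = 0)
    (hx0 : x ≠ 0) (hind : ∀ c : F, y ≠ c • x) :
    ∃ z : V, Hyp Q y z ∧ ∃ g ∈ E Q, g x = x ∧ ∃ c : F, c ≠ 0 ∧ g y = c • z := by
  obtain ⟨z0, hz1, hz2⟩ := exists_sep hG.nondeg hind
  have hyz : Hyp Q y (z0 + (-Q z0) • y) := by
    refine ⟨hy, ?_, ?_⟩
    · rw [Q_add, QuadraticMap.map_smul, hy, polar_smul_right, polar_comm Q z0 y, hz2]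
      simp
    · rw [polar_add_right, polar_smul_right, polar_self_of_sing hy, hz2]
      simp
  have hxz : polar Q x (z0 + (-Q z0) • y) = 0 := by
    rw [polar_add_right, polar_smul_right, hz1, hxy]
    simp
  set z := z0 + (-Q z0) • y with hz
  obtain ⟨x', hxx', hyx', hzx'⟩ := exists_hyp_perp hG.nondeg hyz hx hx0 (polar_zero_of_comm hxy)
    (polar_zero_of_comm hxz)
  obtain ⟨a, c, ⟨ha1, ha2, ha3, ha4⟩, ⟨hc1, hc2, hc3, hc4⟩, hac⟩ :=
    exists_perp4 hG.nondeg hG.dim hxx' hyz hxy hxz (polar_zero_of_comm hyx')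
      (polar_zero_of_comm hzx')
  obtain ⟨w, hw, hxw, hyw, hzw⟩ : ∃ w, Q w ≠ 0 ∧ polar Q x w = 0 ∧ polar Q y w = 0 ∧
      polar Q z w = 0 := by
    rcases exists_nonsing hac with h | h | h
    · exact ⟨a, h, ha1, ha3, ha4⟩
    · exact ⟨c, h, hc1, hc3, hc4⟩
    · exact ⟨a + c, h, by rw [polar_add_right, ha1, hc1, add_zero],
        by rw [polar_add_right, ha3, hc3, add_zero], by rw [polar_add_right, ha4, hc4, add_zero]⟩
  have hyw' : polar Q y (-((Q w)⁻¹ • w)) = 0 := by
    rw [polar_neg_right, polar_smul_right, hyw]; simp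
  have e1 : siegel Q z w hyz.right hzw y = y + w - Q w • z := by
    rw [siegel_apply, hyz.pair', polar_comm Q w y, hyw]
    module
  have e2 : siegel Q y (-((Q w)⁻¹ • w)) hy hyw' ((-Q w) • z) = y + w - Q w • z := by
    rw [siegel_apply, QuadraticMap.map_neg, QuadraticMap.map_smul, polar_smul_right, hyz.pair,
      polar_neg_left, polar_smul_left, polar_smul_right, polar_comm Q w z, hzw]
    simp only [smul_eq_mul]
    (match_scalars <;> field_simp); ring_nf
  have e3 : siegel Q z w hyz.right hzw x = x := by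
    rw [siegel_apply, polar_comm Q z x, hxz, polar_comm Q w x, hxw]
    simp
  have e4 : siegel Q y (-((Q w)⁻¹ • w)) hy hyw' x = x := by
    rw [siegel_apply, polar_comm Q y x, hxy, polar_neg_left, polar_smul_left, polar_comm Q w x,
      hxw]
    simp
  refine ⟨z, hyz, (siegel Q y (-((Q w)⁻¹ • w)) hy hyw')⁻¹ * siegel Q z w hyz.right hzw,
    E_mul ((E Q).inv_mem (siegel_mem_E _ _)) (siegel_mem_E _ _), ?_, -Q w, neg_ne_zero.2 hw, ?_⟩
  · show (siegel Q y (-((Q w)⁻¹ • w)) hy hyw').symm (siegel Q z w hyz.right hzw x) = x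
    rw [e3, LinearEquiv.symm_apply_eq]
    exact e4.symm
  · show (siegel Q y (-((Q w)⁻¹ • w)) hy hyw').symm (siegel Q z w hyz.right hzw y) = _
    rw [LinearEquiv.symm_apply_eq, e1, e2]

/-- Two nonzero singular vectors have a common non-orthogonal singular vector. -/
theorem good_common_opposite (hG : Good Q) {x y : V} (hx : Q x = 0) (hy : Q y = 0)
    (hx0 : x ≠ 0) (hy0 : y ≠ 0) : ∃ z, Q z = 0 ∧ polar Q x z ≠ 0 ∧ polar Q y z ≠ 0 := by
  by_cases hxy : polar Q x y = 0
  · obtain ⟨x', hx'⟩ := OrthTrans.exists_hyp hG.nondeg hx hx0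
    obtain ⟨y', hy'⟩ := OrthTrans.exists_hyp hG.nondeg hy hy0
    by_cases h1 : polar Q x y' = 0
    · by_cases h2 : polar Q y x' = 0
      · refine ⟨x' + y' + (-polar Q x' y') • x, ?_, ?_, ?_⟩
        · rw [Q_add, Q_add, QuadraticMap.map_smul, hx'.right, hy'.right, polar_smul_right,
            polar_add_left, hx'.pair', polar_comm Q y' x, h1, hx]
          simp
        · rw [polar_add_right, polar_add_right, polar_smul_right, hx'.pair, h1,
            polar_self_of_sing hx]
          simp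
        · rw [polar_add_right, polar_add_right, polar_smul_right, hy'.pair, h2,
            polar_comm Q y x, hxy]
          simp
      · exact ⟨x', hx'.right, by rw [hx'.pair]; exact one_ne_zero, h2⟩
    · exact ⟨y', hy'.right, h1, by rw [hy'.pair]; exact one_ne_zero⟩
  · have hyp : Hyp Q x ((polar Q x y)⁻¹ • y) := by
      refine ⟨hx, ?_, ?_⟩
      · rw [QuadraticMap.map_smul, hy, smul_zero]
      · rw [polar_smul_right, smul_eq_mul, inv_mul_cancel₀ hxy]
    obtain ⟨a, c, ha1, ha2, hc1, hc2, hac⟩ := exists_perp2 hG.nondeg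
      (by have := hG.dim; omega) hyp
    obtain ⟨w, hw, hxw, hyw⟩ : ∃ w, Q w ≠ 0 ∧ polar Q x w = 0 ∧
        polar Q ((polar Q x y)⁻¹ • y) w = 0 := by
      rcases exists_nonsing hac with h | h | h
      · exact ⟨a, h, ha1, ha2⟩
      · exact ⟨c, h, hc1, hc2⟩
      · exact ⟨a + c, h, by rw [polar_add_right, ha1, hc1, add_zero],
          by rw [polar_add_right, ha2, hc2, add_zero]⟩
    have hyw' : polar Q y w = 0 := by
      rw [polar_smul_left, smul_eq_mul] at hyw
      rcases mul_eq_zero.1 hyw with h | h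
      · exact absurd (inv_eq_zero.1 h) hxy
      · exact h
    refine ⟨x + w - Q w • ((polar Q x y)⁻¹ • y), sing_vec hyp hxw hyw, ?_, ?_⟩
    · rw [polar_sub_right, polar_add_right, polar_smul_right, hyp.pair, hxw,
        polar_self_of_sing hx]
      simpa using hw
    · rw [polar_sub_right, polar_add_right, polar_smul_right, polar_smul_right, hyw',
        polar_self_of_sing hy, polar_comm Q y x]
      simpa using hxy

/-- A subgroup of `E Q` normal in `E Q` which moves some singular point is transitive on singular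
points. -/
theorem good_trans_of_normal (hG : Good Q) {N : Subgroup (V ≃ₗ[F] V)} (hNE : N ≤ E Q)
    (hN : ∀ g ∈ E Q, ∀ n ∈ N, g * n * g⁻¹ ∈ N) {n : V ≃ₗ[F] V} (hn : n ∈ N) {x : V}
    (hx : Q x = 0) (hnx : ∀ c : F, n x ≠ c • x) {u v : V} (hu : Q u = 0) (hv : Q v = 0)
    (hu0 : u ≠ 0) (hv0 : v ≠ 0) : ∃ m ∈ N, ∃ c : F, c ≠ 0 ∧ m u = c • v := by
  -- the relation
  let R : V → V → Prop := fun u v => ∃ m ∈ N, ∃ c : F, c ≠ 0 ∧ m u = c • v
  have hx0 : x ≠ 0 := by
    rintro rfl
    apply hnx 0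
    simp
  have Rsymm : ∀ {u v}, R u v → R v u := by
    rintro u v ⟨m, hm, c, hc, e⟩
    refine ⟨m⁻¹, N.inv_mem hm, c⁻¹, inv_ne_zero hc, ?_⟩
    show m.symm v = c⁻¹ • u
    rw [LinearEquiv.symm_apply_eq, map_smul, e, smul_smul, inv_mul_cancel₀ hc, one_smul]
  have Rtrans : ∀ {u v w}, R u v → R v w → R u w := by
    rintro u v w ⟨m, hm, c, hc, e⟩ ⟨m', hm', c', hc', e'⟩
    refine ⟨m' * m, N.mul_mem hm' hm, c * c', mul_ne_zero hc hc', ?_⟩
    show m' (m u) = _
    rw [e, map_smul, e', smul_smul]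
  have Rmap : ∀ {u v} {g : V ≃ₗ[F] V}, g ∈ E Q → R u v → R (g u) (g v) := by
    rintro u v g hg ⟨m, hm, c, hc, e⟩
    refine ⟨g * m * g⁻¹, hN g hg m hm, c, hc, ?_⟩
    show g (m (g.symm (g u))) = _
    rw [LinearEquiv.symm_apply_apply, e, map_smul]
  have Rsmul : ∀ {u v} {c : F}, c ≠ 0 → R u (c • v) → R u v := by
    rintro u v c hc ⟨m, hm, d, hd, e⟩
    exact ⟨m, hm, d * c, mul_ne_zero hd hc, by rw [e, smul_smul]⟩
  have hQnx : Q (n x) = 0 := by rw [mem_O.1 (E_le_O (hNE hn))]; exact hx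
  have R0 : R x (n x) := ⟨n, hn, 1, one_ne_zero, (one_smul _ _).symm⟩
  -- a related hyperbolic pair
  obtain ⟨a, b', hab, hR⟩ : ∃ a b', Hyp Q a b' ∧ R a b' := by
    by_cases hp : polar Q x (n x) = 0
    · obtain ⟨z, hz, g, hg, gx, c, hc, gy⟩ := good_move hG hx hQnx hp hx0 hnx
      refine ⟨n x, z, hz, ?_⟩
      have h1 : R x (c • z) := by
        have := Rmap hg R0
        rwa [gx, gy] at this
      exact Rtrans (Rsymm R0) (Rsmul hc h1)
    · refine ⟨x, (polar Q x (n x))⁻¹ • (n x), ⟨hx, ?_, ?_⟩, ?_⟩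
      · rw [QuadraticMap.map_smul, hQnx, smul_zero]
      · rw [polar_smul_right, smul_eq_mul, inv_mul_cancel₀ hp]
      · refine ⟨n, hn, polar Q x (n x), hp, ?_⟩
        rw [smul_smul, mul_inv_cancel₀ hp, one_smul]
  -- all hyperbolic pairs are related
  have hall : ∀ {c d : V}, Hyp Q c d → R c d := by
    intro c d hcd
    obtain ⟨g, hg, e1, e2⟩ := hG.trans_hyp hab hcd
    have := Rmap hg hR
    rwa [e1, e2] at this
  have hall' : ∀ {c d : V}, Q c = 0 → Q d = 0 → polar Q c d ≠ 0 → R c d := by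
    intro c d hc hd hcd
    refine Rsmul (c := (polar Q c d)⁻¹) (inv_ne_zero hcd) (hall ⟨hc, ?_, ?_⟩)
    · rw [QuadraticMap.map_smul, hd, smul_zero]
    · rw [polar_smul_right, smul_eq_mul, inv_mul_cancel₀ hcd]
  obtain ⟨z, hz, h1, h2⟩ := good_common_opposite hG hu hv hu0 hv0
  exact Rtrans (hall' hu hz h1) (Rsymm (hall' hv hz h2))

theorem siegel_smul_left {u w : V} {c : F} (hu : Q u = 0)
    (hu' : Q (c • u) = 0) (hw' : polar Q (c • u) w = 0) (hw'' : polar Q u (c • w) = 0) :
    siegel Q (c • u) w hu' hw' = siegel Q u (c • w) hu hw'' := by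
  ext v
  rw [siegel_apply, siegel_apply, QuadraticMap.map_smul, polar_smul_left, polar_smul_left]
  simp only [smul_eq_mul]
  module

theorem siegel_congr {u u' w w' : V} (hu : Q u = 0) (hw : polar Q u w = 0)
    (hu' : Q u' = 0) (hw' : polar Q u' w' = 0) (e : u = u') (e' : w = w') :
    siegel Q u w hu hw = siegel Q u' w' hu' hw' := by
  subst e e'
  rfl

/-- Iwasawa's argument: a subgroup of `E Q` normal in `E Q` which moves some singular point is
all of `E Q`. -/
theorem good_eq_top_of_normal (hG : Good Q) {N : Subgroup (V ≃ₗ[F] V)} (hNE : N ≤ E Q)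
    (hN : ∀ g ∈ E Q, ∀ n ∈ N, g * n * g⁻¹ ∈ N) {n : V ≃ₗ[F] V} (hn : n ∈ N) {x : V}
    (hx : Q x = 0) (hnx : ∀ c : F, n x ≠ c • x) : N = E Q := by
  apply le_antisymm hNE
  have hx0 : x ≠ 0 := by
    rintro rfl
    apply hnx 0
    simp
  -- every element of `E Q` is `m * siegel x w`
  have key : ∀ g ∈ E Q, ∃ m ∈ N, ∃ (w : V) (hw : polar Q x w = 0),
      g = m * siegel Q x w hx hw := by
    intro g hg
    induction hg using Subgroup.closure_induction with
    | mem g hg =>
      obtain ⟨u, w, hu, hw, rfl⟩ := hg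
      by_cases hu0 : u = 0
      · refine ⟨1, N.one_mem, 0, polar_zero_right _ _, ?_⟩
        ext v
        rw [siegel_apply, hu0, one_mul, siegel_apply]
        simp
      obtain ⟨m, hm, c, hc, e⟩ := good_trans_of_normal hG hNE hN hn hx hnx hx hu hx0 hu0
      have hmO : m ∈ O Q := E_le_O (hNE hm)
      have hmO' : m⁻¹ ∈ O Q := (O Q).inv_mem hmO
      have e' : m⁻¹ u = c⁻¹ • x := by
        show m.symm u = c⁻¹ • x
        rw [LinearEquiv.symm_apply_eq, map_smul, e, smul_smul, inv_mul_cancel₀ hc, one_smul]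
      have h1 : Q (m⁻¹ u) = 0 := by rw [mem_O.1 hmO']; exact hu
      have h2 : polar Q (m⁻¹ u) (m⁻¹ w) = 0 := by rw [polar_map hmO']; exact hw
      have h3 : Q (c⁻¹ • x) = 0 := by rw [← e']; exact h1
      have h4 : polar Q (c⁻¹ • x) (m⁻¹ w) = 0 := by rw [← e']; exact h2
      have h5 : polar Q x (c⁻¹ • m⁻¹ w) = 0 := by
        rw [polar_smul_right, ← polar_smul_left]; exact h4
      have e2 : m⁻¹ * siegel Q u w hu hw * m⁻¹⁻¹ = siegel Q x (c⁻¹ • m⁻¹ w) hx h5 := by
        rw [siegel_conj hmO' hu hw h1 h2, siegel_congr h1 h2 h3 h4 e' rfl,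
          siegel_smul_left hx h3 h4 h5]
      refine ⟨m * (siegel Q x (c⁻¹ • m⁻¹ w) hx h5 * m⁻¹ * (siegel Q x (c⁻¹ • m⁻¹ w) hx h5)⁻¹),
        N.mul_mem hm (hN _ (siegel_mem_E _ _) _ (N.inv_mem hm)), _, h5, ?_⟩
      rw [← e2]
      group
    | one =>
      refine ⟨1, N.one_mem, 0, polar_zero_right _ _, ?_⟩
      ext v
      rw [one_mul, siegel_apply]
      simp
    | mul g g' _ _ ih ih' =>
      obtain ⟨m, hm, w, hw, rfl⟩ := ih
      obtain ⟨m', hm', w', hw', rfl⟩ := ih'
      have h : polar Q x (w + w') = 0 := by rw [polar_add_right, hw, hw', add_zero]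
      refine ⟨m * (siegel Q x w hx hw * m' * (siegel Q x w hx hw)⁻¹),
        N.mul_mem hm (hN _ (siegel_mem_E _ _) _ hm'), w + w', h, ?_⟩
      rw [← siegel_mul hx hw hw' h]
      group
    | inv g _ ih =>
      obtain ⟨m, hm, w, hw, rfl⟩ := ih
      have h : polar Q x (-w) = 0 := by rw [polar_neg_right, hw, neg_zero]
      refine ⟨(siegel Q x w hx hw)⁻¹ * m⁻¹ * (siegel Q x w hx hw)⁻¹⁻¹,
        hN _ ((E Q).inv_mem (siegel_mem_E _ _)) _ (N.inv_mem hm), -w, h, ?_⟩
      rw [← siegel_inv hx hw h]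
      group
  rw [← hG.E_perfect, Subgroup.commutator_le]
  intro g hg g' hg'
  obtain ⟨m, hm, w, hw, rfl⟩ := key g hg
  obtain ⟨m', hm', w', hw', rfl⟩ := key g' hg'
  have h : polar Q x (w + w') = 0 := by rw [polar_add_right, hw, hw', add_zero]
  have h' : polar Q x (w' + w) = 0 := by rw [polar_add_right, hw, hw', add_zero]
  have hcomm : siegel Q x w hx hw * siegel Q x w' hx hw' =
      siegel Q x w' hx hw' * siegel Q x w hx hw := by
    rw [siegel_mul hx hw hw' h, siegel_mul hx hw' hw h']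
    exact siegel_congr _ _ _ _ rfl (add_comm _ _)
  set t := siegel Q x w hx hw with ht
  set t' := siegel Q x w' hx hw' with ht'
  have e : ⁅m * t, m' * t'⁆ = m * (t * m' * t⁻¹) * (t' * m⁻¹ * t'⁻¹) * m'⁻¹ := by
    have h1 : t * t' * t⁻¹ = t' := by rw [hcomm]; group
    calc ⁅m * t, m' * t'⁆ = m * t * (m' * t') * (m * t)⁻¹ * (m' * t')⁻¹ :=
          commutatorElement_def _ _
      _ = m * (t * m' * t⁻¹) * ((t * t' * t⁻¹) * m⁻¹ * t'⁻¹) * m'⁻¹ := by group
      _ = _ := by rw [h1]
  rw [e]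
  exact N.mul_mem (N.mul_mem (N.mul_mem hm (hN t (siegel_mem_E _ _) _ hm'))
    (hN t' (siegel_mem_E _ _) _ (N.inv_mem hm))) (N.inv_mem hm')

/-- An isometry fixing all singular points is a scalar. -/
theorem good_eq_smul_of_fix (hG : Good Q) {n : V ≃ₗ[F] V}
    (h : ∀ x : V, Q x = 0 → ∃ c : F, n x = c • x) : ∃ c : F, ∀ v : V, n v = c • v := by
  obtain ⟨x, y, hxy⟩ := hG.exists_hyp
  obtain ⟨c0, hc0⟩ := h x hxy.left
  have cancel : ∀ {z : V} {a b : F}, z ≠ 0 → a • z = b • z → a = b := by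
    intro z a b hz hab
    have h1 : (a - b) • z = 0 := by rw [sub_smul, hab, sub_self]
    rcases smul_eq_zero.1 h1 with h2 | h2
    · exact sub_eq_zero.1 h2
    · exact absurd h2 hz
  -- orthogonal and independent
  have h1 : ∀ {a b : V} {c d : F}, Q a = 0 → Q b = 0 → polar Q a b = 0 → a ≠ 0 →
      (∀ e : F, b ≠ e • a) → n a = c • a → n b = d • b → c = d := by
    intro a b c d ha hb hab ha0 hind hna hnb
    have hs : Q (a + b) = 0 := by rw [Q_add, ha, hb, hab]; simp
    obtain ⟨e, he⟩ := h (a + b) hs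
    rw [map_add, hna, hnb, smul_add] at he
    -- `(c - e) a = (e - d) b`
    have h2 : (e - d) • b = (c - e) • a := by
      have : (c - e) • a - (e - d) • b = (c • a + d • b) - (e • a + e • b) := by module
      rw [he, sub_self] at this
      exact (sub_eq_zero.1 this).symm
    by_cases h3 : e - d = 0
    · rw [h3, zero_smul] at h2
      have h4 : c - e = 0 := by
        rcases smul_eq_zero.1 h2.symm with h5 | h5
        · exact h5
        · exact absurd h5 ha0
      linear_combination h3 + h4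
    · exfalso
      apply hind ((e - d)⁻¹ * (c - e))
      rw [mul_smul, ← h2, smul_smul, inv_mul_cancel₀ h3, one_smul]
  refine ⟨c0, sing_induction hxy ?_ ?_⟩
  · intro a b ha hb
    show n (a + b) = _
    rw [map_add, ha, hb, smul_add]
  · intro a ha
    show n a = c0 • a
    by_cases ha0 : a = 0
    · rw [ha0]; simp
    obtain ⟨d, hd⟩ := h a ha
    rw [hd]
    congr 1
    -- find `w` orthogonal to `x` and `a` and independent of both
    by_cases hdep : ∃ e : F, a = e • x
    · obtain ⟨e, rfl⟩ := hdep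
      rw [map_smul, hc0, smul_comm] at hd
      exact (cancel ha0 hd).symm
    push Not at hdep
    by_cases hp : polar Q x a = 0
    · exact (h1 hxy.left ha hp hxy.left_ne hdep hc0 hd).symm
    · have hyp : Hyp Q x ((polar Q x a)⁻¹ • a) := by
        refine ⟨hxy.left, ?_, ?_⟩
        · rw [QuadraticMap.map_smul, ha, smul_zero]
        · rw [polar_smul_right, smul_eq_mul, inv_mul_cancel₀ hp]
      obtain ⟨w, hw0, hw, hxw, haw⟩ := hG.perp _ _ hyp
      have haw' : polar Q a w = 0 := by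
        rw [polar_smul_left, smul_eq_mul] at haw
        rcases mul_eq_zero.1 haw with h | h
        · exact absurd (inv_eq_zero.1 h) hp
        · exact h
      obtain ⟨f, hf⟩ := h w hw
      have e1 : c0 = f := by
        refine h1 hxy.left hw hxw hxy.left_ne ?_ hc0 hf
        rintro e rfl
        rw [polar_smul_right, polar_comm Q a x, smul_eq_mul] at haw'
        rcases mul_eq_zero.1 haw' with h | h
        · rw [h, zero_smul] at hw0
          exact hw0 rfl
        · exact hp h
      have e2 : d = f := by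
        refine h1 ha hw haw' ha0 ?_ hd hf
        rintro e rfl
        rw [polar_smul_right, smul_eq_mul] at hxw
        rcases mul_eq_zero.1 hxw with h | h
        · rw [h, zero_smul] at hw0
          exact hw0 rfl
        · exact hp h
      rw [e2, ← e1]

/-- Normal subgroups of `E Q` are central (scalars) or everything. -/
theorem good_normal_dichotomy (hG : Good Q) {N : Subgroup (V ≃ₗ[F] V)} (hNE : N ≤ E Q)
    (hN : ∀ g ∈ E Q, ∀ n ∈ N, g * n * g⁻¹ ∈ N) :
    (∀ n ∈ N, ∃ c : F, ∀ v : V, n v = c • v) ∨ N = E Q := by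
  by_cases h : ∀ n ∈ N, ∀ x : V, Q x = 0 → ∃ c : F, n x = c • x
  · left
    intro n hn
    exact good_eq_smul_of_fix hG (h n hn)
  · push Not at h
    obtain ⟨n, hn, x, hx, hnx⟩ := h
    right
    exact good_eq_top_of_normal hG hNE hN hn hx hnx

/-- The group `E Q` is not trivial. -/
theorem good_E_ne_bot (hG : Good Q) : ∃ g ∈ E Q, g ≠ 1 := by
  obtain ⟨x, y, hxy⟩ := hG.exists_hyp
  obtain ⟨w, hw0, hw, hxw, hyw⟩ := hG.perp x y hxy
  refine ⟨siegel Q x w hxy.left hxw, siegel_mem_E _ _, ?_⟩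
  intro h
  have h1 : siegel Q x w hxy.left hxw y = y := by rw [h]; rfl
  rw [siegel_apply, hxy.pair, hw, polar_comm Q w y, hyw] at h1
  apply hw0
  simpa using h1

/-- A perfect nontrivial group all of whose proper normal subgroups are central is simple modulo
its centre. -/
theorem isSimpleGroup_quotient_center {G : Type*} [Group G] [Nontrivial G]
    (hperf : commutator G = ⊤)
    (h : ∀ N : Subgroup G, N.Normal → N ≤ Subgroup.center G ∨ N = ⊤) :
    IsSimpleGroup (G ⧸ Subgroup.center G) := by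
  have hne : Subgroup.center G ≠ ⊤ := by
    intro hc
    have hb : commutator G = ⊥ := by
      rw [commutator_def, hc.symm, Subgroup.commutator_eq_bot_iff_le_centralizer]
      intro g hg
      rw [Subgroup.mem_centralizer_iff]
      intro k _
      exact (Subgroup.mem_center_iff.1 hg k)
    rw [hb] at hperf
    exact bot_ne_top hperf
  have : Nontrivial (G ⧸ Subgroup.center G) := by
    obtain ⟨g, hg⟩ : ∃ g, g ∉ Subgroup.center G := by
      by_contra hcon
      push Not at hcon
      exact hne (eq_top_iff.2 fun g _ => hcon g)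
    refine ⟨⟨(g : G ⧸ Subgroup.center G), 1, ?_⟩⟩
    intro hg1
    exact hg ((QuotientGroup.eq_one_iff g).1 hg1)
  refine ⟨fun H hH => ?_⟩
  have hcomap : (H.comap (QuotientGroup.mk' (Subgroup.center G))).Normal := hH.comap _
  have hsurj := QuotientGroup.mk'_surjective (Subgroup.center G)
  rcases h _ hcomap with h1 | h1
  · left
    rw [eq_bot_iff]
    intro q hq
    obtain ⟨g, rfl⟩ := hsurj q
    have : g ∈ Subgroup.center G := h1 hq
    rw [Subgroup.mem_bot]
    exact (QuotientGroup.eq_one_iff g).2 this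
  · right
    rw [eq_top_iff]
    intro q _
    obtain ⟨g, rfl⟩ := hsurj q
    have : g ∈ H.comap (QuotientGroup.mk' (Subgroup.center G)) := by rw [h1]; trivial
    exact this

/-- `E Q` modulo its centre is simple. -/
theorem good_isSimpleGroup (hG : Good Q) : IsSimpleGroup (E Q ⧸ Subgroup.center (E Q)) := by
  obtain ⟨g, hg, hg1⟩ := good_E_ne_bot hG
  have : Nontrivial (E Q) :=
    ⟨⟨⟨g, hg⟩, 1, fun h => hg1 (congrArg Subtype.val h)⟩⟩
  apply isSimpleGroup_quotient_center
  · rw [eq_top_iff, ← Subgroup.map_le_map_iff_of_injective (Subgroup.subtype_injective (E Q)),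
      commutator_def, Subgroup.map_commutator, ← MonoidHom.range_eq_map, Subgroup.range_subtype,
      hG.E_perfect]
  · intro N hN
    have hNE : N.map (E Q).subtype ≤ E Q := Subgroup.map_subtype_le N
    have hN' : ∀ g ∈ E Q, ∀ n ∈ N.map (E Q).subtype, g * n * g⁻¹ ∈ N.map (E Q).subtype := by
      rintro g hg _ ⟨n, hn, rfl⟩
      exact ⟨⟨g, hg⟩ * n * ⟨g, hg⟩⁻¹, hN.conj_mem n hn ⟨g, hg⟩, rfl⟩
    rcases good_normal_dichotomy hG hNE hN' with h | h
    · left
      intro n hn
      obtain ⟨c, hc⟩ := h n ⟨n, hn, rfl⟩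
      rw [Subgroup.mem_center_iff]
      intro k
      apply Subtype.ext
      ext v
      show (k : V ≃ₗ[F] V) ((n : V ≃ₗ[F] V) v) = (n : V ≃ₗ[F] V) ((k : V ≃ₗ[F] V) v)
      have e1 : (n : V ≃ₗ[F] V) v = c • v := hc v
      have e2 : (n : V ≃ₗ[F] V) ((k : V ≃ₗ[F] V) v) = c • ((k : V ≃ₗ[F] V) v) := hc _
      rw [e1, e2, map_smul]
    · right
      rw [eq_top_iff, ← Subgroup.map_le_map_iff_of_injective (Subgroup.subtype_injective (E Q)),
        h, ← MonoidHom.range_eq_map, Subgroup.range_subtype]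

end Cfsg.Agent.LieClassical.OrthSimple
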