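import Mathlib
import Cfsg.Prelude.Def_Classical
import Cfsg.Agent.LieClassical.OrthSimple

/-!
Finite fields: a nondegenerate quadratic form in dimension at least five is `Good` (Witt index at
least two); transfer of the abstract theory to `Cfsg.isometryGroup`; simplicity of `Cfsg.POmega`.
-/

set_option autoImplicit false

namespace Cfsg.Agent.LieClassical.OrthFinite

open QuadraticMap Cfsg.Agent.LieClassical.OrthCore Cfsg.Agent.LieClassical.OrthTrans
  Cfsg.Agent.LieClassical.OrthSimple
open scoped commutatorElement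

/-! ### Singular vectors over finite fields -/

section Finite

variable {F V : Type*} [Field F] [AddCommGroup V] [Module F V] {Q : QuadraticForm F V}

/-- Chevalley: a ternary quadratic form over a finite field has a nontrivial zero. -/
theorem exists_ternary_zero [Finite F] (a b c d e f : F) :
    ∃ x : Fin 3 → F, x ≠ 0 ∧
      a * x 0 ^ 2 + b * x 1 ^ 2 + c * x 2 ^ 2 + d * (x 0 * x 1) + e * (x 0 * x 2) +
        f * (x 1 * x 2) = 0 := by
  classical
  have := Fintype.ofFinite F
  obtain ⟨p, hp⟩ := CharP.exists F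
  have hprime : Fact p.Prime := ⟨CharP.char_is_prime F p⟩
  let P : MvPolynomial (Fin 3) F :=
    MvPolynomial.C a * MvPolynomial.X 0 ^ 2 + MvPolynomial.C b * MvPolynomial.X 1 ^ 2 +
      MvPolynomial.C c * MvPolynomial.X 2 ^ 2 +
      MvPolynomial.C d * (MvPolynomial.X 0 * MvPolynomial.X 1) +
      MvPolynomial.C e * (MvPolynomial.X 0 * MvPolynomial.X 2) +
      MvPolynomial.C f * (MvPolynomial.X 1 * MvPolynomial.X 2)
  have hom1 : ∀ (r : F) (i : Fin 3),
      (MvPolynomial.C r * MvPolynomial.X i ^ 2 : MvPolynomial (Fin 3) F).IsHomogeneous 2 := by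
    intro r i
    have h := (MvPolynomial.isHomogeneous_C (Fin 3) r).mul
      ((MvPolynomial.isHomogeneous_X F i).pow 2)
    simpa using h
  have hom2 : ∀ (r : F) (i j : Fin 3),
      (MvPolynomial.C r * (MvPolynomial.X i * MvPolynomial.X j) :
        MvPolynomial (Fin 3) F).IsHomogeneous 2 := by
    intro r i j
    have h := (MvPolynomial.isHomogeneous_C (Fin 3) r).mul
      ((MvPolynomial.isHomogeneous_X F i).mul (MvPolynomial.isHomogeneous_X F j))
    simpa using h
  have hP : P.IsHomogeneous 2 :=
    (((((hom1 a 0).add (hom1 b 1)).add (hom1 c 2)).add (hom2 d 0 1)).add (hom2 e 0 2)).add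
      (hom2 f 1 2)
  have hdeg : P.totalDegree < Fintype.card (Fin 3) := by
    refine lt_of_le_of_lt hP.totalDegree_le ?_
    simp
  have hdvd := char_dvd_card_solutions p hdeg
  have heval : ∀ x : Fin 3 → F, MvPolynomial.eval x P =
      a * x 0 ^ 2 + b * x 1 ^ 2 + c * x 2 ^ 2 + d * (x 0 * x 1) + e * (x 0 * x 2) +
        f * (x 1 * x 2) := by
    intro x
    simp [P]
  have h0 : MvPolynomial.eval (0 : Fin 3 → F) P = 0 := by
    rw [heval]; simp
  have hcard : 1 < Fintype.card {x : Fin 3 → F // MvPolynomial.eval x P = 0} := by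
    have hpos : 0 < Fintype.card {x : Fin 3 → F // MvPolynomial.eval x P = 0} :=
      Fintype.card_pos_iff.2 ⟨⟨0, h0⟩⟩
    exact lt_of_lt_of_le hprime.out.one_lt (Nat.le_of_dvd hpos hdvd)
  obtain ⟨⟨x, hx⟩, hne⟩ := Fintype.exists_ne_of_one_lt_card hcard ⟨0, h0⟩
  refine ⟨x, fun h => hne (Subtype.ext h), ?_⟩
  rw [← heval]
  exact hx

/-- A subspace of dimension at least three contains a nonzero singular vector. -/
theorem exists_sing_mem [Finite F] (W : Submodule F V) (hW : 3 ≤ Module.finrank F W) :
    ∃ w ∈ W, w ≠ 0 ∧ Q w = 0 := by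
  have : Module.Finite F W := Module.finite_of_finrank_pos (by omega)
  let bs := Module.finBasis F W
  let v : Fin 3 → W := fun i => bs (Fin.castLE hW i)
  have hv : LinearIndependent F v := bs.linearIndependent.comp _ (Fin.castLE_injective hW)
  obtain ⟨x, hx0, hx⟩ := exists_ternary_zero (Q (v 0 : V)) (Q (v 1 : V)) (Q (v 2 : V))
    (polar Q (v 0 : V) (v 1 : V)) (polar Q (v 0 : V) (v 2 : V)) (polar Q (v 1 : V) (v 2 : V))
  refine ⟨((∑ i, x i • v i : W) : V), Submodule.coe_mem _, ?_, ?_⟩
  · intro h
    apply hx0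
    have h1 : (∑ i, x i • v i : W) = 0 := Subtype.ext h
    funext i
    exact Fintype.linearIndependent_iff.1 hv x h1 i
  · have e : ((∑ i, x i • v i : W) : V) =
        x 0 • (v 0 : V) + x 1 • (v 1 : V) + x 2 • (v 2 : V) := by
      rw [Fin.sum_univ_three]; rfl
    rw [e, Q_add, Q_add, QuadraticMap.map_smul, QuadraticMap.map_smul, QuadraticMap.map_smul,
      polar_add_left]
    simp only [polar_smul_left, polar_smul_right, smul_eq_mul]
    rw [← hx]
    ring

/-- A nonzero singular vector orthogonal to `n` given vectors, in dimension at least `n + 3`. -/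
theorem exists_sing_perp [Finite F] {n : ℕ} (u : Fin n → V) (hn : n + 3 ≤ Module.finrank F V) :
    ∃ w : V, w ≠ 0 ∧ Q w = 0 ∧ ∀ i, polar Q (u i) w = 0 := by
  let f : V →ₗ[F] (Fin n → F) := LinearMap.pi fun i => polarBilin Q (u i)
  have : Module.Finite F V := Module.finite_of_finrank_pos (by omega)
  have h1 := LinearMap.finrank_range_add_finrank_ker f
  have h2 : Module.finrank F (LinearMap.range f) ≤ n := by
    refine le_trans (Submodule.finrank_le _) ?_
    rw [Module.finrank_fin_fun]
  obtain ⟨w, hw, hw0, hQw⟩ := exists_sing_mem (Q := Q) (LinearMap.ker f) (by omega)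
  refine ⟨w, hw0, hQw, fun i => ?_⟩
  have := congrFun (LinearMap.mem_ker.1 hw) i
  simpa [f] using this

/-- Over a finite field a nondegenerate form in dimension at least five is `Good`. -/
theorem good_of_finite [Finite F] (hQ : Nondeg Q) (hd : 5 ≤ Module.finrank F V) : Good Q where
  nondeg := hQ
  dim := hd
  sing := by
    obtain ⟨w, hw0, hw, -⟩ := exists_sing_perp (Q := Q) (n := 0) ![] (by omega)
    exact ⟨w, hw0, hw⟩
  perp := by
    intro x y _
    obtain ⟨w, hw0, hw, h⟩ := exists_sing_perp (Q := Q) ![x, y] (by omega)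
    exact ⟨w, hw0, hw, h 0, h 1⟩

end Finite

/-! ### Transfer to matrices -/

section Transfer

variable {ι : Type} [Fintype ι] [DecidableEq ι] {F : Type*} [Field F]

/-- `GL ι F` as linear automorphisms of `ι → F` (`g` acts by `g *ᵥ v`). -/
noncomputable def glEquiv (ι : Type) [Fintype ι] [DecidableEq ι] (F : Type*) [Field F] :
    Matrix.GeneralLinearGroup ι F ≃* ((ι → F) ≃ₗ[F] (ι → F)) :=
  Matrix.GeneralLinearGroup.toLin.trans (LinearMap.GeneralLinearGroup.generalLinearEquiv F (ι → F))

theorem glEquiv_apply (g : Matrix.GeneralLinearGroup ι F) (v : ι → F) :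
    glEquiv ι F g v = (g : Matrix ι ι F).mulVec v := rfl

theorem mem_isometryGroup_iff {Q : (ι → F) → F} {g : Matrix.GeneralLinearGroup ι F} :
    g ∈ Cfsg.isometryGroup F Q ↔ ∀ v, Q ((g : Matrix ι ι F).mulVec v) = Q v :=
  ⟨fun h v => h v v, fun h u _ => h u⟩

theorem map_isometryGroup (Q : QuadraticForm F (ι → F)) :
    (Cfsg.isometryGroup F ⇑Q).map (glEquiv ι F).toMonoidHom = O Q := by
  ext g
  constructor
  · rintro ⟨h, hh, rfl⟩
    exact mem_isometryGroup_iff.1 hh
  · intro hg
    refine ⟨(glEquiv ι F).symm g, mem_isometryGroup_iff.2 fun v => ?_,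
      (glEquiv ι F).apply_symm_apply g⟩
    rw [← glEquiv_apply, MulEquiv.apply_symm_apply]
    exact hg v

/-- `isometryGroup F Q` as isometries of the quadratic space `ι → F`. -/
noncomputable def isometryEquiv (Q : QuadraticForm F (ι → F)) :
    Cfsg.isometryGroup F ⇑Q ≃* O Q :=
  ((glEquiv ι F).subgroupMap (Cfsg.isometryGroup F ⇑Q)).trans
    (MulEquiv.subgroupCongr (map_isometryGroup Q))

theorem isometryEquiv_apply (Q : QuadraticForm F (ι → F)) (g : Cfsg.isometryGroup F ⇑Q)
    (v : ι → F) :
    (isometryEquiv Q g : (ι → F) ≃ₗ[F] (ι → F)) v =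
      ((g : Matrix.GeneralLinearGroup ι F) : Matrix ι ι F).mulVec v := rfl

/-- The homomorphism from the isometry group (as matrices) to linear automorphisms. -/
noncomputable def isometryHom (Q : QuadraticForm F (ι → F)) :
    Cfsg.isometryGroup F ⇑Q →* ((ι → F) ≃ₗ[F] (ι → F)) :=
  (glEquiv ι F).toMonoidHom.comp (Cfsg.isometryGroup F ⇑Q).subtype

theorem isometryHom_apply (Q : QuadraticForm F (ι → F)) (g : Cfsg.isometryGroup F ⇑Q)
    (v : ι → F) :
    isometryHom Q g v = ((g : Matrix.GeneralLinearGroup ι F) : Matrix ι ι F).mulVec v := rfl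

theorem isometryHom_injective (Q : QuadraticForm F (ι → F)) :
    Function.Injective (isometryHom Q) :=
  (glEquiv ι F).injective.comp (Subgroup.subtype_injective _)

theorem isometryHom_range (Q : QuadraticForm F (ι → F)) :
    (isometryHom Q).range = O Q := by
  rw [← map_isometryGroup, isometryHom, MonoidHom.range_comp, Subgroup.range_subtype]

theorem map_Omega (Q : QuadraticForm F (ι → F)) :
    (Cfsg.Omega F ⇑Q).map (isometryHom Q) = ⁅O Q, O Q⁆ := by
  rw [Cfsg.Omega, commutator_def, Subgroup.map_commutator, ← MonoidHom.range_eq_map,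
    isometryHom_range]

/-- `Omega F Q` is isomorphic to the commutator subgroup of `O Q`. -/
noncomputable def omegaEquiv (Q : QuadraticForm F (ι → F)) :
    Cfsg.Omega F ⇑Q ≃* (⁅O Q, O Q⁆ : Subgroup ((ι → F) ≃ₗ[F] (ι → F))) :=
  ((Cfsg.Omega F ⇑Q).equivMapOfInjective (isometryHom Q) (isometryHom_injective Q)).trans
    (MulEquiv.subgroupCongr (map_Omega Q))

theorem omegaEquiv_apply (Q : QuadraticForm F (ι → F)) (g : Cfsg.Omega F ⇑Q) (v : ι → F) :
    (omegaEquiv Q g : (ι → F) ≃ₗ[F] (ι → F)) v =
      (((g : Cfsg.isometryGroup F ⇑Q) : Matrix.GeneralLinearGroup ι F) : Matrix ι ι F).mulVec v :=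
  rfl

theorem map_center_mulEquiv {G H : Type*} [Group G] [Group H] (e : G ≃* H) :
    (Subgroup.center G).map e.toMonoidHom = Subgroup.center H := by
  ext h
  constructor
  · rintro ⟨g, hg, rfl⟩
    rw [Subgroup.mem_center_iff]
    intro k
    obtain ⟨k, rfl⟩ := e.surjective k
    have := Subgroup.mem_center_iff.1 hg k
    show e k * e g = e g * e k
    rw [← map_mul, this, map_mul]
  · intro hh
    refine ⟨e.symm h, ?_, e.apply_symm_apply h⟩
    rw [SetLike.mem_coe, Subgroup.mem_center_iff]
    intro k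
    apply e.injective
    rw [map_mul, map_mul, e.apply_symm_apply]
    exact Subgroup.mem_center_iff.1 hh (e k)

/-- Isomorphic groups have isomorphic quotients by their centres. -/
noncomputable def quotientCenterCongr {G H : Type*} [Group G] [Group H] (e : G ≃* H) :
    G ⧸ Subgroup.center G ≃* H ⧸ Subgroup.center H :=
  QuotientGroup.congr _ _ e (map_center_mulEquiv e)

theorem isSimpleGroup_quotient_center_congr {G H : Type*} [Group G] [Group H] (e : G ≃* H)
    (h : IsSimpleGroup (H ⧸ Subgroup.center H)) : IsSimpleGroup (G ⧸ Subgroup.center G) :=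
  (quotientCenterCongr e).isSimpleGroup

/-- `POmega F Q` is simple when `Q` is `Good`. -/
theorem isSimpleGroup_POmega_of_good {Q : QuadraticForm F (ι → F)} (hG : Good Q) :
    IsSimpleGroup (Cfsg.POmega F ⇑Q) :=
  isSimpleGroup_quotient_center_congr
    ((omegaEquiv Q).trans (MulEquiv.subgroupCongr hG.commutator_eq_E)) (good_isSimpleGroup hG)

/-- `POmega F Q` is simple for a nondegenerate quadratic form over a finite field in dimension at
least five. -/
theorem isSimpleGroup_POmega [Finite F] {Q : QuadraticForm F (ι → F)} (hQ : Nondeg Q)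
    (hd : 5 ≤ Fintype.card ι) : IsSimpleGroup (Cfsg.POmega F ⇑Q) :=
  isSimpleGroup_POmega_of_good (good_of_finite hQ (by rwa [Module.finrank_fintype_fun_eq_card]))

end Transfer

end Cfsg.Agent.LieClassical.OrthFinite
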