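import Mathlib
import Cfsg.Prelude.Def_Classical
import Cfsg.Agent.LieClassical.OrthCore

/-!
The forms `quadFormOdd`, `quadFormPlus`, `quadFormMinus` of `Def_Classical` as Mathlib quadratic
forms, their polar forms and nondegeneracy.
-/

set_option autoImplicit false

namespace Cfsg.Agent.LieClassical.OrthForms

open QuadraticMap Cfsg.Agent.LieClassical.OrthCore

variable (m : ℕ) (F : Type*) [Field F]

/-- Coordinate functional. -/
abbrev coord (ι : Type) (i : ι) : (ι → F) →ₗ[F] F := LinearMap.proj i

theorem quadFormPlus_apply (v : Fin m ⊕ Fin m → F) :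
    Cfsg.quadFormPlus m F v = ∑ i : Fin m, v (.inl i) * v (.inr i) := rfl

theorem quadFormMinus_apply (a b : F) (v : (Fin m ⊕ Fin m) ⊕ Fin 2 → F) :
    Cfsg.quadFormMinus m F a b v = (∑ i : Fin m, v (.inl (.inl i)) * v (.inl (.inr i)))
    + (v (.inr 0) ^ 2 + a * v (.inr 0) * v (.inr 1) + b * v (.inr 1) ^ 2) := rfl

theorem quadFormOdd_apply (v : Unit ⊕ (Fin m ⊕ Fin m) → F) :
    Cfsg.quadFormOdd m F v =
      v (.inl ()) ^ 2 + ∑ i : Fin m, v (.inr (.inl i)) * v (.inr (.inr i)) := rfl

/-- `quadFormPlus` as a quadratic form. -/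
def plusForm : QuadraticForm F (Fin m ⊕ Fin m → F) :=
  ∑ i : Fin m, QuadraticMap.linMulLin (coord F _ (Sum.inl i)) (coord F _ (Sum.inr i))

theorem coe_plusForm : ⇑(plusForm m F) = Cfsg.quadFormPlus m F := by
  funext v
  simp [plusForm, quadFormPlus_apply]

theorem polar_plusForm (u v : Fin m ⊕ Fin m → F) :
    polar (plusForm m F) u v =
      ∑ i : Fin m, (u (.inl i) * v (.inr i) + v (.inl i) * u (.inr i)) := by
  simp only [polar, coe_plusForm, quadFormPlus_apply, Pi.add_apply, ← Finset.sum_sub_distrib]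
  exact Finset.sum_congr rfl fun i _ => by ring

theorem nondeg_plusForm : Nondeg (plusForm m F) := by
  classical
  intro x hx
  funext i
  rcases i with i | i
  · have := hx (Pi.single (Sum.inr i) 1)
    rw [polar_plusForm] at this
    simpa [Pi.single_apply] using this
  · have := hx (Pi.single (Sum.inl i) 1)
    rw [polar_plusForm] at this
    simpa [Pi.single_apply] using this

/-- `quadFormMinus` as a quadratic form. -/
def minusForm (a b : F) : QuadraticForm F ((Fin m ⊕ Fin m) ⊕ Fin 2 → F) :=
  (∑ i : Fin m, QuadraticMap.linMulLin (coord F _ (Sum.inl (Sum.inl i)))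
    (coord F _ (Sum.inl (Sum.inr i)))) +
  (QuadraticMap.linMulLin (coord F _ (Sum.inr 0)) (coord F _ (Sum.inr 0)) +
    a • QuadraticMap.linMulLin (coord F _ (Sum.inr 0)) (coord F _ (Sum.inr 1)) +
    b • QuadraticMap.linMulLin (coord F _ (Sum.inr 1)) (coord F _ (Sum.inr 1)))

theorem coe_minusForm (a b : F) : ⇑(minusForm m F a b) = Cfsg.quadFormMinus m F a b := by
  funext v
  simp only [minusForm, quadFormMinus_apply, add_apply, smul_apply,
    sum_apply, QuadraticMap.linMulLin_apply, LinearMap.proj_apply, smul_eq_mul]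
  ring

theorem polar_minusForm (a b : F) (u v : (Fin m ⊕ Fin m) ⊕ Fin 2 → F) :
    polar (minusForm m F a b) u v =
      ∑ i : Fin m, (u (.inl (.inl i)) * v (.inl (.inr i)) + v (.inl (.inl i)) * u (.inl (.inr i)))
      + (2 * u (.inr 0) * v (.inr 0) + a * (u (.inr 0) * v (.inr 1) + u (.inr 1) * v (.inr 0)) +
        2 * b * u (.inr 1) * v (.inr 1)) := by
  have e : ∀ w : (Fin m ⊕ Fin m) ⊕ Fin 2 → F, Cfsg.quadFormMinus m F a b w =
      Cfsg.quadFormPlus m F (fun i => w (.inl i)) +
      (w (.inr 0) ^ 2 + a * w (.inr 0) * w (.inr 1) + b * w (.inr 1) ^ 2) := fun _ => rfl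
  have h := polar_plusForm m F (fun i => u (.inl i)) (fun i => v (.inl i))
  rw [polar, coe_plusForm] at h
  rw [polar, coe_minusForm, e, e, e]
  have h3 : (fun i => (u + v) (Sum.inl i)) = (fun i => u (.inl i)) + (fun i => v (.inl i)) := rfl
  rw [h3]
  simp only [Pi.add_apply] at h ⊢
  linear_combination h

/-- An anisotropic binary form over a finite field has nondegenerate polar form (in the
coordinates of `quadFormMinus`). -/
theorem binary_nondeg [Finite F] (a b : F)
    (hab : ∀ z₁ z₂ : F, z₁ ^ 2 + a * z₁ * z₂ + b * z₂ ^ 2 = 0 → z₁ = 0 ∧ z₂ = 0) {z w : F}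
    (h1 : 2 * z + a * w = 0) (h2 : a * z + 2 * b * w = 0) : z = 0 ∧ w = 0 := by
  by_cases h : (2 : F) = 0
  · -- characteristic two
    have ha : a ≠ 0 := by
      rintro rfl
      have hc2 : CharP F 2 := CharTwo.of_one_ne_zero_of_two_eq_zero one_ne_zero h
      have := Fintype.ofFinite F
      obtain ⟨c, hc⟩ : ∃ c : F, c ^ 2 = b := by
        have hs : IsSquare b := FiniteField.isSquare_of_char_two
          (ringChar.eq_iff.2 hc2) b
        obtain ⟨c, hc⟩ := hs
        exact ⟨c, by rw [hc, pow_two]⟩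
      have h3 := hab c 1 (by rw [← hc]; linear_combination c ^ 2 * h)
      exact one_ne_zero h3.2
    rw [h] at h1 h2
    constructor
    · have : a * z = 0 := by linear_combination h2
      exact (mul_eq_zero.1 this).resolve_left ha
    · have : a * w = 0 := by linear_combination h1
      exact (mul_eq_zero.1 this).resolve_left ha
  · apply hab
    have : (2 : F) * (z ^ 2 + a * z * w + b * w ^ 2) = 0 := by
      linear_combination z * h1 + w * h2
    exact (mul_eq_zero.1 this).resolve_left h

theorem nondeg_minusForm [Finite F] (a b : F)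
    (hab : ∀ z₁ z₂ : F, z₁ ^ 2 + a * z₁ * z₂ + b * z₂ ^ 2 = 0 → z₁ = 0 ∧ z₂ = 0) :
    Nondeg (minusForm m F a b) := by
  classical
  intro x hx
  have h01 : (0 : Fin 2) ≠ 1 := by decide
  have hbin : x (.inr 0) = 0 ∧ x (.inr 1) = 0 := by
    apply binary_nondeg F a b hab
    · have := hx (Pi.single (Sum.inr 0) 1)
      rw [polar_minusForm] at this
      simpa [Pi.single_apply] using this
    · have := hx (Pi.single (Sum.inr 1) 1)
      rw [polar_minusForm] at this
      simpa [Pi.single_apply] using this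
  funext i
  rcases i with (i | i) | i
  · have := hx (Pi.single (Sum.inl (Sum.inr i)) 1)
    rw [polar_minusForm] at this
    simpa [Pi.single_apply] using this
  · have := hx (Pi.single (Sum.inl (Sum.inl i)) 1)
    rw [polar_minusForm] at this
    simpa [Pi.single_apply] using this
  · fin_cases i
    · exact hbin.1
    · exact hbin.2

/-- `quadFormOdd` as a quadratic form. -/
def oddForm : QuadraticForm F (Unit ⊕ (Fin m ⊕ Fin m) → F) :=
  QuadraticMap.linMulLin (coord F _ (Sum.inl ())) (coord F _ (Sum.inl ())) +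
  ∑ i : Fin m, QuadraticMap.linMulLin (coord F _ (Sum.inr (Sum.inl i)))
    (coord F _ (Sum.inr (Sum.inr i)))

theorem coe_oddForm : ⇑(oddForm m F) = Cfsg.quadFormOdd m F := by
  funext v
  simp only [oddForm, quadFormOdd_apply, add_apply,
    sum_apply, QuadraticMap.linMulLin_apply, LinearMap.proj_apply]
  ring

theorem polar_oddForm (u v : Unit ⊕ (Fin m ⊕ Fin m) → F) :
    polar (oddForm m F) u v = 2 * u (.inl ()) * v (.inl ()) +
      ∑ i : Fin m, (u (.inr (.inl i)) * v (.inr (.inr i)) +
        v (.inr (.inl i)) * u (.inr (.inr i))) := by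
  have e : ∀ w : Unit ⊕ (Fin m ⊕ Fin m) → F, Cfsg.quadFormOdd m F w =
      w (.inl ()) ^ 2 + Cfsg.quadFormPlus m F (fun i => w (.inr i)) := fun _ => rfl
  have h := polar_plusForm m F (fun i => u (.inr i)) (fun i => v (.inr i))
  rw [polar, coe_plusForm] at h
  rw [polar, coe_oddForm, e, e, e]
  have h3 : (fun i => (u + v) (Sum.inr i)) = (fun i => u (.inr i)) + (fun i => v (.inr i)) := rfl
  rw [h3]
  simp only [Pi.add_apply] at h ⊢
  linear_combination h

theorem nondeg_oddForm (h2 : (2 : F) ≠ 0) : Nondeg (oddForm m F) := by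
  classical
  intro x hx
  funext i
  rcases i with i | (i | i)
  · have := hx (Pi.single (Sum.inl ()) 1)
    rw [polar_oddForm] at this
    have h3 : 2 * x (Sum.inl ()) = 0 := by simpa [Pi.single_apply] using this
    exact (mul_eq_zero.1 h3).resolve_left h2
  · have := hx (Pi.single (Sum.inr (Sum.inr i)) 1)
    rw [polar_oddForm] at this
    simpa [Pi.single_apply] using this
  · have := hx (Pi.single (Sum.inr (Sum.inl i)) 1)
    rw [polar_oddForm] at this
    simpa [Pi.single_apply] using this

end Cfsg.Agent.LieClassical.OrthForms
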