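import Mathlib
import Cfsg.Agent.ClassicalGeometry.SympBasic

/-!
Iwasawa's argument for the symplectic group: a normal subgroup of `Sp_{2m}(F)` which is not central contains
the derived subgroup, provided the symplectic transvections generate.
-/

set_option autoImplicit false
open Cfsg
open scoped Matrix

namespace Cfsg.Agent.LieClassical.SympSimple

open Cfsg.Agent.ClassicalGeometry.SympBasic

variable {F : Type*} [Field F] {m : ℕ}

/-- A symplectic matrix mapping every vector to a multiple of itself is central. -/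
theorem mem_center_of_forall {A : Matrix.symplecticGroup (Fin m) F}
    (h : ∀ v : Fin m ⊕ Fin m → F, ∃ a : F,
      (A : Matrix (Fin m ⊕ Fin m) (Fin m ⊕ Fin m) F) *ᵥ v = a • v) :
    A ∈ Subgroup.center (Matrix.symplecticGroup (Fin m) F) := by
  choose a ha using h
  -- products of eigenvalues of non-orthogonal vectors are one
  have h1 : ∀ v w, sympForm m F v w ≠ 0 → a v * a w = 1 := by
    intro v w hvw
    have h := sympForm_mulVec A.2 v w
    rw [ha v, ha w, sympForm_smul_left, sympForm_smul_right, ← mul_assoc] at h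
    exact mul_right_cancel₀ hvw (h.trans (one_mul _).symm)
  have h2 : ∀ v w, v ≠ 0 → w ≠ 0 → a v = a w := by
    intro v w hv hw
    obtain ⟨z, hz1, hz2⟩ := exists_both_ne_zero hv hw
    have e1 := h1 v z hz1
    have e2 := h1 w z hz2
    have hz : a z ≠ 0 := right_ne_zero_of_mul_eq_one e1
    exact mul_right_cancel₀ hz (e1.trans e2.symm)
  obtain ⟨b, hb⟩ : ∃ b : F, ∀ v : Fin m ⊕ Fin m → F,
      (A : Matrix (Fin m ⊕ Fin m) (Fin m ⊕ Fin m) F) *ᵥ v = b • v := by
    by_cases hex : ∃ v0 : Fin m ⊕ Fin m → F, v0 ≠ 0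
    · obtain ⟨v0, hv0⟩ := hex
      refine ⟨a v0, fun v => ?_⟩
      by_cases hv : v = 0
      · subst hv
        rw [Matrix.mulVec_zero, smul_zero]
      · rw [ha v, h2 v v0 hv hv0]
    · push Not at hex
      refine ⟨1, fun v => ?_⟩
      rw [hex v, Matrix.mulVec_zero, smul_zero]
  rw [Subgroup.mem_center_iff]
  intro B
  apply Subtype.ext
  rw [← Matrix.mulVec_injective.eq_iff]
  funext x
  rw [coe_mul_mulVec, coe_mul_mulVec, hb, hb, Matrix.mulVec_smul]

/-- The relation used below: some element of `N` maps `v` to a non-zero multiple of `w`. -/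
def Rel (N : Subgroup (Matrix.symplecticGroup (Fin m) F)) (v w : Fin m ⊕ Fin m → F) : Prop :=
  ∃ n ∈ N, ∃ a : F, a ≠ 0 ∧ (n : Matrix (Fin m ⊕ Fin m) (Fin m ⊕ Fin m) F) *ᵥ v = a • w

theorem Rel.trans {N : Subgroup (Matrix.symplecticGroup (Fin m) F)}
    {u v w : Fin m ⊕ Fin m → F} (h1 : Rel N u v) (h2 : Rel N v w) : Rel N u w := by
  obtain ⟨n1, hn1, a1, ha1, e1⟩ := h1
  obtain ⟨n2, hn2, a2, ha2, e2⟩ := h2
  refine ⟨n2 * n1, mul_mem hn2 hn1, a1 * a2, mul_ne_zero ha1 ha2, ?_⟩
  rw [coe_mul_mulVec, e1, Matrix.mulVec_smul, e2, smul_smul]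

/-- Two independent vectors can be separated by a functional `f(·,x)` vanishing on the first. -/
theorem exists_perp_of_not_smul {v w : Fin m ⊕ Fin m → F} (hv : v ≠ 0)
    (h : ∀ a : F, w ≠ a • v) : ∃ x, sympForm m F v x = 0 ∧ sympForm m F w x ≠ 0 := by
  by_contra hcon
  push Not at hcon
  obtain ⟨y, hy⟩ : ∃ y, sympForm m F v y ≠ 0 := by
    by_contra h
    push Not at h
    exact hv (eq_zero_of_forall_sympForm_right h)
  apply h (sympForm m F w y * (sympForm m F v y)⁻¹)
  apply eq_of_forall_sympForm_right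
  intro x
  have h1 : sympForm m F v (x - (sympForm m F v x * (sympForm m F v y)⁻¹) • y) = 0 := by
    rw [sympForm_sub_right, sympForm_smul_right]
    field_simp
    ring
  have h2 := hcon _ h1
  rw [sympForm_sub_right, sympForm_smul_right, sub_eq_zero] at h2
  rw [h2, sympForm_smul_left]
  ring

/-- A non-central normal subgroup relates two non-orthogonal vectors. -/
theorem exists_rel_of_not_le_center (N : Subgroup (Matrix.symplecticGroup (Fin m) F)) [N.Normal]
    (hN : ¬ N ≤ Subgroup.center _) :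
    ∃ n ∈ N, ∃ v, sympForm m F v ((n : Matrix (Fin m ⊕ Fin m) (Fin m ⊕ Fin m) F) *ᵥ v) ≠ 0 := by
  obtain ⟨n, hn, hnc⟩ := SetLike.not_le_iff_exists.1 hN
  have : ∃ v : Fin m ⊕ Fin m → F, ∀ a : F,
      (n : Matrix (Fin m ⊕ Fin m) (Fin m ⊕ Fin m) F) *ᵥ v ≠ a • v := by
    by_contra h
    push Not at h
    exact hnc (mem_center_of_forall h)
  obtain ⟨v, hv⟩ := this
  have hv0 : v ≠ 0 := by
    rintro rfl
    apply hv 0
    rw [Matrix.mulVec_zero, smul_zero]
  set w := (n : Matrix (Fin m ⊕ Fin m) (Fin m ⊕ Fin m) F) *ᵥ v with hw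
  obtain ⟨x, hx1, hx2⟩ := exists_perp_of_not_smul hv0 hv
  have hmem : transv x 1 * n * (transv x 1)⁻¹ * n⁻¹ ∈ N :=
    mul_mem (Subgroup.Normal.conj_mem inferInstance n hn _) (inv_mem hn)
  refine ⟨_, hmem, w, ?_⟩
  have e1 : ((n⁻¹ : Matrix.symplecticGroup (Fin m) F) :
      Matrix (Fin m ⊕ Fin m) (Fin m ⊕ Fin m) F) *ᵥ w = v := by
    rw [hw, ← coe_mul_mulVec, inv_mul_cancel, Submonoid.coe_one, Matrix.one_mulVec]
  have e2 : (((transv x 1)⁻¹ : Matrix.symplecticGroup (Fin m) F) :
      Matrix (Fin m ⊕ Fin m) (Fin m ⊕ Fin m) F) *ᵥ v = v := by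
    have : (transv x 1 : Matrix.symplecticGroup (Fin m) F) *
        (transv x 1)⁻¹ = 1 := mul_inv_cancel _
    have h3 : ((transv x 1 : Matrix.symplecticGroup (Fin m) F) :
      Matrix (Fin m ⊕ Fin m) (Fin m ⊕ Fin m) F) *ᵥ v = v := by
      rw [coe_transv, sympTransvection_mulVec, hx1, mul_zero, zero_smul, add_zero]
    conv_lhs => rw [← h3]
    rw [← coe_mul_mulVec, inv_mul_cancel, Submonoid.coe_one, Matrix.one_mulVec]
  rw [coe_mul_mulVec, coe_mul_mulVec, coe_mul_mulVec, e1, e2, ← hw, coe_transv,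
    sympTransvection_mulVec, sympForm_add_right, sympForm_self, sympForm_smul_right, zero_add,
    one_mul]
  exact mul_ne_zero hx2 hx2

/-- A non-central normal subgroup is transitive on points. -/
theorem rel_of_not_le_center (N : Subgroup (Matrix.symplecticGroup (Fin m) F)) [N.Normal]
    (hN : ¬ N ≤ Subgroup.center _) {v w : Fin m ⊕ Fin m → F} (hv : v ≠ 0) (hw : w ≠ 0) :
    Rel N v w := by
  obtain ⟨n, hn, u, hu⟩ := exists_rel_of_not_le_center N hN
  have key : ∀ v w, sympForm m F v w ≠ 0 → Rel N v w := by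
    intro v w hvw
    have h1 : sympForm m F u ((sympForm m F u
        ((n : Matrix (Fin m ⊕ Fin m) (Fin m ⊕ Fin m) F) *ᵥ u))⁻¹ •
        ((n : Matrix (Fin m ⊕ Fin m) (Fin m ⊕ Fin m) F) *ᵥ u)) = 1 := by
      rw [sympForm_smul_right, inv_mul_cancel₀ hu]
    have h2 : sympForm m F v ((sympForm m F v w)⁻¹ • w) = 1 := by
      rw [sympForm_smul_right, inv_mul_cancel₀ hvw]
    obtain ⟨g, -, hg1, hg2⟩ := exists_transvGroup_hyperbolic h1 h2
    refine ⟨g * n * g⁻¹, Subgroup.Normal.conj_mem inferInstance n hn g,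
      (sympForm m F u ((n : Matrix (Fin m ⊕ Fin m) (Fin m ⊕ Fin m) F) *ᵥ u)) *
      (sympForm m F v w)⁻¹, mul_ne_zero hu (inv_ne_zero hvw), ?_⟩
    have e1 : ((g⁻¹ : Matrix.symplecticGroup (Fin m) F) :
        Matrix (Fin m ⊕ Fin m) (Fin m ⊕ Fin m) F) *ᵥ v = u := by
      rw [← hg1, ← coe_mul_mulVec, inv_mul_cancel, Submonoid.coe_one, Matrix.one_mulVec]
    rw [coe_mul_mulVec, coe_mul_mulVec, e1]
    rw [Matrix.mulVec_smul] at hg2
    rw [← smul_smul, ← hg2, smul_smul, mul_inv_cancel₀ hu, one_smul]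
  obtain ⟨z, hz1, hz2⟩ := exists_both_ne_zero hv hw
  exact (key v z hz1).trans (key z w (by rw [sympForm_swap]; exact neg_ne_zero.2 hz2))

/-- Iwasawa: if the transvections generate, a non-central normal subgroup contains the derived
subgroup. -/
theorem commutator_le_of_not_le_center
    (hgen : transvGroup m F = ⊤)
    (N : Subgroup (Matrix.symplecticGroup (Fin m) F)) [nN : N.Normal]
    (hN : ¬ N ≤ Subgroup.center _) :
    commutator (Matrix.symplecticGroup (Fin m) F) ≤ N := by
  obtain ⟨v0, hv0⟩ : ∃ v0 : Fin m ⊕ Fin m → F, v0 ≠ 0 := by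
    obtain ⟨n, hn, u, hu⟩ := exists_rel_of_not_le_center N hN
    refine ⟨u, ?_⟩
    rintro rfl
    exact hu (sympForm_zero_left _)
  have hmul : ∀ c d : F, transv v0 c * transv v0 d = transv v0 (c + d) := fun c d =>
    Subtype.ext (sympTransvection_mul v0 c d)
  have hzero : transv v0 (0 : F) = 1 := Subtype.ext (sympTransvection_zero v0)
  let T : Subgroup (Matrix.symplecticGroup (Fin m) F) :=
    { carrier := Set.range (fun c : F => transv v0 c)
      mul_mem' := by
        rintro _ _ ⟨c, rfl⟩ ⟨d, rfl⟩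
        exact ⟨c + d, (hmul c d).symm⟩
      one_mem' := ⟨0, hzero⟩
      inv_mem' := by
        rintro _ ⟨c, rfl⟩
        refine ⟨-c, ?_⟩
        rw [eq_inv_iff_mul_eq_one, hmul, neg_add_cancel, hzero] }
  have hT : IsMulCommutative T := by
    constructor
    constructor
    rintro ⟨_, c, rfl⟩ ⟨_, d, rfl⟩
    apply Subtype.ext
    change transv v0 c * transv v0 d = transv v0 d * transv v0 c
    rw [hmul, hmul, add_comm]
  refine nN.commutator_le_of_self_sup_commutative_eq_top (H := T) ?_ hT
  rw [eq_top_iff, ← hgen]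
  unfold transvGroup
  rw [Subgroup.closure_le]
  rintro A ⟨w, c, hA⟩
  have hA' : A = transv w c := Subtype.ext hA
  subst hA'
  by_cases hw : w = 0
  · subst hw
    have : transv (0 : Fin m ⊕ Fin m → F) c = 1 := by
      apply Subtype.ext
      rw [← Matrix.mulVec_injective.eq_iff]
      funext x
      rw [coe_transv, sympTransvection_mulVec, smul_zero, add_zero, Submonoid.coe_one,
        Matrix.one_mulVec]
    rw [this]
    exact one_mem _
  · obtain ⟨n, hn, a, ha, hna⟩ := rel_of_not_le_center N hN hv0 hw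
    have key : transv w c = n * transv v0 (c * (a ^ 2)⁻¹) * n⁻¹ := by
      rw [eq_mul_inv_iff_mul_eq]
      apply Subtype.ext
      rw [Submonoid.coe_mul, Submonoid.coe_mul, coe_transv, coe_transv, mul_sympTransvection n.2,
        hna, sympTransvection_smul]
      congr 2
      field_simp
    rw [key]
    refine mul_mem (mul_mem (Subgroup.mem_sup_left hn) (Subgroup.mem_sup_right ⟨_, rfl⟩))
      (Subgroup.mem_sup_left (inv_mem hn))

/-- A perfect non-trivial group all of whose non-central normal subgroups contain the derived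
subgroup is simple modulo its centre. -/
theorem isSimpleGroup_quotient_center {G : Type*} [Group G] [Nontrivial G]
    (hperf : commutator G = ⊤)
    (h : ∀ N : Subgroup G, N.Normal → ¬ N ≤ Subgroup.center G → commutator G ≤ N) :
    IsSimpleGroup (G ⧸ Subgroup.center G) := by
  have hc : Subgroup.center G ≠ ⊤ := by
    intro hc
    have : commutator G = ⊥ := by
      rw [commutator_def, Subgroup.commutator_eq_bot_iff_le_centralizer,
        Subgroup.coe_top, Subgroup.centralizer_univ, hc]
    rw [hperf] at this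
    exact top_ne_bot this
  have : Nontrivial (G ⧸ Subgroup.center G) := QuotientGroup.nontrivial_iff.2 hc
  constructor
  intro N hN
  have hsur : Function.Surjective (QuotientGroup.mk' (Subgroup.center G)) :=
    QuotientGroup.mk'_surjective _
  by_cases hle : N.comap (QuotientGroup.mk' (Subgroup.center G)) ≤ Subgroup.center G
  · left
    rw [eq_bot_iff]
    intro x hx
    obtain ⟨g, rfl⟩ := hsur x
    have : g ∈ Subgroup.center G := hle hx
    rw [Subgroup.mem_bot]
    exact (QuotientGroup.eq_one_iff g).2 this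
  · right
    have := h _ (hN.comap _) hle
    rw [hperf, top_le_iff] at this
    rw [← Subgroup.comap_injective hsur |>.eq_iff, this, Subgroup.comap_top]

end Cfsg.Agent.LieClassical.SympSimple
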