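import Mathlib
import Cfsg.Prelude.Def_ClassicalGeometry
import Cfsg.Agent.LieClassical.OmegaCenter

set_option autoImplicit false
set_option linter.unusedSectionVars false

/-!
The order of `POmega` from the order of the isometry group, the index of `Omega` and whether `-1`
lies in `Omega`.
-/

namespace Cfsg.Agent.LieClassical.PomegaCard

open QuadraticMap Matrix Module
open Cfsg.Agent.LieClassical.OmegaCenter

variable {ι : Type} [Fintype ι] [DecidableEq ι] {F : Type*} [Field F] [Finite F]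

/-- `|O| = [O : Omega] |POmega| |Z(Omega)|`. -/
theorem card_isometryGroup_eq (Q : (ι → F) → F) :
    Nat.card (Cfsg.isometryGroup F Q) = (Cfsg.Omega F Q).index *
      (Nat.card (Cfsg.POmega F Q) * Nat.card (Subgroup.center (Cfsg.Omega F Q))) := by
  rw [← card_omega_eq, Subgroup.index_mul_card]

/-- Characteristic two. -/
theorem card_pomega_two (h2 : (2 : F) = 0) (Q : QuadraticForm F (ι → F))
    (hQ : (polarBilin Q).Nondegenerate) (hn : 3 ≤ Fintype.card ι)
    (hs : ∃ u : ι → F, u ≠ 0 ∧ Q u = 0) (hi : (Cfsg.Omega F (⇑Q)).index = 2) {N : ℕ}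
    (hN : Nat.card (Cfsg.isometryGroup F (⇑Q)) = 2 * N) :
    Nat.card (Cfsg.POmega F (⇑Q)) = N := by
  have h := card_isometryGroup_eq (⇑Q)
  rw [hN, hi, card_center_omega_two h2 Q hQ hn hs, mul_one] at h
  omega

/-- Odd characteristic, `-1 ∈ Omega`. -/
theorem card_pomega_of_mem (h2 : (2 : F) ≠ 0) (Q : QuadraticForm F (ι → F))
    (hQ : (polarBilin Q).Nondegenerate) (hn : 3 ≤ Fintype.card ι)
    (hs : ∃ u : ι → F, u ≠ 0 ∧ Q u = 0) (hi : (Cfsg.Omega F (⇑Q)).index = 4)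
    (h1 : ∃ g : Cfsg.isometryGroup F (⇑Q), g ∈ Cfsg.Omega F (⇑Q) ∧
      ((g : Matrix.GeneralLinearGroup ι F) : Matrix ι ι F) = -1) {N : ℕ}
    (hN : Nat.card (Cfsg.isometryGroup F (⇑Q)) = 2 * N) :
    4 * Nat.card (Cfsg.POmega F (⇑Q)) = N := by
  have h := card_isometryGroup_eq (⇑Q)
  rw [hN, hi, card_center_omega_of_mem h2 Q hQ hn hs h1] at h
  omega

/-- Index four, `-1 ∉ Omega`. -/
theorem card_pomega_of_not_mem (Q : QuadraticForm F (ι → F))
    (hQ : (polarBilin Q).Nondegenerate) (hn : 3 ≤ Fintype.card ι)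
    (hs : ∃ u : ι → F, u ≠ 0 ∧ Q u = 0) (hi : (Cfsg.Omega F (⇑Q)).index = 4)
    (h1 : ¬ ∃ g : Cfsg.isometryGroup F (⇑Q), g ∈ Cfsg.Omega F (⇑Q) ∧
      ((g : Matrix.GeneralLinearGroup ι F) : Matrix ι ι F) = -1) {N : ℕ}
    (hN : Nat.card (Cfsg.isometryGroup F (⇑Q)) = 2 * N) :
    2 * Nat.card (Cfsg.POmega F (⇑Q)) = N := by
  have h := card_isometryGroup_eq (⇑Q)
  rw [hN, hi, card_center_omega_of_not_mem Q hQ hn hs h1, mul_one] at h
  omega

/-- In odd dimension and characteristic not two, `-1` is not in `Omega` (its determinant is `-1`). -/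
theorem neg_one_not_mem_omega_of_odd (h2 : (2 : F) ≠ 0) (Q : (ι → F) → F)
    (hn : Odd (Fintype.card ι)) :
    ¬ ∃ g : Cfsg.isometryGroup F Q, g ∈ Cfsg.Omega F Q ∧
      ((g : Matrix.GeneralLinearGroup ι F) : Matrix ι ι F) = -1 := by
  rintro ⟨g, hg, hgm⟩
  have h1 : Matrix.GeneralLinearGroup.det (g : Matrix.GeneralLinearGroup ι F) = 1 := by
    have h3 : Cfsg.Omega F Q ≤
        (Matrix.GeneralLinearGroup.det.comp (Cfsg.isometryGroup F Q).subtype).ker :=
      Abelianization.commutator_subset_ker _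
    exact h3 hg
  have h3 : ((g : Matrix.GeneralLinearGroup ι F) : Matrix ι ι F).det = 1 :=
    congrArg Units.val h1
  rw [hgm, Matrix.det_neg, Matrix.det_one, mul_one, hn.neg_one_pow] at h3
  apply h2
  linear_combination -h3

theorem odd_card_iff {F : Type*} [Field F] [Fintype F] : Odd (Fintype.card F) ↔ (2 : F) ≠ 0 := by
  rw [← Nat.not_even_iff_odd, Nat.even_iff, ← FiniteField.even_card_iff_char_two, not_iff_not]
  constructor
  · intro h
    have := ringChar.of_eq h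
    exact CharTwo.two_eq_zero
  · intro h
    exact ringChar.eq_iff.2 (CharTwo.of_one_ne_zero_of_two_eq_zero one_ne_zero h)

theorem gcd_four_of_dvd {x : ℕ} (h : x % 4 = 0) : Nat.gcd 4 x = 4 :=
  Nat.gcd_eq_left (Nat.dvd_of_mod_eq_zero h)

theorem gcd_four_of_two {x : ℕ} (h : x % 4 = 2) : Nat.gcd 4 x = 2 := by
  rw [Nat.gcd_rec, h]
  decide

theorem gcd_four_of_odd {x : ℕ} (h : x % 2 = 1) : Nat.gcd 4 x = 1 := by
  have h4 : x % 4 = 1 ∨ x % 4 = 3 := by omega
  rw [Nat.gcd_rec]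
  rcases h4 with h4 | h4 <;> rw [h4] <;> decide

end Cfsg.Agent.LieClassical.PomegaCard
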