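import Mathlib
import Cfsg.Prelude.Def_Classical

/-!
# Order recursion for isometry groups of quadratic forms

For a quadratic form `Q` on `W` we consider the form `hypSum Q : (w, a, b) ↦ Q w + a * b` on
`W × F × F`. Over any field the isometry group of a quadratic form is transitive on hyperbolic
pairs, and the stabiliser of the standard hyperbolic pair of `hypSum Q` is the isometry group of
`Q`. Over a finite field this gives
`|O(hypSum Q)| = (#{v | hypSum Q v = 0} - 1) * q ^ dim W * |O(Q)|`
as soon as every non-zero singular vector of `hypSum Q` is outside the radical of the polar form.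
-/

set_option autoImplicit false

namespace Cfsg.Agent.LieClassical.OrthCount

open QuadraticMap

section General

variable {F V : Type*} [Field F] [AddCommGroup V] [Module F V]

/-- The isometry group of a quadratic form, as a subgroup of the linear automorphism group. -/
def OG (Q : QuadraticForm F V) : Subgroup (V ≃ₗ[F] V) where
  carrier := {g | ∀ v, Q (g v) = Q v}
  mul_mem' {a b} ha hb v := by
    rw [LinearEquiv.mul_apply, ha, hb]
  one_mem' v := rfl
  inv_mem' {a} ha v := by
    have h := ha (a⁻¹ v)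
    rw [← LinearEquiv.mul_apply, mul_inv_cancel] at h
    exact h.symm

theorem mem_OG {Q : QuadraticForm F V} {g : V ≃ₗ[F] V} : g ∈ OG Q ↔ ∀ v, Q (g v) = Q v :=
  Iff.rfl

theorem polar_of_mem_OG {Q : QuadraticForm F V} {g : V ≃ₗ[F] V} (hg : g ∈ OG Q) (u v : V) :
    polar Q (g u) (g v) = polar Q u v := by
  simp only [polar, ← map_add, mem_OG.1 hg]

/-- Transport of the isometry group along a linear equivalence. -/
def OGcongr {V' : Type*} [AddCommGroup V'] [Module F V'] {Q : QuadraticForm F V}
    {Q' : QuadraticForm F V'} (e : V ≃ₗ[F] V') (he : ∀ v, Q' (e v) = Q v) : OG Q ≃* OG Q' where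
  toFun g := ⟨(e.symm.trans g.1).trans e, fun v => by
    have := g.2 (e.symm v)
    simp only [LinearEquiv.trans_apply]
    rw [he, this, ← he, LinearEquiv.apply_symm_apply]⟩
  invFun g := ⟨(e.trans g.1).trans e.symm, fun v => by
    have := g.2 (e v)
    simp only [LinearEquiv.trans_apply]
    rw [← he, LinearEquiv.apply_symm_apply, this, he]⟩
  left_inv g := by
    apply Subtype.ext
    ext v
    simp
  right_inv g := by
    apply Subtype.ext
    ext v
    simp
  map_mul' g h := by
    apply Subtype.ext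
    ext v
    simp [LinearEquiv.mul_apply]

/-! ### Reflections and Siegel maps -/

theorem polar_self_eq (Q : QuadraticForm F V) (x : V) : polar Q x x = 2 * Q x := by
  rw [QuadraticMap.polar_self]; simp

theorem map_add_eq (Q : QuadraticForm F V) (x y : V) : Q (x + y) = Q x + Q y + polar Q x y :=
  QuadraticMap.map_add Q x y

/-- The linear functional `(Q a)⁻¹ • polar Q a`. -/
def reflFun (Q : QuadraticForm F V) (a : V) : V →ₗ[F] F := (Q a)⁻¹ • (polarBilin Q a)

theorem reflFun_apply (Q : QuadraticForm F V) (a x : V) :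
    reflFun Q a x = (Q a)⁻¹ * polar Q a x := rfl

/-- The reflection in a non-singular vector. -/
noncomputable def refl (Q : QuadraticForm F V) (a : V) (ha : Q a ≠ 0) : V ≃ₗ[F] V :=
  Module.reflection (x := a) (f := reflFun Q a) (by
    rw [reflFun_apply, polar_self_eq]; field_simp)

theorem refl_apply (Q : QuadraticForm F V) (a : V) (ha : Q a ≠ 0) (x : V) :
    refl Q a ha x = x - ((Q a)⁻¹ * polar Q a x) • a := rfl

theorem refl_mem (Q : QuadraticForm F V) (a : V) (ha : Q a ≠ 0) : refl Q a ha ∈ OG Q := by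
  intro x
  rw [refl_apply, sub_eq_add_neg, ← neg_smul, map_add_eq, QuadraticMap.map_smul,
    QuadraticMap.polar_smul_right, polar_comm Q x a]
  simp only [smul_eq_mul]
  field_simp
  ring

/-- The reflection in `u - v` sends `u` to `v` when `Q u = Q v`. -/
theorem refl_sub_apply (Q : QuadraticForm F V) (u v : V) (huv : Q u = Q v) (h : Q (u - v) ≠ 0) :
    refl Q (u - v) h u = v := by
  have h1 : polar Q (u - v) u = Q (u - v) := by
    rw [QuadraticMap.polar_sub_left, polar_self_eq, polar_comm Q v u, sub_eq_add_neg u v,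
      map_add_eq, QuadraticMap.map_neg, QuadraticMap.polar_neg_right, ← huv]
    ring
  rw [refl_apply, h1, inv_mul_cancel₀ h, one_smul]
  abel

theorem map_sub_eq_neg_polar (Q : QuadraticForm F V) (u v : V) (hu : Q u = 0) (hv : Q v = 0) :
    Q (u - v) = - polar Q u v := by
  rw [sub_eq_add_neg u v, map_add_eq, QuadraticMap.map_neg, QuadraticMap.polar_neg_right, hu, hv]
  ring

/-- The Siegel (Eichler) map as a linear map. -/
def siegelLin (Q : QuadraticForm F V) (u w : V) : V →ₗ[F] V :=
  LinearMap.id + (polarBilin Q u).smulRight w - (polarBilin Q w).smulRight u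
    - (Q w • polarBilin Q u).smulRight u

theorem siegelLin_apply (Q : QuadraticForm F V) (u w x : V) :
    siegelLin Q u w x = x + polar Q u x • w - polar Q w x • u - (Q w * polar Q u x) • u := rfl

theorem siegelLin_neg_siegelLin (Q : QuadraticForm F V) (u w : V) (hu : Q u = 0)
    (huw : polar Q u w = 0) (x : V) : siegelLin Q u (-w) (siegelLin Q u w x) = x := by
  have huu : polar Q u u = 0 := by rw [polar_self_eq, hu, mul_zero]
  have hww : polar Q w w = 2 * Q w := polar_self_eq Q w
  have hwu : polar Q w u = 0 := by rw [polar_comm, huw]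
  rw [siegelLin_apply Q u (-w)]
  simp only [siegelLin_apply Q u w, QuadraticMap.polar_add_right, QuadraticMap.polar_sub_right,
    QuadraticMap.polar_smul_right, QuadraticMap.polar_neg_left, QuadraticMap.map_neg, huu, huw,
    hwu, hww, smul_eq_mul]
  module

/-- The Siegel (Eichler) map as a linear automorphism. -/
def siegel (Q : QuadraticForm F V) (u w : V) (hu : Q u = 0) (huw : polar Q u w = 0) :
    V ≃ₗ[F] V :=
  { siegelLin Q u w with
    invFun := siegelLin Q u (-w)
    left_inv := siegelLin_neg_siegelLin Q u w hu huw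
    right_inv := fun x => by
      have h := siegelLin_neg_siegelLin Q u (-w) hu (by
        rw [QuadraticMap.polar_neg_right, huw, neg_zero]) x
      rw [neg_neg] at h
      exact h }

theorem siegel_apply (Q : QuadraticForm F V) (u w : V) (hu : Q u = 0) (huw : polar Q u w = 0)
    (x : V) : siegel Q u w hu huw x
      = x + polar Q u x • w - polar Q w x • u - (Q w * polar Q u x) • u := rfl

theorem siegel_mem (Q : QuadraticForm F V) (u w : V) (hu : Q u = 0) (huw : polar Q u w = 0) :
    siegel Q u w hu huw ∈ OG Q := by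
  intro x
  have huu : polar Q u u = 0 := by rw [polar_self_eq, hu, mul_zero]
  have hwu : polar Q w u = 0 := by rw [polar_comm, huw]
  rw [siegel_apply]
  simp only [sub_eq_add_neg, ← neg_smul, map_add_eq, QuadraticMap.map_smul,
    QuadraticMap.polar_add_left, QuadraticMap.polar_smul_left,
    QuadraticMap.polar_smul_right, hu, huu, hwu, smul_eq_mul, polar_comm Q x u,
    polar_comm Q x w]
  ring

/-! ### Transitivity on hyperbolic pairs -/

/-- A hyperbolic pair of `Q`. -/
def IsHyp (Q : QuadraticForm F V) (e f : V) : Prop := Q e = 0 ∧ Q f = 0 ∧ polar Q e f = 1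

/-- Vectors which are first members of hyperbolic pairs form one orbit. -/
theorem exists_map_singular (Q : QuadraticForm F V) {e f u v : V} (h : IsHyp Q e f)
    (h' : IsHyp Q u v) : ∃ g ∈ OG Q, g e = u := by
  obtain ⟨he, hf, hef⟩ := h
  obtain ⟨hu, hv, huv⟩ := h'
  -- one step
  have step : ∀ {x y : V}, Q x = 0 → Q y = 0 → polar Q x y ≠ 0 → ∃ g ∈ OG Q, g x = y := by
    intro x y hx hy hxy
    have hne : Q (x - y) ≠ 0 := by
      rw [map_sub_eq_neg_polar Q x y hx hy]; exact neg_ne_zero.2 hxy
    exact ⟨refl Q (x - y) hne, refl_mem Q _ _, refl_sub_apply Q x y (hx.trans hy.symm) hne⟩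
  have two : ∀ {x y z : V}, Q x = 0 → Q y = 0 → Q z = 0 → polar Q x z ≠ 0 → polar Q z y ≠ 0 →
      ∃ g ∈ OG Q, g x = y := by
    intro x y z hx hy hz hxz hzy
    obtain ⟨g₁, hg₁, h₁⟩ := step hx hz hxz
    obtain ⟨g₂, hg₂, h₂⟩ := step hz hy hzy
    exact ⟨g₂ * g₁, mul_mem hg₂ hg₁, by rw [LinearEquiv.mul_apply, h₁, h₂]⟩
  by_cases heu : polar Q e u = 0
  · by_cases hfu : polar Q f u = 0
    · by_cases hev : polar Q e v = 0
      · -- use `f + v - polar f v • e`
        have hee : polar Q e e = 0 := by rw [polar_self_eq, he, mul_zero]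
        have hvu : polar Q v u = 1 := by rw [polar_comm, huv]
        have hve : polar Q v e = 0 := by rw [polar_comm, hev]
        have hfe : polar Q f e = 1 := by rw [polar_comm, hef]
        refine two (z := f + v + (-polar Q f v) • e) he hu ?_ ?_ ?_
        · rw [map_add_eq, map_add_eq, QuadraticMap.map_smul, he, hf, hv,
            QuadraticMap.polar_smul_right, QuadraticMap.polar_add_left, hfe, hve]
          simp
        · rw [QuadraticMap.polar_add_right, QuadraticMap.polar_add_right,
            QuadraticMap.polar_smul_right, hef, hev, hee]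
          simp
        · rw [QuadraticMap.polar_add_left, QuadraticMap.polar_add_left,
            QuadraticMap.polar_smul_left, hfu, hvu, heu]
          simp
      · exact two he hu hv hev (by rw [polar_comm, huv]; exact one_ne_zero)
    · exact two he hu hf (by rw [hef]; exact one_ne_zero) hfu
  · exact step he hu heu

/-- The stabiliser of `e` is transitive on the partners of `e`. -/
theorem exists_map_partner (Q : QuadraticForm F V) {e f v : V} (h : IsHyp Q e f)
    (h' : IsHyp Q e v) : ∃ g ∈ OG Q, g e = e ∧ g f = v := by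
  obtain ⟨he, hf, hef⟩ := h
  obtain ⟨-, hv, hev⟩ := h'
  have hee : polar Q e e = 0 := by rw [polar_self_eq, he, mul_zero]
  have hff : polar Q f f = 0 := by rw [polar_self_eq, hf, mul_zero]
  have hvf : polar Q v f = polar Q f v := polar_comm _ _ _
  -- `x = v - f - polar v f • e`
  set c := polar Q f v with hc
  have hfe : polar Q f e = 1 := by rw [polar_comm, hef]
  have hve : polar Q v e = 1 := by rw [polar_comm, hev]
  have hex : polar Q e (v - f - c • e) = 0 := by
    rw [QuadraticMap.polar_sub_right, QuadraticMap.polar_sub_right,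
      QuadraticMap.polar_smul_right, hev, hef, hee]
    simp
  have hxf : polar Q (v - f - c • e) f = 0 := by
    rw [QuadraticMap.polar_sub_left, QuadraticMap.polar_sub_left,
      QuadraticMap.polar_smul_left, hvf, hff, hef]
    simp
  have hxe : polar Q (v - f - c • e) e = 0 := by rw [polar_comm, hex]
  have hQx : Q (v - f - c • e) = - c := by
    rw [sub_eq_add_neg, sub_eq_add_neg, ← neg_smul, map_add_eq, map_add_eq, QuadraticMap.map_smul,
      QuadraticMap.map_neg, hv, hf, he, QuadraticMap.polar_neg_right, hvf,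
      QuadraticMap.polar_smul_right, QuadraticMap.polar_add_left, QuadraticMap.polar_neg_left,
      hve, hfe]
    simp
  refine ⟨siegel Q e (v - f - c • e) he hex, siegel_mem Q _ _ _ _, ?_, ?_⟩
  · rw [siegel_apply, hee, hxe]
    simp
  · rw [siegel_apply, hef, hxf, hQx]
    module

/-- Witt's theorem for hyperbolic pairs. -/
theorem exists_isometry_hyperbolic (Q : QuadraticForm F V) {e f u v : V} (h : IsHyp Q e f)
    (h' : IsHyp Q u v) : ∃ g ∈ OG Q, g e = u ∧ g f = v := by
  obtain ⟨g, hg, hgu⟩ := exists_map_singular Q h h'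
  have h2 : IsHyp Q u (g f) := by
    refine ⟨h'.1, ?_, ?_⟩
    · rw [mem_OG.1 hg]; exact h.2.1
    · rw [← hgu, polar_of_mem_OG hg]; exact h.2.2
  obtain ⟨k, hk, hku, hkv⟩ := exists_map_partner Q h2 h'
  exact ⟨k * g, mul_mem hk hg, by rw [LinearEquiv.mul_apply, hgu, hku],
    by rw [LinearEquiv.mul_apply, hkv]⟩

/-- A singular vector outside the radical is the first member of a hyperbolic pair. -/
theorem exists_partner (Q : QuadraticForm F V) {u v : V} (hu : Q u = 0) (huv : polar Q u v ≠ 0) :
    ∃ w, IsHyp Q u w := by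
  have huu : polar Q u u = 0 := by rw [polar_self_eq, hu, mul_zero]
  set c := (polar Q u v)⁻¹ with hc
  have h1 : polar Q u (c • v) = 1 := by
    rw [QuadraticMap.polar_smul_right, smul_eq_mul, hc, inv_mul_cancel₀ huv]
  refine ⟨c • v + (-Q (c • v)) • u, hu, ?_, ?_⟩
  · rw [map_add_eq, QuadraticMap.map_smul Q (-Q (c • v)), hu, QuadraticMap.polar_smul_right,
      polar_comm, h1]
    simp
  · rw [QuadraticMap.polar_add_right, h1, QuadraticMap.polar_smul_right, huu]
    simp

end General

/-! ### Adding a hyperbolic plane -/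

section Hyp

variable {F W : Type*} [Field F] [AddCommGroup W] [Module F W]

/-- The form `(w, a, b) ↦ Q w + a * b` on `W × F × F`. -/
def hypSum (Q : QuadraticForm F W) : QuadraticForm F (W × F × F) :=
  Q.comp (LinearMap.fst F W (F × F)) +
    QuadraticMap.linMulLin ((LinearMap.fst F F F).comp (LinearMap.snd F W (F × F)))
      ((LinearMap.snd F F F).comp (LinearMap.snd F W (F × F)))

theorem hypSum_apply (Q : QuadraticForm F W) (x : W × F × F) :
    hypSum Q x = Q x.1 + x.2.1 * x.2.2 := rfl

theorem polar_hypSum (Q : QuadraticForm F W) (x y : W × F × F) :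
    polar (hypSum Q) x y = polar Q x.1 y.1 + (x.2.1 * y.2.2 + y.2.1 * x.2.2) := by
  simp only [polar, hypSum_apply, Prod.fst_add, Prod.snd_add]
  ring

/-- The first vector of the standard hyperbolic pair. -/
def ee (F W : Type*) [Field F] [AddCommGroup W] : W × F × F := (0, 1, 0)

/-- The second vector of the standard hyperbolic pair. -/
def ff (F W : Type*) [Field F] [AddCommGroup W] : W × F × F := (0, 0, 1)

theorem isHyp_ee_ff (Q : QuadraticForm F W) : IsHyp (hypSum Q) (ee F W) (ff F W) := by
  refine ⟨?_, ?_, ?_⟩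
  · simp [hypSum_apply, ee]
  · simp [hypSum_apply, ff]
  · rw [polar_hypSum]; simp [ee, ff]

/-- Extend an isometry of `Q` by the identity on the hyperbolic plane. -/
def extend (g : W ≃ₗ[F] W) : (W × F × F) ≃ₗ[F] (W × F × F) :=
  LinearEquiv.prodCongr g (LinearEquiv.refl F (F × F))

theorem extend_apply (g : W ≃ₗ[F] W) (x : W × F × F) : extend g x = (g x.1, x.2) := rfl

theorem extend_mem {Q : QuadraticForm F W} {g : W ≃ₗ[F] W} (hg : g ∈ OG Q) :
    extend g ∈ OG (hypSum Q) := by
  intro x
  rw [extend_apply, hypSum_apply, hypSum_apply, mem_OG.1 hg]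

/-- An isometry of `hypSum Q` fixing the standard hyperbolic pair is `(w, a, b) ↦ (h w, a, b)`. -/
theorem apply_of_fix {Q : QuadraticForm F W} {g : (W × F × F) ≃ₗ[F] (W × F × F)}
    (hg : g ∈ OG (hypSum Q)) (he : g (ee F W) = ee F W) (hf : g (ff F W) = ff F W)
    (x : W × F × F) : g x = ((g (x.1, 0)).1, x.2) := by
  have h1 : (g (x.1, 0)).2.2 = 0 := by
    have h := polar_of_mem_OG hg (ee F W) (x.1, 0)
    rw [he, polar_hypSum, polar_hypSum] at h
    simpa [ee] using h
  have h2 : (g (x.1, 0)).2.1 = 0 := by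
    have h := polar_of_mem_OG hg (ff F W) (x.1, 0)
    rw [hf, polar_hypSum, polar_hypSum] at h
    simpa [ff] using h
  have h3 : x = (x.1, 0) + x.2.1 • ee F W + x.2.2 • ff F W := by
    ext <;> simp [ee, ff]
  have h4 : g x = g (x.1, 0) + x.2.1 • ee F W + x.2.2 • ff F W := by
    conv_lhs => rw [h3]
    rw [map_add, map_add, map_smul, map_smul, he, hf]
  rw [h4]
  ext
  · simp [ee, ff]
  · simp [ee, ff, h2]
  · simp [ee, ff, h1]

/-- Restriction to `W` of an isometry of `hypSum Q` fixing the standard hyperbolic pair. -/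
def restrict {Q : QuadraticForm F W} {g : (W × F × F) ≃ₗ[F] (W × F × F)}
    (hg : g ∈ OG (hypSum Q)) (he : g (ee F W) = ee F W) (hf : g (ff F W) = ff F W) :
    W ≃ₗ[F] W where
  toFun w := (g (w, 0)).1
  map_add' w w' := by
    rw [← Prod.fst_add, ← map_add]
    simp
  map_smul' c w := by
    rw [RingHom.id_apply, ← Prod.smul_fst, ← map_smul]
    simp
  invFun w := (g.symm (w, 0)).1
  left_inv w := by
    have h := apply_of_fix hg he hf (w, 0)
    have h' : ((g (w, 0)).1, (0 : F × F)) = g (w, 0) := h.symm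
    change (g.symm ((g (w, 0)).1, 0)).1 = w
    rw [h', LinearEquiv.symm_apply_apply]
  right_inv w := by
    have hg' : g⁻¹ ∈ OG (hypSum Q) := inv_mem hg
    have he' : g⁻¹ (ee F W) = ee F W := by
      conv_lhs => rw [← he]
      exact g.symm_apply_apply _
    have hf' : g⁻¹ (ff F W) = ff F W := by
      conv_lhs => rw [← hf]
      exact g.symm_apply_apply _
    have h := apply_of_fix hg' he' hf' (w, 0)
    have h' : ((g.symm (w, 0)).1, (0 : F × F)) = g.symm (w, 0) := h.symm
    change (g ((g.symm (w, 0)).1, 0)).1 = w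
    rw [h', LinearEquiv.apply_symm_apply]

theorem restrict_apply {Q : QuadraticForm F W} {g : (W × F × F) ≃ₗ[F] (W × F × F)}
    (hg : g ∈ OG (hypSum Q)) (he : g (ee F W) = ee F W) (hf : g (ff F W) = ff F W) (w : W) :
    restrict hg he hf w = (g (w, 0)).1 := rfl

theorem restrict_mem {Q : QuadraticForm F W} {g : (W × F × F) ≃ₗ[F] (W × F × F)}
    (hg : g ∈ OG (hypSum Q)) (he : g (ee F W) = ee F W) (hf : g (ff F W) = ff F W) :
    restrict hg he hf ∈ OG Q := by
  intro w
  have h := mem_OG.1 hg (w, 0)
  rw [apply_of_fix hg he hf, hypSum_apply, hypSum_apply] at h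
  rw [restrict_apply]
  simpa using h

/-- The stabiliser of the standard hyperbolic pair is the isometry group of `Q`. -/
def stabEquiv (Q : QuadraticForm F W) :
    {g : OG (hypSum Q) // g.1 (ee F W) = ee F W ∧ g.1 (ff F W) = ff F W} ≃ OG Q where
  toFun g := ⟨restrict g.1.2 g.2.1 g.2.2, restrict_mem g.1.2 g.2.1 g.2.2⟩
  invFun h := ⟨⟨extend h.1, extend_mem h.2⟩, by
    refine ⟨?_, ?_⟩
    · simp [extend_apply, ee]
    · simp [extend_apply, ff]⟩
  left_inv g := by
    apply Subtype.ext
    apply Subtype.ext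
    ext1 x
    change extend (restrict g.1.2 g.2.1 g.2.2) x = g.1.1 x
    rw [extend_apply, restrict_apply, apply_of_fix g.1.2 g.2.1 g.2.2 x]
  right_inv h := by
    apply Subtype.ext
    ext1 w
    rfl

end Hyp

/-! ### Counting -/

section Count

variable {F W : Type*} [Field F] [AddCommGroup W] [Module F W]

/-- The partners of the standard singular vector are parametrised by `W`. -/
def partnerEquiv (Q : QuadraticForm F W) : {v // IsHyp (hypSum Q) (ee F W) v} ≃ W where
  toFun v := v.1.1
  invFun w := ⟨(w, -Q w, 1), by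
    refine ⟨(isHyp_ee_ff Q).1, ?_, ?_⟩
    · simp [hypSum_apply]
    · rw [polar_hypSum]; simp [ee]⟩
  left_inv v := by
    obtain ⟨⟨w, a, b⟩, -, h1, h2⟩ := v
    rw [polar_hypSum] at h2
    rw [hypSum_apply] at h1
    have hb : b = 1 := by simpa [ee] using h2
    subst hb
    have ha : a = -Q w := by
      have h3 : Q w + a = 0 := by simpa using h1
      linear_combination h3
    subst ha
    rfl
  right_inv w := rfl

theorem isHyp_map {V : Type*} [AddCommGroup V] [Module F V] {Q : QuadraticForm F V}
    {g : V ≃ₗ[F] V} (hg : g ∈ OG Q) {u v : V} (h : IsHyp Q u v) : IsHyp Q (g u) (g v) :=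
  ⟨by rw [mem_OG.1 hg]; exact h.1, by rw [mem_OG.1 hg]; exact h.2.1,
    by rw [polar_of_mem_OG hg]; exact h.2.2⟩

/-- Partners of `u` correspond to partners of `g u`. -/
def partnerMap {V : Type*} [AddCommGroup V] [Module F V] {Q : QuadraticForm F V}
    {g : V ≃ₗ[F] V} (hg : g ∈ OG Q) (u : V) : {v // IsHyp Q u v} ≃ {v // IsHyp Q (g u) v} where
  toFun v := ⟨g v.1, isHyp_map hg v.2⟩
  invFun v := ⟨g⁻¹ v.1, by
    have h := isHyp_map (inv_mem hg) v.2
    rwa [← LinearEquiv.mul_apply, inv_mul_cancel] at h⟩
  left_inv v := by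
    apply Subtype.ext
    exact g.symm_apply_apply _
  right_inv v := by
    apply Subtype.ext
    exact g.apply_symm_apply _

/-- Number of hyperbolic pairs of `hypSum Q`. -/
theorem card_hyperbolic_pairs [Finite W] [Finite F] (Q : QuadraticForm F W)
    (hns : ∀ u : W × F × F, hypSum Q u = 0 → u ≠ 0 → ∃ v, polar (hypSum Q) u v ≠ 0) :
    Nat.card {p : (W × F × F) × (W × F × F) // IsHyp (hypSum Q) p.1 p.2}
      = (Nat.card {v : W × F × F // hypSum Q v = 0} - 1) * Nat.card W := by
  have hequiv : ∀ u : {u : W × F × F // hypSum Q u = 0 ∧ u ≠ 0},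
      Nonempty ({v // IsHyp (hypSum Q) u.1 v} ≃ W) := by
    rintro ⟨u, hu, hu0⟩
    obtain ⟨v, hv⟩ := hns u hu hu0
    obtain ⟨w, hw⟩ := exists_partner (hypSum Q) hu hv
    obtain ⟨g, hg, hgu⟩ := exists_map_singular (hypSum Q) (isHyp_ee_ff Q) hw
    subst hgu
    exact ⟨(partnerMap hg _).symm.trans (partnerEquiv Q)⟩
  have φ := fun u => Classical.choice (hequiv u)
  have e1 : {p : (W × F × F) × (W × F × F) // IsHyp (hypSum Q) p.1 p.2} ≃
      (Σ u : {u : W × F × F // hypSum Q u = 0 ∧ u ≠ 0}, {v // IsHyp (hypSum Q) u.1 v}) :=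
    { toFun := fun p => ⟨⟨p.1.1, p.2.1, by
          intro h0
          have h := p.2.2.2
          rw [h0, QuadraticMap.polar_zero_left] at h
          exact zero_ne_one h⟩, ⟨p.1.2, p.2⟩⟩
      invFun := fun p => ⟨(p.1.1, p.2.1), p.2.2⟩
      left_inv := fun p => rfl
      right_inv := fun p => rfl }
  have e2 := (e1.trans (Equiv.sigmaCongrRight φ)).trans (Equiv.sigmaEquivProd _ _)
  rw [Nat.card_congr e2, Nat.card_prod]
  congr 1
  have h0 : Nat.card {v : W × F × F // hypSum Q v = 0}
      = Nat.card {u : W × F × F // hypSum Q u = 0 ∧ u ≠ 0} + 1 := by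
    have h1 := Set.ncard_sdiff_singleton_add_one (s := {v : W × F × F | hypSum Q v = 0}) (a := 0)
      (QuadraticMap.map_zero _)
    exact h1.symm
  rw [h0, Nat.add_sub_cancel]

/-- The orbit-stabiliser formula for hyperbolic pairs. -/
theorem card_OG_eq_mul {V : Type*} [AddCommGroup V] [Module F V] (Q : QuadraticForm F V)
    {e f : V} (h : IsHyp Q e f) :
    Nat.card (OG Q) = Nat.card {p : V × V // IsHyp Q p.1 p.2}
      * Nat.card {g : OG Q // g.1 e = e ∧ g.1 f = f} := by
  have h1 := Subgroup.index_mul_card (MulAction.stabilizer (OG Q) ((e, f) : V × V))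
  rw [← h1, MulAction.index_stabilizer]
  congr 1
  · have h2 : MulAction.orbit (OG Q) ((e, f) : V × V) = {p | IsHyp Q p.1 p.2} := by
      ext p
      constructor
      · rintro ⟨g, rfl⟩
        exact isHyp_map g.2 h
      · intro hp
        obtain ⟨g, hg, hge, hgf⟩ := exists_isometry_hyperbolic Q h hp
        exact ⟨⟨g, hg⟩, Prod.ext hge hgf⟩
    rw [h2]
    rfl
  · refine Nat.card_congr (Equiv.subtypeEquivRight fun g => ?_)
    rw [MulAction.mem_stabilizer_iff]
    constructor
    · intro hg
      exact ⟨congrArg Prod.fst hg, congrArg Prod.snd hg⟩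
    · rintro ⟨h1, h2⟩
      exact Prod.ext h1 h2

/-- The order recursion. -/
theorem card_OG_hypSum [Finite W] [Finite F] (Q : QuadraticForm F W)
    (hns : ∀ u : W × F × F, hypSum Q u = 0 → u ≠ 0 → ∃ v, polar (hypSum Q) u v ≠ 0) :
    Nat.card (OG (hypSum Q))
      = (Nat.card {v : W × F × F // hypSum Q v = 0} - 1) * Nat.card W * Nat.card (OG Q) := by
  rw [card_OG_eq_mul (hypSum Q) (isHyp_ee_ff Q), card_hyperbolic_pairs Q hns,
    Nat.card_congr (stabEquiv Q)]

end Count

/-! ### Transfer to `Cfsg.isometryGroup` -/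

section Matrix

variable {F : Type*} [Field F] {ι : Type} [Fintype ι] [DecidableEq ι]

theorem mem_isometryGroup_iff (Q : (ι → F) → F) (g : Matrix.GeneralLinearGroup ι F) :
    g ∈ Cfsg.isometryGroup F Q ↔ ∀ x, Q (Matrix.mulVec (g : Matrix ι ι F) x) = Q x :=
  ⟨fun h x => h x x, fun h x _ => h x⟩

/-- Invertible matrices as linear automorphisms. -/
noncomputable def glEquiv (ι : Type) [Fintype ι] [DecidableEq ι] (F : Type*) [Field F] :
    Matrix.GeneralLinearGroup ι F ≃* ((ι → F) ≃ₗ[F] (ι → F)) :=
  Matrix.GeneralLinearGroup.toLin.trans (LinearMap.GeneralLinearGroup.generalLinearEquiv F (ι → F))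

theorem glEquiv_apply (g : Matrix.GeneralLinearGroup ι F) (x : ι → F) :
    glEquiv ι F g x = Matrix.mulVec (g : Matrix ι ι F) x := rfl

/-- The matrix isometry group is the isometry group of the quadratic form. -/
noncomputable def isometryGroupEquiv (Q : QuadraticForm F (ι → F)) :
    Cfsg.isometryGroup F (⇑Q) ≃* OG Q where
  toFun g := ⟨glEquiv ι F g.1, fun v => by
    rw [glEquiv_apply]; exact (mem_isometryGroup_iff _ _).1 g.2 v⟩
  invFun h := ⟨(glEquiv ι F).symm h.1, (mem_isometryGroup_iff _ _).2 fun v => by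
    rw [← glEquiv_apply, MulEquiv.apply_symm_apply]; exact h.2 v⟩
  left_inv g := by
    apply Subtype.ext
    exact (glEquiv ι F).symm_apply_apply _
  right_inv g := by
    apply Subtype.ext
    exact (glEquiv ι F).apply_symm_apply _
  map_mul' g h := by
    apply Subtype.ext
    exact map_mul (glEquiv ι F) _ _

/-- Order recursion for `Cfsg.isometryGroup`. -/
theorem card_isometryGroup_step [Finite F] {κ : Type} [Fintype κ] [DecidableEq κ]
    (Q : QuadraticForm F (ι → F)) (Q' : QuadraticForm F (κ → F))
    (e : ((ι → F) × F × F) ≃ₗ[F] (κ → F)) (he : ∀ w a b, Q' (e (w, a, b)) = Q w + a * b)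
    (hns : ∀ u, Q' u = 0 → u ≠ 0 → ∃ v, polar Q' u v ≠ 0) :
    Nat.card (Cfsg.isometryGroup F (⇑Q')) = (Nat.card {v // Q' v = 0} - 1)
      * Nat.card F ^ Fintype.card ι * Nat.card (Cfsg.isometryGroup F (⇑Q)) := by
  have he' : ∀ x, Q' (e x) = hypSum Q x := fun x => he x.1 x.2.1 x.2.2
  rw [Nat.card_congr (isometryGroupEquiv Q').toEquiv, Nat.card_congr (isometryGroupEquiv Q).toEquiv,
    ← Nat.card_congr (OGcongr e he').toEquiv, card_OG_hypSum Q, Nat.card_fun]
  · have : Nat.card {v // Q' v = 0} = Nat.card {v // hypSum Q v = 0} := by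
      refine (Nat.card_congr (Equiv.subtypeEquiv e.toEquiv fun v => ?_)).symm
      rw [← he']
      rfl
    rw [this, Nat.card_eq_fintype_card (α := ι)]
  · intro u hu hu0
    obtain ⟨v, hv⟩ := hns (e u) (by rw [he', hu]) (by
      intro h
      exact hu0 (e.map_eq_zero_iff.1 h))
    refine ⟨e.symm v, ?_⟩
    have h1 : polar (hypSum Q) u (e.symm v) = polar Q' (e u) v := by
      simp only [polar]
      rw [← he', ← he', ← he', map_add, LinearEquiv.apply_symm_apply]
    rwa [h1]

end Matrix

end Cfsg.Agent.LieClassical.OrthCount
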