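import Cfsg.Prelude.Def_Classical

/-!
Counting the level sets of the hyperbolic quadratic form `quadFormPlus` and of orthogonal sums
`quadFormPlus ⊥ R` over a finite field.
-/

set_option autoImplicit false
open Cfsg

namespace Cfsg.Agent.LieClassical.QuadCount

open Finset

variable {F : Type*} [Field F] [Fintype F] [DecidableEq F]

/-- For `x ≠ 0` each value of `y ↦ x ⬝ᵥ y` is taken equally often. -/
theorem card_dot_eq {n : Type*} [Fintype n] [DecidableEq n] (x : n → F) (hx : x ≠ 0) (c : F) :
    Fintype.card F * (univ.filter fun y : n → F => x ⬝ᵥ y = c).card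
      = Fintype.card F ^ Fintype.card n := by
  classical
  obtain ⟨i, hi⟩ : ∃ i, x i ≠ 0 := by
    by_contra h
    push Not at h
    exact hx (funext h)
  let f : (n → F) →+ F :=
    { toFun := fun y => x ⬝ᵥ y
      map_zero' := dotProduct_zero x
      map_add' := fun a b => dotProduct_add x a b }
  have hsurj : ∀ d : F, d ∈ Set.range f := by
    intro d
    refine ⟨Pi.single i ((x i)⁻¹ * d), ?_⟩
    show x ⬝ᵥ Pi.single i ((x i)⁻¹ * d) = d
    rw [dotProduct_single, mul_inv_cancel_left₀ hi]
  have hfib : ∀ d : F, (univ.filter fun y : n → F => x ⬝ᵥ y = d).card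
      = (univ.filter fun y : n → F => x ⬝ᵥ y = c).card := by
    intro d
    exact AddMonoidHom.card_fiber_eq_of_mem_range f (hsurj d) (hsurj c)
  have hsum : (∑ d : F, (univ.filter fun y : n → F => x ⬝ᵥ y = d).card)
      = Fintype.card (n → F) := by
    rw [← card_univ, ← card_eq_sum_card_fiberwise (f := fun y : n → F => x ⬝ᵥ y)
      (t := univ) (fun _ _ => mem_coe.2 (mem_univ _))]
  rw [Fintype.card_fun] at hsum
  rw [← hsum, Finset.sum_congr rfl (fun d _ => hfib d), sum_const, card_univ, smul_eq_mul]

/-- The number of pairs `(x, y)` with `x ⬝ᵥ y = c`. -/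
theorem card_pairs (m : ℕ) (c : F) :
    Fintype.card F * (univ.filter fun p : (Fin m → F) × (Fin m → F) => p.1 ⬝ᵥ p.2 = c).card
        + Fintype.card F ^ m
      = Fintype.card F ^ (2 * m) + if c = 0 then Fintype.card F ^ (m + 1) else 0 := by
  classical
  have h1 : (univ.filter fun p : (Fin m → F) × (Fin m → F) => p.1 ⬝ᵥ p.2 = c).card
      = ∑ x : Fin m → F, (univ.filter fun y : Fin m → F => x ⬝ᵥ y = c).card := by
    rw [card_eq_sum_card_fiberwise (f := Prod.fst) (t := univ)
      (fun _ _ => mem_coe.2 (mem_univ _))]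
    refine Finset.sum_congr rfl fun x _ => ?_
    refine card_bij' (fun p _ => p.2) (fun y _ => (x, y)) ?_ ?_ ?_ ?_
    · intro p hp
      simp only [mem_filter, mem_univ, true_and] at hp ⊢
      rw [← hp.2]; exact hp.1
    · intro y hy
      simp only [mem_filter, mem_univ, true_and] at hy ⊢
      exact ⟨hy, trivial⟩
    · intro p hp
      simp only [mem_filter, mem_univ, true_and] at hp
      exact Prod.ext hp.2.symm rfl
    · intro y _
      rfl
  rw [h1, mul_sum, ← Finset.add_sum_erase univ _ (mem_univ (0 : Fin m → F))]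
  have h2 : ∑ x ∈ univ.erase (0 : Fin m → F),
      Fintype.card F * (univ.filter fun y : Fin m → F => x ⬝ᵥ y = c).card
      = ∑ _x ∈ univ.erase (0 : Fin m → F), Fintype.card F ^ m := by
    refine Finset.sum_congr rfl fun x hx => ?_
    rw [card_dot_eq x (ne_of_mem_erase hx) c, Fintype.card_fin]
  rw [h2, sum_const, card_erase_of_mem (mem_univ _), card_univ, Fintype.card_fun, Fintype.card_fin,
    smul_eq_mul]
  have hpos : 1 ≤ Fintype.card F ^ m := Nat.one_le_pow _ _ Fintype.card_pos
  have h3 : (univ.filter fun y : Fin m → F => (0 : Fin m → F) ⬝ᵥ y = c).card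
      = if c = 0 then Fintype.card F ^ m else 0 := by
    by_cases hc : c = 0
    · subst hc
      rw [if_pos rfl, filter_true_of_mem, card_univ, Fintype.card_fun, Fintype.card_fin]
      intro y _
      exact zero_dotProduct y
    · rw [if_neg hc, filter_false_of_mem, card_empty]
      intro y _ h
      exact hc ((zero_dotProduct y).symm.trans h).symm
  rw [h3]
  obtain ⟨k, hk⟩ : ∃ k, Fintype.card F ^ m = k + 1 := ⟨_, (Nat.sub_add_cancel hpos).symm⟩
  by_cases hc : c = 0
  · rw [if_pos hc, if_pos hc, pow_succ, two_mul, pow_add, hk]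
    simp only [Nat.add_sub_cancel]
    ring
  · rw [if_neg hc, if_neg hc, two_mul, pow_add, hk]
    simp only [Nat.add_sub_cancel]
    ring

/-- The level sets of the hyperbolic form:
`q * N_m(c) + q^m = q^(2m) + [c = 0] q^(m+1)`, valid for all `m ≥ 0`. -/
theorem card_plus (m : ℕ) (c : F) :
    Fintype.card F * Nat.card {v : Fin m ⊕ Fin m → F // quadFormPlus m F v = c}
        + Fintype.card F ^ m
      = Fintype.card F ^ (2 * m) + if c = 0 then Fintype.card F ^ (m + 1) else 0 := by
  rw [← card_pairs m c]
  congr 2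
  rw [← Fintype.card_subtype, ← Nat.card_eq_fintype_card]
  refine Nat.card_congr ((Equiv.sumArrowEquivProdArrow (Fin m) (Fin m) F).subtypeEquiv ?_)
  intro v
  rfl

/-- Zeros of an orthogonal sum `quadFormPlus ⊥ R`, where `R : W → F` is any function on a finite type:
`q * N + |W| q^m = |W| q^(2m) + N_R q^(m+1)` where `N_R` is the number of zeros of `R`. -/
theorem card_sum {W : Type*} [Fintype W] (m : ℕ) (R : W → F) :
    Fintype.card F * Nat.card {p : (Fin m ⊕ Fin m → F) × W // quadFormPlus m F p.1 + R p.2 = 0}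
        + Fintype.card W * Fintype.card F ^ m
      = Fintype.card W * Fintype.card F ^ (2 * m)
        + Nat.card {w : W // R w = 0} * Fintype.card F ^ (m + 1) := by
  classical
  have h1 : Nat.card {p : (Fin m ⊕ Fin m → F) × W // quadFormPlus m F p.1 + R p.2 = 0}
      = ∑ w : W, Nat.card {v : Fin m ⊕ Fin m → F // quadFormPlus m F v = - R w} := by
    rw [← Nat.card_sigma]
    refine Nat.card_congr
      { toFun := fun p => ⟨p.1.2, ⟨p.1.1, eq_neg_of_add_eq_zero_left p.2⟩⟩
        invFun := fun s => ⟨(s.2.1, s.1), by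
          show quadFormPlus m F s.2.1 + R s.1 = 0
          rw [s.2.2, neg_add_cancel]⟩
        left_inv := fun p => rfl
        right_inv := fun s => rfl }
  have h2 : Fintype.card W * Fintype.card F ^ m = ∑ _w : W, Fintype.card F ^ m := by
    rw [sum_const, card_univ, smul_eq_mul]
  rw [h1, h2, mul_sum, ← sum_add_distrib, Finset.sum_congr rfl (fun w _ => card_plus m (- R w)),
    sum_add_distrib, sum_const, card_univ, smul_eq_mul, ← sum_filter, sum_const, smul_eq_mul]
  congr 2
  rw [← Fintype.card_subtype, ← Nat.card_eq_fintype_card]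
  exact Nat.card_congr (Equiv.subtypeEquivRight fun w => neg_eq_zero)

end Cfsg.Agent.LieClassical.QuadCount
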