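import Mathlib
import Cfsg.Prelude.Def_Classical

set_option autoImplicit false
set_option linter.unusedSectionVars false

/-!
* transfer of isometry groups along a bijection of index types, and invariance of the index of
  `Omega`;
* the three explicit quadratic forms of `Def_Classical` as `QuadraticForm`s with nondegenerate polar
  forms.
-/

namespace Cfsg.Agent.LieClassical.OmegaReindex

open QuadraticMap Matrix Module

/-! ### Reindexing -/

section Reindex

variable {ι κ : Type} [Fintype ι] [DecidableEq ι] [Fintype κ] [DecidableEq κ] {F : Type*} [Field F]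

theorem mem_isometryGroup (Q : (ι → F) → F) (g : Matrix.GeneralLinearGroup ι F) :
    g ∈ Cfsg.isometryGroup F Q ↔ ∀ x, Q ((g : Matrix ι ι F) *ᵥ x) = Q x :=
  ⟨fun h x => h x x, fun h x _ => h x⟩

/-- Reindexing as an isomorphism of general linear groups. -/
def glReindex (F : Type*) [Field F] (e : ι ≃ κ) :
    Matrix.GeneralLinearGroup ι F ≃* Matrix.GeneralLinearGroup κ F :=
  Units.mapEquiv (Matrix.reindexAlgEquiv F F e).toMulEquiv

theorem coe_glReindex (e : ι ≃ κ) (g : Matrix.GeneralLinearGroup ι F) :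
    (glReindex F e g : Matrix κ κ F) = (g : Matrix ι ι F).submatrix e.symm e.symm := rfl

theorem glReindex_mulVec (e : ι ≃ κ) (g : Matrix.GeneralLinearGroup ι F) (v : κ → F) :
    (glReindex F e g : Matrix κ κ F) *ᵥ v = ((g : Matrix ι ι F) *ᵥ (v ∘ e)) ∘ e.symm := by
  rw [coe_glReindex, Matrix.submatrix_mulVec_equiv]
  rfl

theorem map_isometryGroup (e : ι ≃ κ) (Q : (ι → F) → F) (Q' : (κ → F) → F)
    (h : ∀ v : κ → F, Q' v = Q (v ∘ e)) :
    (Cfsg.isometryGroup F Q).map (glReindex F e).toMonoidHom = Cfsg.isometryGroup F Q' := by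
  have key : ∀ g : Matrix.GeneralLinearGroup ι F,
      g ∈ Cfsg.isometryGroup F Q ↔ glReindex F e g ∈ Cfsg.isometryGroup F Q' := by
    intro g
    rw [mem_isometryGroup, mem_isometryGroup]
    constructor
    · intro hg v
      rw [glReindex_mulVec, h, h, Function.comp_assoc, Equiv.symm_comp_self, Function.comp_id, hg]
    · intro hg x
      have h1 := hg (x ∘ e.symm)
      rw [glReindex_mulVec, h, h, Function.comp_assoc, Equiv.symm_comp_self, Function.comp_id,
        Function.comp_assoc, Equiv.symm_comp_self, Function.comp_id] at h1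
      exact h1
  ext g
  rw [Subgroup.mem_map]
  constructor
  · rintro ⟨x, hx, rfl⟩
    exact (key x).1 hx
  · intro hg
    refine ⟨(glReindex F e).symm g, ?_, ?_⟩
    · rw [key, MulEquiv.apply_symm_apply]; exact hg
    · exact MulEquiv.apply_symm_apply _ _

/-- The isometry groups of a form and of its reindexing are isomorphic. -/
def isometryGroupReindex (e : ι ≃ κ) (Q : (ι → F) → F) (Q' : (κ → F) → F)
    (h : ∀ v : κ → F, Q' v = Q (v ∘ e)) :
    Cfsg.isometryGroup F Q ≃* Cfsg.isometryGroup F Q' :=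
  ((glReindex F e).subgroupMap (Cfsg.isometryGroup F Q)).trans
    (MulEquiv.subgroupCongr (map_isometryGroup e Q Q' h))

theorem coe_isometryGroupReindex (e : ι ≃ κ) (Q : (ι → F) → F) (Q' : (κ → F) → F)
    (h : ∀ v : κ → F, Q' v = Q (v ∘ e)) (g : Cfsg.isometryGroup F Q) :
    ((isometryGroupReindex e Q Q' h g : Matrix.GeneralLinearGroup κ F) : Matrix κ κ F)
      = ((g : Matrix.GeneralLinearGroup ι F) : Matrix ι ι F).submatrix e.symm e.symm := rfl

/-- The index of the commutator subgroup is an isomorphism invariant. -/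
theorem index_commutator_congr {G H : Type*} [Group G] [Group H] (e : G ≃* H) :
    (commutator G).index = (commutator H).index :=
  Nat.card_congr (MulEquiv.abelianizationCongr e).toEquiv

theorem index_omega_reindex (e : ι ≃ κ) (Q : (ι → F) → F) (Q' : (κ → F) → F)
    (h : ∀ v : κ → F, Q' v = Q (v ∘ e)) :
    (Cfsg.Omega F Q).index = (Cfsg.Omega F Q').index :=
  index_commutator_congr (isometryGroupReindex e Q Q' h)

theorem card_isometryGroup_reindex (e : ι ≃ κ) (Q : (ι → F) → F) (Q' : (κ → F) → F)
    (h : ∀ v : κ → F, Q' v = Q (v ∘ e)) :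
    Nat.card (Cfsg.isometryGroup F Q) = Nat.card (Cfsg.isometryGroup F Q') :=
  Nat.card_congr (isometryGroupReindex e Q Q' h).toEquiv

/-- The quadratic form transported to another index type. -/
def reindexForm (e : ι ≃ κ) (Q : QuadraticForm F (ι → F)) : QuadraticForm F (κ → F) :=
  Q.comp (LinearEquiv.funCongrLeft F F e).toLinearMap

theorem reindexForm_apply (e : ι ≃ κ) (Q : QuadraticForm F (ι → F)) (v : κ → F) :
    reindexForm e Q v = Q (v ∘ e) := rfl

theorem reindexForm_nondegenerate (e : ι ≃ κ) (Q : QuadraticForm F (ι → F))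
    (hQ : (polarBilin Q).Nondegenerate) : (polarBilin (reindexForm e Q)).Nondegenerate := by
  have hp : ∀ x y : κ → F, polar (⇑(reindexForm e Q)) x y = polar (⇑Q) (x ∘ e) (y ∘ e) := by
    intro x y; rfl
  have hsur : ∀ y : ι → F, (y ∘ e.symm) ∘ e = y := fun y => by
    rw [Function.comp_assoc, Equiv.symm_comp_self, Function.comp_id]
  constructor
  · intro x hx
    have h0 : x ∘ e = 0 := hQ.1 _ fun y => by
      have h := hx (y ∘ e.symm)
      rw [polarBilin_apply_apply, hp, hsur] at h
      rw [polarBilin_apply_apply]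
      exact h
    funext i
    have := congrFun h0 (e.symm i)
    simpa using this
  · intro x hx
    have h0 : x ∘ e = 0 := hQ.2 _ fun y => by
      have h := hx (y ∘ e.symm)
      rw [polarBilin_apply_apply, hp, hsur] at h
      rw [polarBilin_apply_apply]
      exact h
    funext i
    have := congrFun h0 (e.symm i)
    simpa using this

/-- Transfer of a statement on the index of `Omega` from the index type `Fin n`. -/
theorem index_omega_of_fin {n k : ℕ} (hn : Fintype.card ι = n)
    (H : ∀ Q' : QuadraticForm F (Fin n → F), (polarBilin Q').Nondegenerate →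
      (Cfsg.Omega F (⇑Q')).index = k)
    (Q : QuadraticForm F (ι → F)) (hQ : (polarBilin Q).Nondegenerate) :
    (Cfsg.Omega F (⇑Q)).index = k := by
  have e : ι ≃ Fin n := Fintype.equivFinOfCardEq hn
  rw [← H (reindexForm e Q) (reindexForm_nondegenerate e Q hQ)]
  exact index_omega_reindex e _ _ fun v => rfl

end Reindex

/-! ### The three explicit forms -/

section Forms

variable (m : ℕ) (F : Type*) [Field F]

/-- `quadFormPlus` as a quadratic form. -/
def quadPlus : QuadraticForm F (Fin m ⊕ Fin m → F) :=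
  ∑ i : Fin m, QuadraticMap.proj (.inl i) (.inr i)

theorem coe_quadPlus : ⇑(quadPlus m F) = Cfsg.quadFormPlus m F := by
  funext v
  rw [quadPlus, _root_.sum_apply]
  rfl

/-- `quadFormMinus` as a quadratic form. -/
def quadMinus (a b : F) : QuadraticForm F ((Fin m ⊕ Fin m) ⊕ Fin 2 → F) :=
  (∑ i : Fin m, QuadraticMap.proj (.inl (.inl i)) (.inl (.inr i)))
    + (QuadraticMap.proj (.inr 0) (.inr 0) + a • QuadraticMap.proj (.inr 0) (.inr 1)
      + b • QuadraticMap.proj (.inr 1) (.inr 1))

theorem coe_quadMinus (a b : F) : ⇑(quadMinus m F a b) = Cfsg.quadFormMinus m F a b := by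
  funext v
  rw [quadMinus, _root_.add_apply, _root_.sum_apply, _root_.add_apply,
    _root_.add_apply, _root_.smul_apply, _root_.smul_apply]
  change (∑ i, v (.inl (.inl i)) * v (.inl (.inr i)))
    + (v (.inr 0) * v (.inr 0) + a * (v (.inr 0) * v (.inr 1)) + b * (v (.inr 1) * v (.inr 1)))
    = (∑ i, v (.inl (.inl i)) * v (.inl (.inr i)))
    + (v (.inr 0) ^ 2 + a * v (.inr 0) * v (.inr 1) + b * v (.inr 1) ^ 2)
  ring

/-- `quadFormOdd` as a quadratic form. -/
def quadOdd : QuadraticForm F (Unit ⊕ (Fin m ⊕ Fin m) → F) :=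
  QuadraticMap.proj (.inl ()) (.inl ())
    + ∑ i : Fin m, QuadraticMap.proj (.inr (.inl i)) (.inr (.inr i))

theorem coe_quadOdd : ⇑(quadOdd m F) = Cfsg.quadFormOdd m F := by
  funext v
  rw [quadOdd, _root_.add_apply, _root_.sum_apply]
  change v (.inl ()) * v (.inl ()) + (∑ i, v (.inr (.inl i)) * v (.inr (.inr i)))
    = v (.inl ()) ^ 2 + ∑ i, v (.inr (.inl i)) * v (.inr (.inr i))
  ring

variable {m F}

theorem polar_proj {ι : Type} [Fintype ι] [DecidableEq ι] (i j : ι) (x y : ι → F) :
    polar (⇑(QuadraticMap.proj i j : QuadraticForm F (ι → F))) x y = x i * y j + y i * x j := by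
  change (x + y) i * (x + y) j - x i * x j - y i * y j = _
  simp only [Pi.add_apply]
  ring

theorem polar_sum' {ι σ : Type} [Fintype ι] [DecidableEq ι] (s : Finset σ)
    (f : σ → QuadraticForm F (ι → F)) (x y : ι → F) :
    polar (⇑(∑ i ∈ s, f i)) x y = ∑ i ∈ s, polar (⇑(f i)) x y := by
  simp only [polar, _root_.sum_apply, Finset.sum_sub_distrib]

theorem polar_quadPlus (x y : Fin m ⊕ Fin m → F) :
    polar (⇑(quadPlus m F)) x y
      = ∑ i : Fin m, (x (.inl i) * y (.inr i) + y (.inl i) * x (.inr i)) := by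
  rw [quadPlus, polar_sum']
  exact Finset.sum_congr rfl fun i _ => polar_proj _ _ _ _

theorem polar_quadOdd (x y : Unit ⊕ (Fin m ⊕ Fin m) → F) :
    polar (⇑(quadOdd m F)) x y
      = 2 * x (.inl ()) * y (.inl ()) + ∑ i : Fin m,
        (x (.inr (.inl i)) * y (.inr (.inr i)) + y (.inr (.inl i)) * x (.inr (.inr i))) := by
  rw [quadOdd, FunLike.coe_add, polar_add, polar_sum', polar_proj]
  congr 1
  · ring
  · exact Finset.sum_congr rfl fun i _ => polar_proj _ _ _ _

theorem polar_quadMinus (a b : F) (x y : (Fin m ⊕ Fin m) ⊕ Fin 2 → F) :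
    polar (⇑(quadMinus m F a b)) x y
      = (∑ i : Fin m, (x (.inl (.inl i)) * y (.inl (.inr i))
          + y (.inl (.inl i)) * x (.inl (.inr i))))
        + (2 * x (.inr 0) * y (.inr 0) + a * (x (.inr 0) * y (.inr 1) + y (.inr 0) * x (.inr 1))
          + 2 * b * x (.inr 1) * y (.inr 1)) := by
  rw [quadMinus, FunLike.coe_add, polar_add, polar_sum', FunLike.coe_add, polar_add,
    FunLike.coe_add, polar_add, FunLike.coe_smul, polar_smul,
    FunLike.coe_smul, polar_smul, polar_proj, polar_proj, polar_proj]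
  congr 1
  · exact Finset.sum_congr rfl fun i _ => polar_proj _ _ _ _
  · simp only [smul_eq_mul]; ring

/-- It is enough to check left-separation. -/
theorem nondegenerate_of_left {ι : Type} [Fintype ι] [DecidableEq ι]
    (Q : QuadraticForm F (ι → F))
    (h : ∀ x, (∀ y, polar (⇑Q) x y = 0) → x = 0) : (polarBilin Q).Nondegenerate := by
  constructor
  · intro x hx
    exact h x fun y => by have := hx y; rwa [polarBilin_apply_apply] at this
  · intro x hx
    exact h x fun y => by
      have := hx y
      rw [polarBilin_apply_apply, polar_comm] at this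
      exact this

theorem quadPlus_nondegenerate : (polarBilin (quadPlus m F)).Nondegenerate := by
  apply nondegenerate_of_left
  intro x hx
  funext j
  rcases j with j | j
  · have h := hx (Pi.single (.inr j) 1)
    rw [polar_quadPlus] at h
    simpa [Pi.single_apply] using h
  · have h := hx (Pi.single (.inl j) 1)
    rw [polar_quadPlus] at h
    simpa [Pi.single_apply] using h

theorem quadOdd_nondegenerate (h2 : (2 : F) ≠ 0) : (polarBilin (quadOdd m F)).Nondegenerate := by
  apply nondegenerate_of_left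
  intro x hx
  funext j
  rcases j with j | j | j
  · have h := hx (Pi.single (.inl j) 1)
    rw [polar_quadOdd] at h
    simpa [Pi.single_apply, h2] using h
  · have h := hx (Pi.single (.inr (.inr j)) 1)
    rw [polar_quadOdd] at h
    simpa [Pi.single_apply] using h
  · have h := hx (Pi.single (.inr (.inl j)) 1)
    rw [polar_quadOdd] at h
    simpa [Pi.single_apply] using h

/-- An anisotropic binary form `z₁² + a z₁ z₂ + b z₂²` over a finite field has nonzero
discriminant. -/
theorem disc_ne_zero [Finite F] {a b : F}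
    (hab : ∀ z₁ z₂ : F, z₁ ^ 2 + a * z₁ * z₂ + b * z₂ ^ 2 = 0 → z₁ = 0 ∧ z₂ = 0) :
    4 * b - a ^ 2 ≠ 0 := by
  intro hd
  by_cases h2 : (2 : F) = 0
  · have ha : a = 0 := by
      have h4 : (4 : F) = 0 := by linear_combination 2 * h2
      have h5 : a ^ 2 = 0 := by linear_combination -hd + b * h4
      exact pow_eq_zero_iff (two_ne_zero) |>.1 h5
    have hch : CharP F 2 := CharTwo.of_one_ne_zero_of_two_eq_zero one_ne_zero h2
    have := Fintype.ofFinite F
    obtain ⟨c, hc⟩ := FiniteField.isSquare_of_char_two (ringChar.eq_iff.2 hch) b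
    have h := hab c 1 (by rw [ha, hc]; linear_combination c * c * h2)
    exact one_ne_zero h.2
  · have h := hab (-a) 2 (by linear_combination hd)
    exact h2 h.2

theorem quadMinus_nondegenerate [Finite F] {a b : F}
    (hab : ∀ z₁ z₂ : F, z₁ ^ 2 + a * z₁ * z₂ + b * z₂ ^ 2 = 0 → z₁ = 0 ∧ z₂ = 0) :
    (polarBilin (quadMinus m F a b)).Nondegenerate := by
  have hd := disc_ne_zero hab
  apply nondegenerate_of_left
  intro x hx
  have h0 := hx (Pi.single (.inr 0) 1)
  have h1 := hx (Pi.single (.inr 1) 1)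
  rw [polar_quadMinus] at h0 h1
  simp at h0 h1
  have hx0 : x (.inr 0) = 0 := by
    have : (4 * b - a ^ 2) * x (.inr 0) = 0 := by linear_combination 2 * b * h0 - a * h1
    exact (mul_eq_zero.1 this).resolve_left hd
  have hx1 : x (.inr 1) = 0 := by
    have : (4 * b - a ^ 2) * x (.inr 1) = 0 := by linear_combination 2 * h1 - a * h0
    exact (mul_eq_zero.1 this).resolve_left hd
  funext j
  rcases j with (j | j) | j
  · have h := hx (Pi.single (.inl (.inr j)) 1)
    rw [polar_quadMinus] at h
    simpa [Pi.single_apply] using h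
  · have h := hx (Pi.single (.inl (.inl j)) 1)
    rw [polar_quadMinus] at h
    simpa [Pi.single_apply] using h
  · fin_cases j
    · exact hx0
    · exact hx1

theorem quadPlus_isotropic (hm : 1 ≤ m) : ∃ u : Fin m ⊕ Fin m → F, u ≠ 0 ∧ quadPlus m F u = 0 := by
  refine ⟨Pi.single (.inl ⟨0, hm⟩) 1, ?_, ?_⟩
  · intro h
    have := congrFun h (.inl ⟨0, hm⟩)
    simp at this
  · rw [coe_quadPlus]
    simp [Cfsg.quadFormPlus]

theorem quadOdd_isotropic (hm : 1 ≤ m) :
    ∃ u : Unit ⊕ (Fin m ⊕ Fin m) → F, u ≠ 0 ∧ quadOdd m F u = 0 := by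
  refine ⟨Pi.single (.inr (.inl ⟨0, hm⟩)) 1, ?_, ?_⟩
  · intro h
    have := congrFun h (.inr (.inl ⟨0, hm⟩))
    simp at this
  · rw [coe_quadOdd]
    simp [Cfsg.quadFormOdd]

theorem quadMinus_isotropic (hm : 1 ≤ m) (a b : F) :
    ∃ u : (Fin m ⊕ Fin m) ⊕ Fin 2 → F, u ≠ 0 ∧ quadMinus m F a b u = 0 := by
  refine ⟨Pi.single (.inl (.inl ⟨0, hm⟩)) 1, ?_, ?_⟩
  · intro h
    have := congrFun h (.inl (.inl ⟨0, hm⟩))
    simp at this
  · rw [coe_quadMinus]
    simp [Cfsg.quadFormMinus]

end Forms

end Cfsg.Agent.LieClassical.OmegaReindex
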