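import Mathlib
import Cfsg.Agent.LieClassical.HermBasic

/-!
# Siegel transformations in the special unitary group

`act g v` is the action of `g : SU n F q` on column vectors. For `u` isotropic, `w ⟂ u` and
`μ + μ ^ q + h(w,w) = 0`, the map `v ↦ v + h(v,u) w + (μ h(v,u) - h(v,w)) u` is in `SU n F q`.
-/

set_option autoImplicit false

namespace Cfsg.Agent.LieClassical.HermSiegel

open Cfsg Cfsg.Agent.LieClassical.HermBasic Matrix

section Act

variable {F : Type*} [Field F] {q n : ℕ}

/-- The matrix of an element of `SU`. -/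
def mat (g : SU n F q) : Matrix (Fin n) (Fin n) F :=
  ((g : Matrix.SpecialLinearGroup (Fin n) F) : Matrix (Fin n) (Fin n) F)

theorem mat_def (g : SU n F q) :
    mat g = ((g : Matrix.SpecialLinearGroup (Fin n) F) : Matrix (Fin n) (Fin n) F) := rfl

/-- The action on column vectors. -/
def act (g : SU n F q) (v : Fin n → F) : Fin n → F := mat g *ᵥ v

theorem act_def (g : SU n F q) (v : Fin n → F) : act g v = mat g *ᵥ v := rfl

theorem mat_one : mat (1 : SU n F q) = 1 := rfl

theorem mat_mul (g h : SU n F q) : mat (g * h) = mat g * mat h := by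
  simp [mat]

theorem det_mat (g : SU n F q) : (mat g).det = 1 :=
  (g : Matrix.SpecialLinearGroup (Fin n) F).2

theorem mat_injective : Function.Injective (mat : SU n F q → Matrix (Fin n) (Fin n) F) :=
  fun _ _ h => Subtype.ext (Subtype.ext h)

theorem act_one (v : Fin n → F) : act (1 : SU n F q) v = v := by
  rw [act, mat_one, Matrix.one_mulVec]

theorem act_mul (g h : SU n F q) (v : Fin n → F) : act (g * h) v = act g (act h v) := by
  rw [act, act, act, mat_mul, Matrix.mulVec_mulVec]

theorem act_inv_act (g : SU n F q) (v : Fin n → F) : act g⁻¹ (act g v) = v := by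
  rw [← act_mul, inv_mul_cancel, act_one]

theorem act_act_inv (g : SU n F q) (v : Fin n → F) : act g (act g⁻¹ v) = v := by
  rw [← act_mul, mul_inv_cancel, act_one]

theorem act_add (g : SU n F q) (v w : Fin n → F) : act g (v + w) = act g v + act g w :=
  Matrix.mulVec_add _ _ _

theorem act_sub (g : SU n F q) (v w : Fin n → F) : act g (v - w) = act g v - act g w :=
  Matrix.mulVec_sub _ _ _

theorem act_smul (g : SU n F q) (c : F) (v : Fin n → F) : act g (c • v) = c • act g v :=
  Matrix.mulVec_smul _ _ _

theorem act_zero (g : SU n F q) : act g (0 : Fin n → F) = 0 :=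
  Matrix.mulVec_zero _

theorem act_neg (g : SU n F q) (v : Fin n → F) : act g (-v) = -act g v :=
  Matrix.mulVec_neg _ _

theorem act_sum (g : SU n F q) {ι : Type*} (s : Finset ι) (f : ι → Fin n → F) :
    act g (∑ i ∈ s, f i) = ∑ i ∈ s, act g (f i) := by
  classical
  induction s using Finset.induction_on with
  | empty => simp [act_zero]
  | insert a s ha ih => rw [Finset.sum_insert ha, Finset.sum_insert ha, act_add, ih]

theorem act_injective (g : SU n F q) : Function.Injective (act g) :=
  Function.LeftInverse.injective (act_inv_act g)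

theorem act_eq_zero (g : SU n F q) {v : Fin n → F} : act g v = 0 ↔ v = 0 :=
  ⟨fun h => act_injective g (by rw [h, act_zero]), fun h => by rw [h, act_zero]⟩

theorem act_eq_iff (g : SU n F q) {v w : Fin n → F} : act g v = w ↔ v = act g⁻¹ w :=
  ⟨fun h => by rw [← h, act_inv_act], fun h => by rw [h, act_act_inv]⟩

theorem herm_act (g : SU n F q) (u v : Fin n → F) :
    hermForm n F q (act g u) (act g v) = hermForm n F q u v :=
  g.2 u v

theorem herm_act_left (g : SU n F q) (u v : Fin n → F) :
    hermForm n F q (act g u) v = hermForm n F q u (act g⁻¹ v) := by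
  rw [← herm_act g u (act g⁻¹ v), act_act_inv]

theorem ext_act {g h : SU n F q} (H : ∀ v, act g v = act h v) : g = h := by
  apply mat_injective
  apply Matrix.ext_of_mulVec_single
  intro i
  exact H _

theorem act_single (g : SU n F q) (i j : Fin n) :
    act g (Pi.single i 1) j = mat g j i := by
  rw [act, Matrix.mulVec_single_one]; rfl

/-- Constructor of an element of `SU` from a matrix. -/
def mkSU (M : Matrix (Fin n) (Fin n) F) (hdet : M.det = 1)
    (h : ∀ u v, hermForm n F q (M *ᵥ u) (M *ᵥ v) = hermForm n F q u v) : SU n F q :=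
  ⟨⟨M, hdet⟩, h⟩

theorem mat_mkSU (M : Matrix (Fin n) (Fin n) F) (hdet : M.det = 1)
    (h : ∀ u v, hermForm n F q (M *ᵥ u) (M *ᵥ v) = hermForm n F q u v) :
    mat (mkSU M hdet h) = M := rfl

end Act

section Unipotent

/-- A matrix `M` over a finite field with `(M - 1) ^ 3 = 0` has determinant one, as soon as the field
has at least three elements. -/
theorem det_eq_one_of_unipotent {F : Type*} [Field F] [Fintype F] {n : ℕ}
    (h3 : 3 ≤ Fintype.card F) (M : Matrix (Fin n) (Fin n) F)
    (h : (M - 1) * (M - 1) * (M - 1) = 0) : M.det = 1 := by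
  obtain ⟨p, hp⟩ := CharP.exists F
  obtain ⟨k, hprime, hcard⟩ := FiniteField.card F p
  have := Fact.mk hprime
  rcases Nat.eq_zero_or_pos n with rfl | hn
  · simp
  have : Nonempty (Fin n) := ⟨⟨0, hn⟩⟩
  have hc : (M - 1) ^ Fintype.card F = M ^ Fintype.card F - 1 := by
    rw [hcard]
    have := sub_pow_char_pow_of_commute (R := Matrix (Fin n) (Fin n) F) (p := p) (n := (k : ℕ))
      (Commute.one_right M)
    rw [this, one_pow]
  have h0 : (M - 1) ^ Fintype.card F = 0 := by
    obtain ⟨m, hm⟩ := Nat.exists_eq_add_of_le h3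
    rw [hm, pow_add, pow_succ, pow_two, h, zero_mul]
  rw [h0] at hc
  have h1 : M ^ Fintype.card F = 1 := (sub_eq_zero.1 hc.symm)
  calc M.det = M.det ^ Fintype.card F := (FiniteField.pow_card _).symm
    _ = (M ^ Fintype.card F).det := (Matrix.det_pow _ _).symm
    _ = 1 := by rw [h1, Matrix.det_one]

end Unipotent

section Siegel

variable {F : Type*} [Field F] {q n : ℕ}

/-- The matrix of `v ↦ v + h(v,u) w + (μ h(v,u) - h(v,w)) u`. -/
def siegelMat (q : ℕ) (u w : Fin n → F) (μ : F) : Matrix (Fin n) (Fin n) F :=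
  1 + (Matrix.vecMulVec w (fun j => u j ^ q) +
    Matrix.vecMulVec u (fun j => μ * u j ^ q - w j ^ q))

theorem siegelMat_mulVec (u w : Fin n → F) (μ : F) (v : Fin n → F) :
    siegelMat q u w μ *ᵥ v = v + hermForm n F q v u • w +
      (μ * hermForm n F q v u - hermForm n F q v w) • u := by
  have h1 : (fun j => u j ^ q) ⬝ᵥ v = hermForm n F q v u := by
    rw [herm_def, dotProduct]; exact Finset.sum_congr rfl fun _ _ => mul_comm _ _
  have h2 : (fun j => μ * u j ^ q - w j ^ q) ⬝ᵥ v =
      μ * hermForm n F q v u - hermForm n F q v w := by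
    rw [herm_def, herm_def, dotProduct, Finset.mul_sum, ← Finset.sum_sub_distrib]
    exact Finset.sum_congr rfl fun _ _ => by ring
  rw [siegelMat, Matrix.add_mulVec, Matrix.add_mulVec, Matrix.one_mulVec,
    Matrix.vecMulVec_mulVec, Matrix.vecMulVec_mulVec, h1, h2, op_smul_eq_smul, op_smul_eq_smul,
    add_assoc]

/-- The conditions for a Siegel transformation. -/
structure IsSiegel (q : ℕ) (u w : Fin n → F) (μ : F) : Prop where
  iso : hermForm n F q u u = 0
  orth : hermForm n F q w u = 0
  tr : μ + μ ^ q + hermForm n F q w w = 0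

variable [Fintype F]

theorem IsSiegel.orth' (hF : Fintype.card F = q ^ 2) {u w : Fin n → F} {μ : F}
    (h : IsSiegel q u w μ) : hermForm n F q u w = 0 :=
  herm_eq_zero_swap hF h.orth

theorem siegelMat_herm (hF : Fintype.card F = q ^ 2) {u w : Fin n → F} {μ : F}
    (h : IsSiegel q u w μ) (x y : Fin n → F) :
    hermForm n F q (siegelMat q u w μ *ᵥ x) (siegelMat q u w μ *ᵥ y) = hermForm n F q x y := by
  have huy : hermForm n F q u y = (hermForm n F q y u) ^ q := herm_swap hF y u
  have hwy : hermForm n F q w y = (hermForm n F q y w) ^ q := herm_swap hF y w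
  simp only [siegelMat_mulVec, herm_add_left, herm_add_right hF, herm_smul_left, herm_smul_right,
    h.iso, h.orth, h.orth' hF, huy, hwy]
  have e1 : (μ * hermForm n F q y u - hermForm n F q y w) ^ q =
      μ ^ q * hermForm n F q y u ^ q - hermForm n F q y w ^ q := by
    rw [sub_pow_q hF, mul_pow]
  rw [e1]
  linear_combination (hermForm n F q x u * hermForm n F q y u ^ q) * h.tr

theorem siegelMat_det (hF : Fintype.card F = q ^ 2) {u w : Fin n → F} {μ : F}
    (h : IsSiegel q u w μ) : (siegelMat q u w μ).det = 1 := by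
  have h2 := two_le hF
  apply det_eq_one_of_unipotent (by rw [hF]; nlinarith)
  apply Matrix.ext_of_mulVec_single
  intro i
  set e : Fin n → F := Pi.single i 1
  have key : ∀ v : Fin n → F, (siegelMat q u w μ - 1) *ᵥ v =
      hermForm n F q v u • w + (μ * hermForm n F q v u - hermForm n F q v w) • u := by
    intro v
    rw [Matrix.sub_mulVec, siegelMat_mulVec, Matrix.one_mulVec]
    abel
  rw [Matrix.zero_mulVec, ← Matrix.mulVec_mulVec, ← Matrix.mulVec_mulVec, key e, key, key]
  simp only [herm_add_left, herm_smul_left, h.iso, h.orth, h.orth' hF, mul_zero, add_zero,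
    zero_sub, zero_smul, zero_add, sub_self]

/-- The Siegel transformation as an element of `SU n F q`. -/
def siegel (hF : Fintype.card F = q ^ 2) (u w : Fin n → F) (μ : F) (h : IsSiegel q u w μ) :
    SU n F q :=
  mkSU (siegelMat q u w μ) (siegelMat_det hF h) (siegelMat_herm hF h)

theorem act_siegel (hF : Fintype.card F = q ^ 2) {u w : Fin n → F} {μ : F}
    (h : IsSiegel q u w μ) (v : Fin n → F) :
    act (siegel hF u w μ h) v = v + hermForm n F q v u • w +
      (μ * hermForm n F q v u - hermForm n F q v w) • u :=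
  siegelMat_mulVec u w μ v

theorem siegel_congr (hF : Fintype.card F = q ^ 2) {u w u' w' : Fin n → F} {μ μ' : F}
    (h : IsSiegel q u w μ) (h' : IsSiegel q u' w' μ') (hu : u = u') (hw : w = w') (hμ : μ = μ') :
    siegel hF u w μ h = siegel hF u' w' μ' h' := by
  subst hu hw hμ; rfl

/-- A Siegel transformation fixes `u`. -/
theorem act_siegel_self (hF : Fintype.card F = q ^ 2) {u w : Fin n → F} {μ : F}
    (h : IsSiegel q u w μ) : act (siegel hF u w μ h) u = u := by
  rw [act_siegel, h.iso, h.orth' hF]; simp

/-- A Siegel transformation fixes all vectors orthogonal to `u` and `w`. -/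
theorem act_siegel_of_orth (hF : Fintype.card F = q ^ 2) {u w : Fin n → F} {μ : F}
    (h : IsSiegel q u w μ) {v : Fin n → F} (h1 : hermForm n F q v u = 0)
    (h2 : hermForm n F q v w = 0) : act (siegel hF u w μ h) v = v := by
  rw [act_siegel, h1, h2]; simp

theorem IsSiegel.mul (hF : Fintype.card F = q ^ 2) {u w w' : Fin n → F} {μ μ' : F}
    (h : IsSiegel q u w μ) (h' : IsSiegel q u w' μ') :
    IsSiegel q u (w + w') (μ + μ' - hermForm n F q w' w) := by
  refine ⟨h.iso, ?_, ?_⟩
  · rw [herm_add_left, h.orth, h'.orth, add_zero]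
  · rw [sub_pow_q hF, add_pow_q hF, ← herm_swap hF, herm_add_left, herm_add_right hF,
      herm_add_right hF]
    linear_combination h.tr + h'.tr

theorem siegel_mul (hF : Fintype.card F = q ^ 2) {u w w' : Fin n → F} {μ μ' : F}
    (h : IsSiegel q u w μ) (h' : IsSiegel q u w' μ') :
    siegel hF u w μ h * siegel hF u w' μ' h' =
      siegel hF u (w + w') (μ + μ' - hermForm n F q w' w) (h.mul hF h') := by
  apply ext_act
  intro v
  rw [act_mul, act_siegel, act_siegel, act_siegel]
  simp only [herm_add_left, herm_smul_left, herm_add_right hF, h.iso, h'.orth, h.orth' hF]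
  funext i
  simp only [Pi.add_apply, Pi.smul_apply, smul_eq_mul]
  ring

theorem IsSiegel.zero (hF : Fintype.card F = q ^ 2) {u : Fin n → F}
    (hu : hermForm n F q u u = 0) : IsSiegel q u 0 (0 : F) :=
  ⟨hu, herm_zero_left u, by rw [herm_zero_left, zero_pow_q hF]; ring⟩

theorem siegel_zero (hF : Fintype.card F = q ^ 2) {u : Fin n → F} (h : IsSiegel q u 0 (0 : F)) :
    siegel hF u 0 0 h = 1 := by
  apply ext_act
  intro v
  rw [act_siegel, act_one, herm_zero_right hF]
  simp

theorem IsSiegel.inv (hF : Fintype.card F = q ^ 2) {u w : Fin n → F} {μ : F}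
    (h : IsSiegel q u w μ) : IsSiegel q u (-w) (μ ^ q) := by
  refine ⟨h.iso, ?_, ?_⟩
  · rw [herm_neg_left, h.orth, neg_zero]
  · rw [pow_q_pow_q hF, herm_neg_left, herm_neg_right hF, neg_neg]
    linear_combination h.tr

theorem siegel_inv (hF : Fintype.card F = q ^ 2) {u w : Fin n → F} {μ : F}
    (h : IsSiegel q u w μ) :
    (siegel hF u w μ h)⁻¹ = siegel hF u (-w) (μ ^ q) (h.inv hF) := by
  rw [inv_eq_iff_mul_eq_one, siegel_mul]
  have : IsSiegel q u 0 (0 : F) := IsSiegel.zero hF h.iso
  rw [siegel_congr hF _ this rfl (add_neg_cancel w) ?_, siegel_zero]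
  rw [herm_neg_left]
  linear_combination h.tr

omit [Fintype F] in
theorem IsSiegel.map {u w : Fin n → F} {μ : F}
    (h : IsSiegel q u w μ) (g : SU n F q) : IsSiegel q (act g u) (act g w) μ :=
  ⟨by rw [herm_act]; exact h.iso, by rw [herm_act]; exact h.orth, by rw [herm_act]; exact h.tr⟩

/-- Conjugation. -/
theorem conj_siegel (hF : Fintype.card F = q ^ 2) {u w : Fin n → F} {μ : F}
    (h : IsSiegel q u w μ) (g : SU n F q) :
    g * siegel hF u w μ h * g⁻¹ = siegel hF (act g u) (act g w) μ (h.map g) := by
  apply ext_act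
  intro v
  rw [act_mul, act_mul, act_siegel, act_siegel, act_add, act_add, act_smul, act_smul,
    act_act_inv]
  have e1 : hermForm n F q (act g⁻¹ v) u = hermForm n F q v (act g u) := by
    rw [herm_act_left, inv_inv]
  have e2 : hermForm n F q (act g⁻¹ v) w = hermForm n F q v (act g w) := by
    rw [herm_act_left, inv_inv]
  rw [e1, e2]

omit [Fintype F] in
theorem IsSiegel.smul {u w : Fin n → F} {μ c : F}
    (h : IsSiegel q u w μ) : IsSiegel q (c • u) w μ :=
  ⟨by rw [herm_smul_left, herm_smul_right, h.iso]; ring,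
    by rw [herm_smul_right, h.orth, mul_zero], h.tr⟩

theorem IsSiegel.smul' (hF : Fintype.card F = q ^ 2) {u w : Fin n → F} {μ c : F}
    (h : IsSiegel q u w μ) : IsSiegel q u (c ^ q • w) (c * c ^ q * μ) := by
  refine ⟨h.iso, by rw [herm_smul_left, h.orth, mul_zero], ?_⟩
  rw [herm_smul_left, herm_smul_right, mul_pow, norm_pow_q hF, pow_q_pow_q hF]
  linear_combination (c * c ^ q) * h.tr

/-- Scaling of the isotropic vector. -/
theorem siegel_smul (hF : Fintype.card F = q ^ 2) {u w : Fin n → F} {μ c : F}
    (h : IsSiegel q u w μ) :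
    siegel hF (c • u) w μ h.smul = siegel hF u (c ^ q • w) (c * c ^ q * μ) (h.smul' hF) := by
  apply ext_act
  intro v
  rw [act_siegel, act_siegel]
  simp only [herm_smul_right, smul_smul, pow_q_pow_q hF]
  funext i
  simp only [Pi.add_apply, Pi.smul_apply, smul_eq_mul]
  ring

/-- If `v, v'` have the same norm and the same nonzero product with the isotropic vector `u`, some
Siegel transformation attached to `u` and a multiple of `v' - v` maps `v` to `v'`. -/
theorem exists_siegel_map (hF : Fintype.card F = q ^ 2) {u v v' : Fin n → F}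
    (hu : hermForm n F q u u = 0) (hvv : hermForm n F q v v = hermForm n F q v' v')
    (hvu : hermForm n F q v u = hermForm n F q v' u) (h0 : hermForm n F q v u ≠ 0) :
    ∃ (c μ : F) (h : IsSiegel q u (c • (v' - v)) μ),
      act (siegel hF u (c • (v' - v)) μ h) v = v' := by
  set a := hermForm n F q v u with ha
  have haq : a ^ q ≠ 0 := pow_ne_zero _ h0
  have hvd : hermForm n F q (v' - v) u = 0 := by
    rw [herm_sub_left, ← hvu, ha, sub_self]
  have hsw : (hermForm n F q v (v' - v)) ^ q = hermForm n F q (v' - v) v :=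
    (herm_swap hF v (v' - v)).symm
  have hsum : hermForm n F q v (v' - v) + hermForm n F q (v' - v) v +
      hermForm n F q (v' - v) (v' - v) = 0 := by
    simp only [herm_sub_left, herm_sub_right hF]
    rw [← hvv]; ring
  refine ⟨a⁻¹, hermForm n F q v (v' - v) / (a * a ^ q), ⟨hu, ?_, ?_⟩, ?_⟩
  · rw [herm_smul_left, hvd, mul_zero]
  · rw [div_pow, norm_pow_q hF, hsw, herm_smul_left, herm_smul_right, inv_pow]
    field_simp
    linear_combination hsum
  · rw [act_siegel, ← ha, herm_smul_right, inv_pow, smul_smul, mul_inv_cancel₀ h0, one_smul]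
    have : hermForm n F q v (v' - v) / (a * a ^ q) * a -
        (a ^ q)⁻¹ * hermForm n F q v (v' - v) = 0 := by
      field_simp
      ring
    rw [this, zero_smul, add_zero, add_sub_cancel]

end Siegel

end Cfsg.Agent.LieClassical.HermSiegel
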