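import Mathlib
import Cfsg.Agent.LieClassical.HermSiegel

/-!
# Transitivity of Siegel transformations, generation of `SU n F q`, `n ≥ 3`
-/

set_option autoImplicit false

namespace Cfsg.Agent.LieClassical.HermGen

open Cfsg Cfsg.Agent.LieClassical.HermBasic Cfsg.Agent.LieClassical.HermSiegel Matrix

variable {F : Type*} [Field F] {q n : ℕ}

/-- The coordinate subspace of vectors supported on the first `k` coordinates. -/
def coordSub (F : Type*) [Field F] (n k : ℕ) : Submodule F (Fin n → F) where
  carrier := {x | ∀ i : Fin n, k ≤ i.val → x i = 0}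
  zero_mem' := fun _ _ => rfl
  add_mem' := fun {x y} hx hy i hi => by rw [Pi.add_apply, hx i hi, hy i hi, add_zero]
  smul_mem' := fun c x hx i hi => by rw [Pi.smul_apply, hx i hi, smul_zero]

theorem mem_coordSub {k : ℕ} {x : Fin n → F} :
    x ∈ coordSub F n k ↔ ∀ i : Fin n, k ≤ i.val → x i = 0 := Iff.rfl

theorem single_mem_coordSub {k : ℕ} {i : Fin n} (hi : i.val < k) (a : F) :
    (Pi.single i a : Fin n → F) ∈ coordSub F n k := by
  intro j hj
  have : j ≠ i := by rintro rfl; omega
  exact Pi.single_eq_of_ne this _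

theorem mem_coordSub_top (x : Fin n → F) : x ∈ coordSub F n n :=
  fun i hi => absurd i.isLt (by omega)

/-- The elements fixing the basis vectors from the `k`-th on. -/
def fixGrp (k : ℕ) : Subgroup (SU n F q) where
  carrier := {g | ∀ i : Fin n, k ≤ i.val → act g (Pi.single i 1) = Pi.single i 1}
  one_mem' := fun _ _ => act_one _
  mul_mem' := fun {g h} hg hh i hi => by rw [act_mul, hh i hi, hg i hi]
  inv_mem' := fun {g} hg i hi => by
    have := hg i hi
    rw [act_eq_iff] at this
    exact this.symm

theorem mem_fixGrp {k : ℕ} {g : SU n F q} :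
    g ∈ fixGrp k ↔ ∀ i : Fin n, k ≤ i.val → act g (Pi.single i 1) = Pi.single i 1 := Iff.rfl

theorem mem_fixGrp_top (g : SU n F q) : g ∈ fixGrp n :=
  fun i hi => absurd i.isLt (by omega)

variable [Fintype F]

theorem act_mem_coordSub (hF : Fintype.card F = q ^ 2) {k : ℕ} {g : SU n F q}
    (hg : g ∈ fixGrp k) {v : Fin n → F} (hv : v ∈ coordSub F n k) :
    act g v ∈ coordSub F n k := by
  intro i hi
  have h1 : hermForm n F q (act g v) (Pi.single i 1) = 0 := by
    rw [← hg i hi, herm_act, herm_single_right hF, hv i hi, zero_mul]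
  rwa [herm_single_right hF, one_pow, mul_one] at h1

/-- The subgroup generated by all Siegel transformations. -/
def siegelGroup (hF : Fintype.card F = q ^ 2) (n : ℕ) : Subgroup (SU n F q) :=
  Subgroup.closure {g | ∃ (u w : Fin n → F) (μ : F) (h : IsSiegel q u w μ), g = siegel hF u w μ h}

theorem siegel_mem (hF : Fintype.card F = q ^ 2) {u w : Fin n → F} {μ : F}
    (h : IsSiegel q u w μ) : siegel hF u w μ h ∈ siegelGroup hF n :=
  Subgroup.subset_closure ⟨u, w, μ, h, rfl⟩

theorem siegel_mem_fixGrp (hF : Fintype.card F = q ^ 2) {k : ℕ} {u w : Fin n → F} {μ : F}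
    (h : IsSiegel q u w μ) (hu : u ∈ coordSub F n k) (hw : w ∈ coordSub F n k) :
    siegel hF u w μ h ∈ fixGrp k := by
  intro i hi
  apply act_siegel_of_orth
  · rw [herm_single_left, hu i hi, zero_pow_q hF, mul_zero]
  · rw [herm_single_left, hw i hi, zero_pow_q hF, mul_zero]

theorem siegel_mem_inf (hF : Fintype.card F = q ^ 2) {k : ℕ} {u w : Fin n → F} {μ : F}
    (h : IsSiegel q u w μ) (hu : u ∈ coordSub F n k) (hw : w ∈ coordSub F n k) :
    siegel hF u w μ h ∈ siegelGroup hF n ⊓ fixGrp k :=
  ⟨siegel_mem hF h, siegel_mem_fixGrp hF h hu hw⟩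

/-- Correct a vector by a multiple of an isotropic vector to make it isotropic. -/
theorem exists_iso_correct (hF : Fintype.card F = q ^ 2) {u x : Fin n → F}
    (hu : hermForm n F q u u = 0) (hux : hermForm n F q u x ≠ 0) :
    ∃ t : F, hermForm n F q (x + t • u) (x + t • u) = 0 := by
  obtain ⟨τ, hτ⟩ := exists_trace_eq hF (c := -hermForm n F q x x)
    (by rw [neg_pow_q hF, herm_self_pow hF])
  refine ⟨τ / hermForm n F q u x, ?_⟩
  have hsw : hermForm n F q x u = hermForm n F q u x ^ q := herm_swap hF u x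
  have h0 : hermForm n F q u x ^ q ≠ 0 := pow_ne_zero _ hux
  simp only [herm_add_left, herm_add_right hF, herm_smul_left, herm_smul_right, hu, hsw, div_pow]
  field_simp
  linear_combination (hermForm n F q u x * hermForm n F q u x ^ q) * hτ

/-- Two nonzero vectors in the coordinate subspace have a common non-orthogonal vector there. -/
theorem exists_common (hF : Fintype.card F = q ^ 2) {k : ℕ} {u u' : Fin n → F}
    (hu : u ∈ coordSub F n k) (hu' : u' ∈ coordSub F n k) (h0 : u ≠ 0) (h0' : u' ≠ 0) :
    ∃ x ∈ coordSub F n k, hermForm n F q u x ≠ 0 ∧ hermForm n F q u' x ≠ 0 := by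
  have key : ∀ v : Fin n → F, v ∈ coordSub F n k → v ≠ 0 →
      ∃ x ∈ coordSub F n k, hermForm n F q v x ≠ 0 := by
    intro v hv hv0
    obtain ⟨i, hi⟩ := Function.ne_iff.1 hv0
    have hik : i.val < k := by
      by_contra hcon
      exact hi (hv i (by omega))
    refine ⟨Pi.single i 1, single_mem_coordSub hik 1, ?_⟩
    rw [herm_single_right hF, one_pow, mul_one]
    exact hi
  obtain ⟨x, hx, hux⟩ := key u hu h0
  obtain ⟨y, hy, huy⟩ := key u' hu' h0'
  by_cases h1 : hermForm n F q u' x = 0
  · by_cases h2 : hermForm n F q u y = 0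
    · refine ⟨x + y, Submodule.add_mem _ hx hy, ?_, ?_⟩
      · rwa [herm_add_right hF, h2, add_zero]
      · rwa [herm_add_right hF, h1, zero_add]
    · exact ⟨y, hy, h2, huy⟩
  · exact ⟨x, hx, hux, h1⟩

/-- Orthogonal isotropic vectors have a common non-orthogonal isotropic vector. -/
theorem exists_iso_common (hF : Fintype.card F = q ^ 2) {k : ℕ} {u u' : Fin n → F}
    (hu : u ∈ coordSub F n k) (hu' : u' ∈ coordSub F n k) (h0 : u ≠ 0) (h0' : u' ≠ 0)
    (hiu : hermForm n F q u u = 0) (huu' : hermForm n F q u u' = 0) :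
    ∃ z ∈ coordSub F n k, hermForm n F q z z = 0 ∧ hermForm n F q u z ≠ 0 ∧
      hermForm n F q u' z ≠ 0 := by
  obtain ⟨x, hx, hux, hu'x⟩ := exists_common hF hu hu' h0 h0'
  obtain ⟨t, ht⟩ := exists_iso_correct hF hiu hux
  refine ⟨x + t • u, Submodule.add_mem _ hx (Submodule.smul_mem _ _ hu), ht, ?_, ?_⟩
  · rwa [herm_add_right hF, herm_smul_right, hiu, mul_zero, add_zero]
  · rwa [herm_add_right hF, herm_smul_right, herm_eq_zero_swap hF huu', mul_zero, add_zero]

/-- In dimension at least three there is a nonzero vector orthogonal to two given vectors. -/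
theorem exists_ne_zero_perp (hF : Fintype.card F = q ^ 2) {k : ℕ} (hk : 3 ≤ k) (hkn : k ≤ n)
    (u u' : Fin n → F) :
    ∃ x ∈ coordSub F n k, x ≠ 0 ∧ hermForm n F q x u = 0 ∧ hermForm n F q x u' = 0 := by
  -- embedding of `F^3`
  let ι : Fin 3 → Fin n := fun j => ⟨j.val, by omega⟩
  let e : (Fin 3 → F) →ₗ[F] (Fin n → F) :=
    { toFun := fun a => ∑ j, Pi.single (ι j) (a j)
      map_add' := fun a b => by
        rw [← Finset.sum_add_distrib]
        exact Finset.sum_congr rfl fun j _ => by rw [Pi.add_apply, Pi.single_add]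
      map_smul' := fun c a => by
        rw [RingHom.id_apply, Finset.smul_sum]
        exact Finset.sum_congr rfl fun j _ => by rw [Pi.smul_apply, Pi.single_smul] }
  let f : (Fin 3 → F) →ₗ[F] (Fin 2 → F) :=
    { toFun := fun a => ![hermForm n F q (e a) u, hermForm n F q (e a) u']
      map_add' := fun a b => by
        rw [map_add, herm_add_left, herm_add_left]
        funext i; fin_cases i <;> rfl
      map_smul' := fun c a => by
        rw [map_smul, herm_smul_left, herm_smul_left]
        funext i; fin_cases i <;> rfl }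
  have hker : LinearMap.ker f ≠ ⊥ := by
    apply LinearMap.ker_ne_bot_of_finrank_lt
    simp
  obtain ⟨a, ha, ha0⟩ := (Submodule.ne_bot_iff _).1 hker
  rw [LinearMap.mem_ker] at ha
  have hval : ∀ j : Fin 3, e a (ι j) = a j := by
    intro j
    change (∑ j', Pi.single (ι j') (a j') : Fin n → F) (ι j) = a j
    rw [Finset.sum_apply, Finset.sum_eq_single j]
    · exact Pi.single_eq_same _ _
    · intro b _ hb
      apply Pi.single_eq_of_ne
      intro h
      apply hb
      have h2 : (ι j).val = (ι b).val := by rw [h]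
      have h3 : j.val = b.val := h2
      exact (Fin.ext h3).symm
    · intro h; exact absurd (Finset.mem_univ _) h
  refine ⟨e a, ?_, ?_, congrFun ha 0, congrFun ha 1⟩
  · change (∑ j, Pi.single (ι j) (a j) : Fin n → F) ∈ coordSub F n k
    refine Submodule.sum_mem _ fun j _ => single_mem_coordSub ?_ _
    change j.val < k
    have := j.isLt
    omega
  · intro h
    apply ha0
    funext j
    rw [← hval j, h]
    rfl

/-- Vectors of every norm orthogonal to a hyperbolic pair, in dimension at least three. -/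
theorem exists_perp (hF : Fintype.card F = q ^ 2) {k : ℕ} (hk : 3 ≤ k) (hkn : k ≤ n)
    {u u' : Fin n → F} (hu : u ∈ coordSub F n k) (hu' : u' ∈ coordSub F n k)
    (hiu : hermForm n F q u u = 0) (hiu' : hermForm n F q u' u' = 0)
    (ht : hermForm n F q u u' ≠ 0) {c : F} (hc : c ^ q = c) :
    ∃ r ∈ coordSub F n k, hermForm n F q r u = 0 ∧ hermForm n F q r u' = 0 ∧
      hermForm n F q r r = c := by
  have hsw : hermForm n F q u' u = hermForm n F q u u' ^ q := herm_swap hF u u'
  have ht' : hermForm n F q u' u ≠ 0 := by rw [hsw]; exact pow_ne_zero _ ht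
  suffices H : ∃ s ∈ coordSub F n k, hermForm n F q s u = 0 ∧ hermForm n F q s u' = 0 ∧
      hermForm n F q s s ≠ 0 by
    obtain ⟨s, hs, hsu, hsu', hss⟩ := H
    obtain ⟨y, hy⟩ := exists_norm_eq hF (c := c / hermForm n F q s s)
      (by rw [div_pow, hc, herm_self_pow hF])
    refine ⟨y • s, Submodule.smul_mem _ _ hs, ?_, ?_, ?_⟩
    · rw [herm_smul_left, hsu, mul_zero]
    · rw [herm_smul_left, hsu', mul_zero]
    · rw [herm_smul_left, herm_smul_right, ← mul_assoc, hy, div_mul_cancel₀ _ hss]
  by_contra hcon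
  push Not at hcon
  obtain ⟨x, hx, hx0, hxu, hxu'⟩ := exists_ne_zero_perp (q := q) hF hk hkn u u'
  -- the projection
  let P : (Fin n → F) → (Fin n → F) := fun y =>
    y - (hermForm n F q y u' / hermForm n F q u u') • u -
      (hermForm n F q y u / hermForm n F q u' u) • u'
  have hPu : ∀ y, hermForm n F q (P y) u = 0 := by
    intro y
    simp only [P, herm_sub_left, herm_smul_left, hiu, mul_zero, sub_zero]
    rw [div_mul_cancel₀ _ ht', sub_self]
  have hPu' : ∀ y, hermForm n F q (P y) u' = 0 := by
    intro y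
    simp only [P, herm_sub_left, herm_smul_left, hiu', mul_zero, sub_zero]
    rw [div_mul_cancel₀ _ ht, sub_self]
  have hPW : ∀ y ∈ coordSub F n k, P y ∈ coordSub F n k := fun y hy =>
    Submodule.sub_mem _ (Submodule.sub_mem _ hy (Submodule.smul_mem _ _ hu))
      (Submodule.smul_mem _ _ hu')
  have hxP : ∀ y, hermForm n F q x (P y) = hermForm n F q x y := by
    intro y
    simp only [P, herm_sub_right hF, herm_smul_right, hxu, hxu', mul_zero, sub_zero]
  have hzero : ∀ y ∈ coordSub F n k, hermForm n F q x y = 0 := by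
    intro y hy
    rw [← hxP]
    apply eq_zero_of_forall_trace hF
    intro c
    have h1 := hcon (c • x + P y)
      (Submodule.add_mem _ (Submodule.smul_mem _ _ hx) (hPW y hy))
      (by rw [herm_add_left, herm_smul_left, hxu, hPu, mul_zero, add_zero])
      (by rw [herm_add_left, herm_smul_left, hxu', hPu', mul_zero, add_zero])
    have h2 := hcon x hx hxu hxu'
    have h3 := hcon (P y) (hPW y hy) (hPu y) (hPu' y)
    simp only [herm_add_left, herm_add_right hF, herm_smul_left, herm_smul_right, h2, h3] at h1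
    rw [mul_pow, ← herm_swap hF]
    linear_combination h1
  apply hx0
  funext i
  by_cases hik : i.val < k
  · have := hzero _ (single_mem_coordSub hik 1)
    rwa [herm_single_right hF, one_pow, mul_one] at this
  · exact hx i (by omega)

/-- Non-orthogonal isotropic vectors are in one orbit. -/
theorem exists_map_of_not_orth (hF : Fintype.card F = q ^ 2) {k : ℕ} (hk : 3 ≤ k) (hkn : k ≤ n)
    {u u' : Fin n → F} (hu : u ∈ coordSub F n k) (hu' : u' ∈ coordSub F n k)
    (hiu : hermForm n F q u u = 0) (hiu' : hermForm n F q u' u' = 0)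
    (ht : hermForm n F q u u' ≠ 0) :
    ∃ g ∈ siegelGroup hF n ⊓ fixGrp k, act g u = u' := by
  set t := hermForm n F q u u' with htdef
  have hsw : hermForm n F q u' u = t ^ q := herm_swap hF u u'
  have htq : t ^ q ≠ 0 := pow_ne_zero _ ht
  obtain ⟨r, hr, hru, hru', hrr⟩ := exists_perp hF hk hkn hu hu' hiu hiu' ht
    (c := -(t⁻¹ + (t ^ q)⁻¹))
    (by rw [neg_pow_q hF, add_pow_q hF, inv_pow, inv_pow, pow_q_pow_q hF, add_comm])
  -- the isotropic vector with equal products
  set z : Fin n → F := t⁻¹ • u + (t ^ q)⁻¹ • u' + r with hz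
  have huz : hermForm n F q u z = 1 := by
    rw [hz]
    simp only [herm_add_right hF, herm_smul_right, hiu, herm_eq_zero_swap hF hru, ← htdef,
      inv_pow, pow_q_pow_q hF]
    field_simp
    ring
  have hu'z : hermForm n F q u' z = 1 := by
    rw [hz]
    simp only [herm_add_right hF, herm_smul_right, hiu', herm_eq_zero_swap hF hru', hsw,
      inv_pow, pow_q_pow_q hF]
    field_simp
    ring
  have hzz : hermForm n F q z z = 0 := by
    conv_lhs => rw [hz, herm_add_left, herm_add_left, herm_smul_left, herm_smul_left, huz, hu'z]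
    have : hermForm n F q r z = hermForm n F q r r := by
      rw [hz]
      simp only [herm_add_right hF, herm_smul_right, hru, hru']
      ring
    rw [this, hrr]; ring
  have hzW : z ∈ coordSub F n k :=
    Submodule.add_mem _ (Submodule.add_mem _ (Submodule.smul_mem _ _ hu)
      (Submodule.smul_mem _ _ hu')) hr
  obtain ⟨c, μ, hs, hact⟩ := exists_siegel_map hF hzz (v := u) (v' := u') (by rw [hiu, hiu'])
    (by rw [huz, hu'z]) (by rw [huz]; exact one_ne_zero)
  exact ⟨_, siegel_mem_inf hF hs hzW
    (Submodule.smul_mem _ _ (Submodule.sub_mem _ hu' hu)), hact⟩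

/-- Transitivity on nonzero isotropic vectors. -/
theorem exists_map_iso (hF : Fintype.card F = q ^ 2) {k : ℕ} (hk : 3 ≤ k) (hkn : k ≤ n)
    {u u' : Fin n → F} (hu : u ∈ coordSub F n k) (hu' : u' ∈ coordSub F n k)
    (h0 : u ≠ 0) (h0' : u' ≠ 0)
    (hiu : hermForm n F q u u = 0) (hiu' : hermForm n F q u' u' = 0) :
    ∃ g ∈ siegelGroup hF n ⊓ fixGrp k, act g u = u' := by
  by_cases ht : hermForm n F q u u' = 0
  · obtain ⟨z, hz, hzz, huz, hu'z⟩ := exists_iso_common hF hu hu' h0 h0' hiu ht
    obtain ⟨g, hg, hgu⟩ := exists_map_of_not_orth hF hk hkn hu hz hiu hzz huz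
    obtain ⟨g', hg', hgu'⟩ := exists_map_of_not_orth hF hk hkn hu' hz hiu' hzz hu'z
    refine ⟨g'⁻¹ * g, Subgroup.mul_mem _ (Subgroup.inv_mem _ hg') hg, ?_⟩
    rw [act_mul, hgu, ← hgu', act_inv_act]
  · exact exists_map_of_not_orth hF hk hkn hu hu' hiu hiu' ht

/-- Transitivity on hyperbolic pairs. -/
theorem exists_map_hyp (hF : Fintype.card F = q ^ 2) {k : ℕ} (hk : 3 ≤ k) (hkn : k ≤ n)
    {u u' v v' : Fin n → F} (hu : u ∈ coordSub F n k) (hu' : u' ∈ coordSub F n k)
    (hv : v ∈ coordSub F n k) (hv' : v' ∈ coordSub F n k)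
    (hiu : hermForm n F q u u = 0) (hiu' : hermForm n F q u' u' = 0)
    (huu' : hermForm n F q u u' = 1)
    (hiv : hermForm n F q v v = 0) (hiv' : hermForm n F q v' v' = 0)
    (hvv' : hermForm n F q v v' = 1) :
    ∃ g ∈ siegelGroup hF n ⊓ fixGrp k, act g u = v ∧ act g u' = v' := by
  have hu0 : u ≠ 0 := by
    rintro rfl
    rw [herm_zero_left] at huu'
    exact zero_ne_one huu'
  have hv0 : v ≠ 0 := by
    rintro rfl
    rw [herm_zero_left] at hvv'
    exact zero_ne_one hvv'
  obtain ⟨g, hg, hgu⟩ := exists_map_iso hF hk hkn hu hv hu0 hv0 hiu hiv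
  have h1 : hermForm n F q (act g u') v = 1 := by
    rw [← hgu, herm_act, herm_swap hF u u', huu', one_pow]
  have h2 : hermForm n F q v' v = 1 := by
    rw [herm_swap hF v v', hvv', one_pow]
  obtain ⟨c, μ, hs, hact⟩ := exists_siegel_map hF hiv (v := act g u') (v' := v')
    (by rw [herm_act, hiu', hiv']) (by rw [h1, h2]) (by rw [h1]; exact one_ne_zero)
  have hW : c • (v' - act g u') ∈ coordSub F n k :=
    Submodule.smul_mem _ _ (Submodule.sub_mem _ hv' (act_mem_coordSub hF hg.2 hu'))
  refine ⟨siegel hF v (c • (v' - act g u')) μ hs * g,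
    Subgroup.mul_mem _ (siegel_mem_inf hF hs hv hW) hg, ?_, ?_⟩
  · rw [act_mul, hgu, act_siegel_self]
  · rw [act_mul, hact]

/-- The hyperbolic pair in the plane of two basis vectors. -/
theorem exists_hyp_pair (hF : Fintype.card F = q ^ 2) {i j : Fin n} (hij : i ≠ j) :
    ∃ (p p' : Fin n → F) (a b : F), a ≠ 0 ∧ p = Pi.single i 1 + a • Pi.single j 1 ∧
      p' = Pi.single i 1 + b • p ∧
      hermForm n F q p p = 0 ∧ hermForm n F q p' p' = 0 ∧ hermForm n F q p p' = 1 := by
  obtain ⟨a, ha0, ha⟩ := exists_norm_eq_ne hF (c := (-1 : F))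
    (by rw [neg_pow_q hF, one_pow]) (neg_ne_zero.2 one_ne_zero)
  obtain ⟨b, hb⟩ := exists_trace_eq hF (c := (-1 : F)) (by rw [neg_pow_q hF, one_pow])
  have hii : hermForm n F q (Pi.single i 1) (Pi.single i 1) = 1 := by
    rw [herm_single_right hF, Pi.single_eq_same]; simp
  have hjj : hermForm n F q (Pi.single j 1) (Pi.single j 1) = 1 := by
    rw [herm_single_right hF, Pi.single_eq_same]; simp
  have hij' : hermForm n F q (Pi.single i 1) (Pi.single j 1) = 0 := by
    rw [herm_single_right hF, Pi.single_eq_of_ne hij.symm]; simp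
  have hji' : hermForm n F q (Pi.single j 1) (Pi.single i 1) = 0 := by
    rw [herm_single_right hF, Pi.single_eq_of_ne hij]; simp
  set p : Fin n → F := Pi.single i 1 + a • Pi.single j 1 with hp
  have hpp : hermForm n F q p p = 0 := by
    rw [hp]
    simp only [herm_add_left, herm_add_right hF, herm_smul_left, herm_smul_right, hii, hjj,
      hij', hji']
    linear_combination ha
  have hpi : hermForm n F q p (Pi.single i 1) = 1 := by
    rw [hp, herm_add_left, herm_smul_left, hii, hji', mul_zero, add_zero]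
  have hip : hermForm n F q (Pi.single i 1) p = 1 := by
    rw [herm_swap hF p, hpi, one_pow]
  refine ⟨p, Pi.single i 1 + b • p, a, b, ha0, rfl, rfl, hpp, ?_, ?_⟩
  · simp only [herm_add_left, herm_add_right hF, herm_smul_left, herm_smul_right, hii, hpp,
      hpi, hip]
    linear_combination hb
  · rw [herm_add_right hF, herm_smul_right, hpi, hpp, mul_zero, add_zero]

/-- An element fixing all but one basis vector is trivial. -/
theorem eq_one_of_fix (hF : Fintype.card F = q ^ 2) (i : Fin n) {g : SU n F q}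
    (hg : ∀ j : Fin n, j ≠ i → act g (Pi.single j 1) = Pi.single j 1) : g = 1 := by
  have hcol : ∀ j : Fin n, j ≠ i → ∀ l, mat g l j = (1 : Matrix (Fin n) (Fin n) F) l j := by
    intro j hj l
    rw [← act_single, hg j hj, Matrix.one_apply, Pi.single_apply]
  have hi : ∀ l, l ≠ i → mat g l i = 0 := by
    intro l hl
    rw [← act_single]
    have h1 : hermForm n F q (act g (Pi.single i 1)) (Pi.single l 1) = 0 := by
      rw [← hg l hl, herm_act, herm_single_right hF, Pi.single_eq_of_ne hl]; simp
    rwa [herm_single_right hF, one_pow, mul_one] at h1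
  have hdiag : mat g = Matrix.diagonal (fun l => if l = i then mat g i i else 1) := by
    ext l j
    rw [Matrix.diagonal_apply]
    by_cases hj : j = i
    · subst hj
      by_cases hl : l = j
      · subst hl; simp
      · rw [if_neg hl]; exact hi l hl
    · rw [hcol j hj, Matrix.one_apply]
      by_cases hl : l = j
      · subst hl; simp [hj]
      · simp [hl]
  have hdet := det_mat g
  rw [hdiag, Matrix.det_diagonal, Finset.prod_ite_eq' Finset.univ i] at hdet
  simp only [Finset.mem_univ, if_true] at hdet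
  apply mat_injective
  rw [hdiag, hdet, mat_one]
  simp

/-- Generation: the elements fixing the basis vectors from the `k`-th on, `k ≥ 3`, are in the group
generated by Siegel transformations. -/
theorem fixGrp_le (hF : Fintype.card F = q ^ 2) {k : ℕ} (hk : 3 ≤ k) (hkn : k ≤ n) :
    (fixGrp k : Subgroup (SU n F q)) ≤ siegelGroup hF n := by
  induction k, hk using Nat.le_induction with
  | base =>
    intro g hg
    let i0 : Fin n := ⟨0, by omega⟩
    let i1 : Fin n := ⟨1, by omega⟩
    let i2 : Fin n := ⟨2, by omega⟩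
    have h01 : i0 ≠ i1 := by simp [i0, i1]
    obtain ⟨p, p', a, b, ha, hp, hp', hpp, hp'p', hpp'⟩ := exists_hyp_pair (q := q) hF h01
    have e0 : (Pi.single i0 1 : Fin n → F) ∈ coordSub F n 3 :=
      single_mem_coordSub (by simp [i0]) 1
    have e1 : (Pi.single i1 1 : Fin n → F) ∈ coordSub F n 3 :=
      single_mem_coordSub (by simp [i1]) 1
    have hpW : p ∈ coordSub F n 3 := by
      rw [hp]; exact Submodule.add_mem _ e0 (Submodule.smul_mem _ _ e1)
    have hp'W : p' ∈ coordSub F n 3 := by
      rw [hp']; exact Submodule.add_mem _ e0 (Submodule.smul_mem _ _ hpW)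
    obtain ⟨x, hx, hxp, hxp'⟩ := exists_map_hyp hF le_rfl hkn
      (act_mem_coordSub hF hg hpW) (act_mem_coordSub hF hg hp'W) hpW hp'W
      (by rw [herm_act, hpp]) (by rw [herm_act, hp'p']) (by rw [herm_act, hpp']) hpp hp'p' hpp'
    have hy : x * g = 1 := by
      rw [← act_mul] at hxp hxp'
      have f0 : act (x * g) (Pi.single i0 1) = Pi.single i0 1 := by
        have : (Pi.single i0 1 : Fin n → F) = p' - b • p := by rw [hp', add_sub_cancel_right]
        rw [this, act_sub, act_smul, hxp, hxp']
      have f1 : act (x * g) (Pi.single i1 1) = Pi.single i1 1 := by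
        have : (Pi.single i1 1 : Fin n → F) = a⁻¹ • (p - Pi.single i0 1) := by
          rw [hp, add_sub_cancel_left, smul_smul, inv_mul_cancel₀ ha, one_smul]
        rw [this, act_smul, act_sub, hxp, f0]
      apply eq_one_of_fix hF i2
      intro j hj
      by_cases hj3 : 3 ≤ j.val
      · exact (fixGrp 3).mul_mem hx.2 hg j hj3
      · have hj2 : j.val ≠ 2 := fun h => hj (Fin.ext h)
        have : j.val = 0 ∨ j.val = 1 := by omega
        rcases this with h | h
        · have : j = i0 := Fin.ext h
          rw [this]; exact f0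
        · have : j = i1 := Fin.ext h
          rw [this]; exact f1
    rw [mul_eq_one_iff_eq_inv'] at hy
    rw [hy]
    exact Subgroup.inv_mem _ hx.1
  | succ k hk ih =>
    intro g hg
    have ih' := ih (by omega)
    let i0 : Fin n := ⟨0, by omega⟩
    let i1 : Fin n := ⟨k, by omega⟩
    have h01 : i0 ≠ i1 := by simp [i0, i1]; omega
    obtain ⟨p, p', a, b, ha, hp, hp', hpp, hp'p', hpp'⟩ := exists_hyp_pair (q := q) hF h01
    have e0 : (Pi.single i0 1 : Fin n → F) ∈ coordSub F n (k + 1) :=
      single_mem_coordSub (by simp [i0]) 1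
    have e1 : (Pi.single i1 1 : Fin n → F) ∈ coordSub F n (k + 1) :=
      single_mem_coordSub (by simp [i1]) 1
    have hpW : p ∈ coordSub F n (k + 1) := by
      rw [hp]; exact Submodule.add_mem _ e0 (Submodule.smul_mem _ _ e1)
    have hp'W : p' ∈ coordSub F n (k + 1) := by
      rw [hp']; exact Submodule.add_mem _ e0 (Submodule.smul_mem _ _ hpW)
    obtain ⟨x, hx, hxp, hxp'⟩ := exists_map_hyp hF (by omega : 3 ≤ k + 1) hkn
      (act_mem_coordSub hF hg hpW) (act_mem_coordSub hF hg hp'W) hpW hp'W
      (by rw [herm_act, hpp]) (by rw [herm_act, hp'p']) (by rw [herm_act, hpp']) hpp hp'p' hpp'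
    have hy : x * g ∈ fixGrp k := by
      rw [← act_mul] at hxp hxp'
      have f0 : act (x * g) (Pi.single i0 1) = Pi.single i0 1 := by
        have : (Pi.single i0 1 : Fin n → F) = p' - b • p := by rw [hp', add_sub_cancel_right]
        rw [this, act_sub, act_smul, hxp, hxp']
      have f1 : act (x * g) (Pi.single i1 1) = Pi.single i1 1 := by
        have : (Pi.single i1 1 : Fin n → F) = a⁻¹ • (p - Pi.single i0 1) := by
          rw [hp, add_sub_cancel_left, smul_smul, inv_mul_cancel₀ ha, one_smul]
        rw [this, act_smul, act_sub, hxp, f0]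
      intro j hj
      by_cases hjk : j.val = k
      · have : j = i1 := Fin.ext hjk
        rw [this]; exact f1
      · exact (fixGrp (k + 1)).mul_mem hx.2 hg j (by omega)
    have hmem := ih' hy
    have : g = x⁻¹ * (x * g) := by group
    rw [this]
    exact Subgroup.mul_mem _ (Subgroup.inv_mem _ hx.1) hmem

/-- `SU n F q`, `n ≥ 3`, is generated by Siegel transformations. -/
theorem siegelGroup_eq_top (hF : Fintype.card F = q ^ 2) (hn : 3 ≤ n) :
    siegelGroup hF n = (⊤ : Subgroup (SU n F q)) := by
  rw [eq_top_iff]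
  intro g _
  exact fixGrp_le hF hn le_rfl (mem_fixGrp_top g)

end Cfsg.Agent.LieClassical.HermGen
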