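import Mathlib
import Cfsg.Agent.LieClassical.HermSimple
import Cfsg.Agent.LieClassical.SUBasic

/-!
# `SU n F q` is perfect for `n ≥ 3`, `(n, q) ≠ (3, 2)`
-/

set_option autoImplicit false

namespace Cfsg.Agent.LieClassical.HermPerfect

open Cfsg Cfsg.Agent.LieClassical.HermBasic Cfsg.Agent.LieClassical.HermSiegel
  Cfsg.Agent.LieClassical.HermGen Cfsg.Agent.LieClassical.HermSimple
  Cfsg.Agent.LieClassical.SUBasic Matrix
open scoped commutatorElement

variable {F : Type*} [Field F] {q n : ℕ}

theorem act_suDiag_single (a : Fin n → F) (hd : ∏ i, a i = 1) (ha : ∀ i, a i ^ (q + 1) = 1)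
    (i : Fin n) (x : F) :
    act (suDiag q a hd ha) (Pi.single i x) = a i • (Pi.single i x : Fin n → F) := by
  funext j
  rw [act, show mat (suDiag q a hd ha) = Matrix.diagonal a from rfl, Matrix.mulVec_diagonal,
    Pi.smul_apply, smul_eq_mul]
  by_cases hj : j = i
  · subst hj; rfl
  · rw [Pi.single_eq_of_ne hj, mul_zero, mul_zero]

variable [Fintype F]

/-- A suitable diagonal element. -/
theorem exists_diag (hF : Fintype.card F = q ^ 2) (hn : 3 ≤ n) (h32 : ¬ (n = 3 ∧ q = 2))
    {i0 i1 i : Fin n} (hi0 : i ≠ i0) (hi1 : i ≠ i1) :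
    ∃ (d : SU n F q) (α β : F), α * α ^ q = 1 ∧ α ^ q * β ≠ 1 ∧
      act d (Pi.single i0 1) = α • (Pi.single i0 1 : Fin n → F) ∧
      act d (Pi.single i1 1) = α • (Pi.single i1 1 : Fin n → F) ∧
      act d (Pi.single i 1) = β • (Pi.single i 1 : Fin n → F) := by
  classical
  have h2 := two_le hF
  by_cases hn4 : 4 ≤ n
  · obtain ⟨c, hc, hc1⟩ := exists_norm_one (q := q) hF
    have hc0 : c ≠ 0 := by
      rintro rfl
      rw [zero_pow (Nat.succ_ne_zero q)] at hc
      exact zero_ne_one hc
    obtain ⟨j, hj⟩ : ∃ j : Fin n, j ∉ ({i0, i1, i} : Finset (Fin n)) := by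
      by_contra hcon
      push Not at hcon
      have h1 : (Finset.univ : Finset (Fin n)).card ≤ ({i0, i1, i} : Finset (Fin n)).card :=
        Finset.card_le_card fun k _ => hcon k
      have h2 : ({i0, i1, i} : Finset (Fin n)).card ≤ 3 := Finset.card_le_three
      rw [Finset.card_univ, Fintype.card_fin] at h1
      omega
    simp only [Finset.mem_insert, Finset.mem_singleton, not_or] at hj
    obtain ⟨hj0, hj1, hji⟩ := hj
    set a : Fin n → F := fun m => if m = i then c else if m = j then c⁻¹ else 1 with ha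
    have hprod : ∏ m, a m = 1 := by
      rw [← Finset.mul_prod_erase Finset.univ a (Finset.mem_univ i),
        ← Finset.mul_prod_erase (Finset.univ.erase i) a
          (Finset.mem_erase.2 ⟨hji, Finset.mem_univ j⟩)]
      have h1 : ∏ x ∈ (Finset.univ.erase i).erase j, a x = 1 := by
        refine Finset.prod_eq_one fun x hx => ?_
        rw [Finset.mem_erase, Finset.mem_erase] at hx
        simp [ha, hx.1, hx.2.1]
      rw [h1]
      simp [ha, hji, hc0]
    have hnorm : ∀ m, a m ^ (q + 1) = 1 := by
      intro m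
      simp only [ha]
      split_ifs
      · exact hc
      · rw [inv_pow, hc, inv_one]
      · exact one_pow _
    refine ⟨suDiag q a hprod hnorm, 1, c, by simp, by simpa using hc1, ?_, ?_, ?_⟩
    · rw [act_suDiag_single]; simp [ha, Ne.symm hi0, Ne.symm hj0]
    · rw [act_suDiag_single]; simp [ha, Ne.symm hi1, Ne.symm hj1]
    · rw [act_suDiag_single]; simp [ha]
  · have hn3 : n = 3 := by omega
    have hq3 : 3 ≤ q := by
      by_contra hcon
      exact h32 ⟨hn3, by omega⟩
    -- an element of norm one with cube different from one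
    obtain ⟨α, hα, hα3⟩ : ∃ α : F, α * α ^ q = 1 ∧ α ^ 3 ≠ 1 := by
      by_contra hcon
      push Not at hcon
      have hle : Nat.card {x : F // x * x ^ q = 1} ≤ 3 := by
        have hsub : ∀ x : {x : F // x * x ^ q = 1}, x.1 ∈ (Polynomial.nthRoots 3 (1 : F)).toFinset := by
          intro x
          rw [Multiset.mem_toFinset, Polynomial.mem_nthRoots (by norm_num)]
          exact hcon x.1 x.2
        have h1 : Nat.card {x : F // x * x ^ q = 1} ≤
            Nat.card (Polynomial.nthRoots 3 (1 : F)).toFinset :=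
          Nat.card_le_card_of_injective
            (fun x => (⟨x.1, hsub x⟩ : (Polynomial.nthRoots 3 (1 : F)).toFinset))
            (fun x y h => Subtype.ext (congrArg (fun z => z.1) h))
        refine h1.trans ?_
        rw [Nat.card_eq_fintype_card, Fintype.card_coe]
        exact (Multiset.toFinset_card_le _).trans (Polynomial.card_nthRoots 3 1)
      rw [card_norm_eq_one hF] at hle
      omega
    have hα0 : α ≠ 0 := by
      rintro rfl
      rw [zero_mul] at hα
      exact zero_ne_one hα
    have hαq : α ^ q = α⁻¹ := eq_inv_of_mul_eq_one_right hα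
    set a : Fin n → F := fun m => if m = i then (α ^ 2)⁻¹ else α with ha
    have hprod : ∏ m, a m = 1 := by
      rw [← Finset.mul_prod_erase Finset.univ a (Finset.mem_univ i)]
      have h1 : ∏ x ∈ Finset.univ.erase i, a x = α ^ 2 := by
        have h2 : ∀ x ∈ Finset.univ.erase i, a x = α := by
          intro x hx
          rw [Finset.mem_erase] at hx
          simp [ha, hx.1]
        rw [Finset.prod_congr rfl h2, Finset.prod_const, Finset.card_erase_of_mem
          (Finset.mem_univ i), Finset.card_univ, Fintype.card_fin, hn3]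
      rw [h1]
      simp [ha, hα0]
    have hα' : α ^ (q + 1) = 1 := by rw [pow_succ']; exact hα
    have hnorm : ∀ m, a m ^ (q + 1) = 1 := by
      intro m
      simp only [ha]
      split_ifs
      · rw [inv_pow, ← pow_mul, mul_comm, pow_mul, hα', one_pow, inv_one]
      · exact hα'
    refine ⟨suDiag q a hprod hnorm, α, (α ^ 2)⁻¹, hα, ?_, ?_, ?_, ?_⟩
    · rw [hαq]
      intro h
      apply hα3
      have : α⁻¹ * (α ^ 2)⁻¹ = (α ^ 3)⁻¹ := by rw [← mul_inv]; ring_nf
      rw [this] at h
      exact inv_eq_one.1 h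
    · rw [act_suDiag_single]; simp [ha, Ne.symm hi0]
    · rw [act_suDiag_single]; simp [ha, Ne.symm hi1]
    · rw [act_suDiag_single]; simp [ha]

/-- The Siegel transformations of the isotropic vector `e_{i0} + a e_{i1}` are in the commutator
subgroup. -/
theorem siegel_mem_commutator_aux (hF : Fintype.card F = q ^ 2) (hn : 3 ≤ n)
    (h32 : ¬ (n = 3 ∧ q = 2)) {i0 i1 : Fin n} (h01 : i0 ≠ i1) {a : F} {p : Fin n → F}
    (hp : p = Pi.single i0 1 + a • Pi.single i1 1) (hpp : hermForm n F q p p = 0)
    {w : Fin n → F} {μ : F} (h : IsSiegel q p w μ) :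
    siegel hF p w μ h ∈ commutator (SU n F q) := by
  classical
  set C := commutator (SU n F q) with hC
  have hcomm : ∀ x y : SU n F q, ⁅x, y⁆ ∈ C := fun x y =>
    Subgroup.commutator_mem_commutator (Subgroup.mem_top x) (Subgroup.mem_top y)
  -- products with `p`
  have hpr : ∀ v : Fin n → F, hermForm n F q v p = v i0 + v i1 * a ^ q := by
    intro v
    rw [hp, herm_add_right hF, herm_smul_right, herm_single_right hF, herm_single_right hF]
    simp only [one_pow, mul_one]
    ring
  have haa : a * a ^ q = -1 := by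
    have h1 := hpr p
    rw [hpp, hp] at h1
    simp only [Pi.add_apply, Pi.smul_apply, Pi.single_eq_same, Pi.single_eq_of_ne h01,
      Pi.single_eq_of_ne h01.symm, smul_eq_mul, mul_one, mul_zero, add_zero, zero_add] at h1
    linear_combination -h1
  have hnorm : ∀ w : Fin n → F, hermForm n F q w p = 0 → ∃ μ : F, IsSiegel q p w μ := by
    intro w hw
    obtain ⟨μ, hμ⟩ := exists_trace_eq hF (c := -hermForm n F q w w)
      (by rw [neg_pow_q hF, herm_self_pow hF])
    exact ⟨μ, hpp, hw, by rw [hμ]; ring⟩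
  have hei : ∀ i : Fin n, i ≠ i0 → i ≠ i1 → ∀ c : F,
      hermForm n F q (c • Pi.single i 1) p = 0 := by
    intro i h0 h1 c
    rw [hpr, Pi.smul_apply, Pi.smul_apply, Pi.single_eq_of_ne (Ne.symm h0),
      Pi.single_eq_of_ne (Ne.symm h1)]
    simp
  -- a third index
  obtain ⟨k, hk⟩ : ∃ k : Fin n, k ∉ ({i0, i1} : Finset (Fin n)) := by
    by_contra hcon
    push Not at hcon
    have h1 : (Finset.univ : Finset (Fin n)).card ≤ ({i0, i1} : Finset (Fin n)).card :=
      Finset.card_le_card fun k _ => hcon k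
    have h2 : ({i0, i1} : Finset (Fin n)).card ≤ 2 := Finset.card_le_two
    rw [Finset.card_univ, Fintype.card_fin] at h1
    omega
  simp only [Finset.mem_insert, Finset.mem_singleton, not_or] at hk
  -- (1) transvections
  have step1 : ∀ (κ : F) (hs : IsSiegel q p 0 κ), siegel hF p 0 κ hs ∈ C := by
    intro κ hs
    have hκ : κ + κ ^ q = 0 := by
      have := hs.tr
      rwa [herm_zero_left, add_zero] at this
    obtain ⟨t, ht⟩ := exists_trace_eq hF (c := (1 : F)) (one_pow q)
    have h1 := hei k hk.1 hk.2 1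
    have h2 := hei k hk.1 hk.2 (-(κ * t))
    obtain ⟨μ₁, hs₁⟩ := hnorm _ h1
    obtain ⟨μ₂, hs₂⟩ := hnorm _ h2
    have h3 := commutator_siegel hF hs₁ hs₂
    have hkk : hermForm n F q (Pi.single k 1) (Pi.single k 1) = 1 := by
      rw [herm_single_right hF, Pi.single_eq_same]; simp
    have h4 : siegel hF p 0 κ hs = ⁅siegel hF p _ μ₁ hs₁, siegel hF p _ μ₂ hs₂⁆ := by
      rw [h3]
      apply siegel_congr
      · rfl
      · rfl
      · simp only [herm_smul_left, herm_smul_right, hkk, neg_pow_q hF, mul_pow, one_pow]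
        linear_combination (t ^ q) * hκ - κ * ht
    rw [h4]
    exact hcomm _ _
  -- (2) change of `μ`
  have step2 : ∀ (w : Fin n → F) (μ μ' : F) (hs : IsSiegel q p w μ) (hs' : IsSiegel q p w μ'),
      siegel hF p w μ hs ∈ C → siegel hF p w μ' hs' ∈ C := by
    intro w μ μ' hs hs' hmem
    have hs0 : IsSiegel q p 0 (μ' - μ) := by
      refine ⟨hpp, herm_zero_left p, ?_⟩
      rw [herm_zero_left, sub_pow_q hF]
      linear_combination hs'.tr - hs.tr
    have h1 : siegel hF p w μ' hs' = siegel hF p w μ hs * siegel hF p 0 (μ' - μ) hs0 := by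
      rw [siegel_mul]
      apply siegel_congr
      · rfl
      · rw [add_zero]
      · rw [herm_zero_left]; ring
    rw [h1]
    exact C.mul_mem hmem (step1 _ hs0)
  -- the property `P`
  let P : (Fin n → F) → Prop := fun w => ∃ (μ : F) (hs : IsSiegel q p w μ),
    siegel hF p w μ hs ∈ C
  have hP0 : P 0 := ⟨0, IsSiegel.zero hF hpp, by rw [siegel_zero]; exact C.one_mem⟩
  have hPadd : ∀ w w', P w → P w' → P (w + w') := by
    rintro w w' ⟨μ, hs, hm⟩ ⟨μ', hs', hm'⟩
    exact ⟨_, hs.mul hF hs', by rw [← siegel_mul hF hs hs']; exact C.mul_mem hm hm'⟩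
  have hPp : ∀ c : F, P (c • p) := by
    intro c
    have h1 : hermForm n F q (c • p) p = 0 := by rw [herm_smul_left, hpp, mul_zero]
    have hs : IsSiegel q p (c • p) (c ^ q - c) := by
      refine ⟨hpp, h1, ?_⟩
      rw [herm_smul_right, h1, sub_pow_q hF, pow_q_pow_q hF]
      ring
    refine ⟨_, hs, ?_⟩
    have h2 : siegel hF p (c • p) (c ^ q - c) hs = 1 := by
      apply ext_act
      intro v
      rw [act_siegel, act_one, herm_smul_right]
      funext l
      simp only [Pi.add_apply, Pi.smul_apply, smul_eq_mul]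
      ring
    rw [h2]
    exact C.one_mem
  have hPe : ∀ (i : Fin n), i ≠ i0 → i ≠ i1 → ∀ c : F, P (c • Pi.single i 1) := by
    intro i h0 h1 c
    obtain ⟨d, α, β, hα, hαβ, hd0, hd1, hdi⟩ := exists_diag (q := q) hF hn h32 h0 h1
    set c' := c / (α ^ q * β - 1) with hc'
    have hne : α ^ q * β - 1 ≠ 0 := sub_ne_zero.2 hαβ
    obtain ⟨μ, hs⟩ := hnorm _ (hei i h0 h1 c')
    have hdp : act d p = α • p := by
      rw [hp, act_add, act_smul, hd0, hd1, smul_add, smul_comm]
    have hdw : act d (c' • Pi.single i 1) = β • (c' • Pi.single i 1) := by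
      rw [act_smul, hdi, smul_comm]
    have e1 : ⁅d, siegel hF p _ μ hs⁆ = siegel hF (act d p) (act d (c' • Pi.single i 1)) μ
        (hs.map d) * siegel hF p _ _ (hs.inv hF) := by
      rw [commutatorElement_def, conj_siegel, siegel_inv]
    have hs2 : IsSiegel q p (β • (c' • Pi.single i 1)) μ := by
      have h3 := hs.map d
      rw [hdp, hdw] at h3
      refine ⟨hpp, ?_, h3.tr⟩
      rw [herm_smul_left, hs.orth, mul_zero]
    have e2 : siegel hF (act d p) (act d (c' • Pi.single i 1)) μ (hs.map d) =
        siegel hF (α • p) (β • (c' • Pi.single i 1)) μ hs2.smul :=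
      siegel_congr hF _ _ hdp hdw rfl
    have e3 : siegel hF (α • p) (β • (c' • Pi.single i 1)) μ hs2.smul =
        siegel hF p (α ^ q • β • (c' • Pi.single i 1)) (α * α ^ q * μ) (hs2.smul' hF) :=
      siegel_smul hF hs2
    have e4 : ⁅d, siegel hF p _ μ hs⁆ ∈ C := hcomm _ _
    rw [e1, e2, e3, siegel_mul] at e4
    have hw : α ^ q • β • (c' • Pi.single i 1) + -(c' • Pi.single i 1) =
        (c • Pi.single i 1 : Fin n → F) := by
      rw [smul_smul, smul_smul, ← neg_smul, ← add_smul]
      congr 1
      rw [hc']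
      field_simp
      ring
    have hs4 : IsSiegel q p (c • Pi.single i 1) (α * α ^ q * μ + μ ^ q -
        hermForm n F q (-(c' • Pi.single i 1)) (α ^ q • β • (c' • Pi.single i 1))) := by
      rw [← hw]
      exact (hs2.smul' hF).mul hF (hs.inv hF)
    refine ⟨_, hs4, ?_⟩
    rw [siegel_congr hF hs4 ((hs2.smul' hF).mul hF (hs.inv hF)) rfl hw.symm rfl]
    exact e4
  have hPsum : ∀ s : Finset (Fin n), i0 ∉ s → i1 ∉ s →
      P (∑ i ∈ s, w i • Pi.single i 1) := by
    intro s
    induction s using Finset.induction_on with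
    | empty => intro _ _; simpa using hP0
    | insert j s hj ih =>
      intro h0 h1
      rw [Finset.mem_insert, not_or] at h0 h1
      rw [Finset.sum_insert hj]
      exact hPadd _ _ (hPe j (Ne.symm h0.1) (Ne.symm h1.1) _) (ih h0.2 h1.2)
  have hwdec : w = w i0 • p + ∑ i ∈ (Finset.univ.erase i0).erase i1, w i • Pi.single i 1 := by
    funext j
    have hsum : ∀ j : Fin n, (∑ i ∈ (Finset.univ.erase i0).erase i1,
        w i • (Pi.single i 1 : Fin n → F)) j = if j = i0 ∨ j = i1 then 0 else w j := by
      intro j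
      rw [Finset.sum_apply]
      split_ifs with hj
      · apply Finset.sum_eq_zero
        intro x hx
        rw [Finset.mem_erase, Finset.mem_erase] at hx
        have : j ≠ x := by
          rintro rfl
          rcases hj with h | h
          · exact hx.2.1 h
          · exact hx.1 h
        rw [Pi.smul_apply, Pi.single_eq_of_ne this, smul_zero]
      · rw [not_or] at hj
        rw [Finset.sum_eq_single j]
        · simp
        · intro b _ hb
          rw [Pi.smul_apply, Pi.single_eq_of_ne hb.symm, smul_zero]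
        · intro h
          exact absurd (Finset.mem_erase.2 ⟨hj.2, Finset.mem_erase.2 ⟨hj.1, Finset.mem_univ _⟩⟩) h
    rw [Pi.add_apply, hsum j, Pi.smul_apply, smul_eq_mul]
    have hp0 : p i0 = 1 := by
      rw [hp, Pi.add_apply, Pi.smul_apply, Pi.single_eq_same, Pi.single_eq_of_ne h01]; simp
    have hp1 : p i1 = a := by
      rw [hp, Pi.add_apply, Pi.smul_apply, Pi.single_eq_same, Pi.single_eq_of_ne h01.symm]; simp
    by_cases hj0 : j = i0
    · subst hj0
      rw [hp0]; simp
    · by_cases hj1 : j = i1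
      · subst hj1
        rw [hp1]
        simp only [or_true, if_true, add_zero]
        have h1 := h.orth
        rw [hpr] at h1
        linear_combination (w j) * haa - a * h1
      · rw [if_neg (by rw [not_or]; exact ⟨hj0, hj1⟩)]
        have : p j = 0 := by
          rw [hp, Pi.add_apply, Pi.smul_apply, Pi.single_eq_of_ne hj0, Pi.single_eq_of_ne hj1]
          simp
        rw [this]; ring
  have hPw : P w := by
    rw [hwdec]
    exact hPadd _ _ (hPp _) (hPsum _ (by simp) (by simp))
  obtain ⟨μ', hs', hm'⟩ := hPw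
  exact step2 w μ' μ hs' h hm'

/-- All Siegel transformations are in the commutator subgroup, `n ≥ 3`, `(n, q) ≠ (3, 2)`. -/
theorem siegel_mem_commutator (hF : Fintype.card F = q ^ 2) (hn : 3 ≤ n)
    (h32 : ¬ (n = 3 ∧ q = 2)) {u w : Fin n → F} {μ : F} (h : IsSiegel q u w μ) :
    siegel hF u w μ h ∈ commutator (SU n F q) := by
  by_cases hu0 : u = 0
  · have : siegel hF u w μ h = 1 := by
      apply ext_act
      intro v
      rw [act_siegel, act_one]
      subst hu0
      rw [herm_zero_right hF]
      simp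
    rw [this]
    exact Subgroup.one_mem _
  let i0 : Fin n := ⟨0, by omega⟩
  let i1 : Fin n := ⟨1, by omega⟩
  have h01 : i0 ≠ i1 := by simp [i0, i1]
  obtain ⟨p, p', a, b, ha, hp, hp', hpp, hp'p', hpp'⟩ := exists_hyp_pair (q := q) hF h01
  have hp0 : p ≠ 0 := by
    rintro h
    rw [h, herm_zero_left] at hpp'
    exact zero_ne_one hpp'
  obtain ⟨x, -, hx⟩ := exists_map_iso hF hn le_rfl (mem_coordSub_top u) (mem_coordSub_top p)
    hu0 hp0 h.iso hpp
  have hs' : IsSiegel q p (act x w) μ := by
    have := h.map x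
    rwa [hx] at this
  have h1 : x * siegel hF u w μ h * x⁻¹ = siegel hF p (act x w) μ hs' := by
    rw [conj_siegel]
    exact siegel_congr hF _ _ hx rfl rfl
  have h2 : siegel hF u w μ h = x⁻¹ * siegel hF p (act x w) μ hs' * x⁻¹⁻¹ := by
    rw [← h1]; group
  rw [h2]
  have hnorm : (commutator (SU n F q)).Normal := inferInstance
  exact hnorm.conj_mem _ (siegel_mem_commutator_aux hF hn h32 h01 hp hpp hs') _

/-- `SU n F q` is perfect for `n ≥ 3`, `(n, q) ≠ (3, 2)`. -/
theorem commutator_SU_eq_top (hF : Fintype.card F = q ^ 2) (hn : 3 ≤ n)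
    (h32 : ¬ (n = 3 ∧ q = 2)) : commutator (SU n F q) = ⊤ := by
  rw [eq_top_iff, ← siegelGroup_eq_top hF hn, siegelGroup, Subgroup.closure_le]
  rintro _ ⟨u, w, μ, h, rfl⟩
  exact siegel_mem_commutator hF hn h32 h

/-- Normal subgroups of `SU n F q`, `n ≥ 3`, `(n, q) ≠ (3, 2)`: central or everything. -/
theorem normal_eq_top (hF : Fintype.card F = q ^ 2) (hn : 3 ≤ n)
    (h32 : ¬ (n = 3 ∧ q = 2)) {N : Subgroup (SU n F q)} [N.Normal]
    (hNc : ¬ N ≤ Subgroup.center (SU n F q)) : N = ⊤ :=
  normal_eq_top_of_perfect hF hn (commutator_SU_eq_top hF hn h32) hNc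

end Cfsg.Agent.LieClassical.HermPerfect
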