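import Mathlib

set_option autoImplicit false

namespace Cfsg.Agent.LieClassical.SmallIso

open Matrix

/-- A colouring `c : Ω → ι → Bool` of a `G`-set which separates the points of `ι` and which is
permuted by generators of `G` gives a homomorphism `G →* Perm ι`. -/
theorem exists_hom_of_coloring {G ι Ω : Type*} [Group G] [MulAction G Ω] (c : Ω → ι → Bool)
    (hc : ∀ i j, (∀ v, c v i = c v j) → i = j) (S : Set G) (hS : Subgroup.closure S = ⊤)
    (h : ∀ s ∈ S, ∃ π : Equiv.Perm ι, ∀ v i, c (s • v) (π i) = c v i) :
    ∃ φ : G →* Equiv.Perm ι, ∀ g v i, c (g • v) (φ g i) = c v i := by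
  have key : ∀ g : G, ∃ π : Equiv.Perm ι, ∀ v i, c (g • v) (π i) = c v i := by
    intro g
    have hg : g ∈ Subgroup.closure S := by rw [hS]; trivial
    induction hg using Subgroup.closure_induction with
    | mem x hx => exact h x hx
    | one => exact ⟨1, fun v i => by simp⟩
    | mul x y _ _ hx hy =>
      obtain ⟨p, hp⟩ := hx
      obtain ⟨q, hq⟩ := hy
      refine ⟨p * q, fun v i => ?_⟩
      rw [mul_smul, Equiv.Perm.mul_apply, hp, hq]
    | inv x _ hx =>
      obtain ⟨p, hp⟩ := hx
      refine ⟨p⁻¹, fun v i => ?_⟩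
      have := hp (x⁻¹ • v) (p⁻¹ i)
      rw [smul_inv_smul] at this
      rw [← this]
      simp
  have uniq : ∀ g : G, ∀ π π' : Equiv.Perm ι, (∀ v i, c (g • v) (π i) = c v i) →
      (∀ v i, c (g • v) (π' i) = c v i) → π = π' := by
    intro g π π' h1 h2
    ext i
    refine hc _ _ fun v => ?_
    have h1' := h1 (g⁻¹ • v) i
    have h2' := h2 (g⁻¹ • v) i
    rw [smul_inv_smul] at h1' h2'
    rw [h1', h2']
  choose f hf using key
  refine ⟨MonoidHom.mk' f fun x y => uniq (x * y) _ _ (hf _) fun v i => ?_, hf⟩
  rw [mul_smul, Equiv.Perm.mul_apply, hf, hf]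

/-- A finite group of order `n!/2` with an injective hom to `Perm (Fin n)` is `A_n`. -/
theorem nonempty_equiv_alternating_of_injective {G : Type*} [Group G] {n : ℕ}
    (φ : G →* Equiv.Perm (Fin n)) (hφ : Function.Injective φ) (hcard : 2 * Nat.card G = n.factorial)
    : Nonempty (G ≃* alternatingGroup (Fin n)) := by
  have hG : 0 < Nat.card G := by
    rcases Nat.eq_zero_or_pos (Nat.card G) with h | h
    · rw [h] at hcard; exact absurd hcard.symm (Nat.factorial_ne_zero n)
    · exact h
  have e : G ≃* φ.range := MonoidHom.ofInjective hφ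
  have hidx : φ.range.index = 2 := by
    have h1 := φ.range.card_mul_index
    rw [← Nat.card_congr e.toEquiv, Nat.card_perm, Nat.card_fin, ← hcard, mul_comm 2] at h1
    exact Nat.eq_of_mul_eq_mul_left hG h1
  have := Equiv.Perm.eq_alternatingGroup_of_index_eq_two hidx
  exact ⟨e.trans (MulEquiv.subgroupCongr this)⟩

theorem card_sl_two (K : Type*) [Field K] [Fintype K] :
    Nat.card (SpecialLinearGroup (Fin 2) K) = Fintype.card K * (Fintype.card K ^ 2 - 1) := by
  classical
  set q := Fintype.card K with hq
  have hq1 : 1 < q := Fintype.one_lt_card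
  have h1 := Matrix.card_GL_field (𝔽 := K) 2
  have h2 : Nat.card (GL (Fin 2) K) = Nat.card Kˣ * Nat.card (SpecialLinearGroup (Fin 2) K) := by
    have hsurj : Function.Surjective (Matrix.GeneralLinearGroup.det : GL (Fin 2) K →* Kˣ) := by
      intro u
      refine ⟨GeneralLinearGroup.mkOfDetNeZero !![(u : K), 0; 0, 1] (by simp), ?_⟩
      ext
      simp [GeneralLinearGroup.mkOfDetNeZero]
    have hker : Nat.card (Matrix.GeneralLinearGroup.det : GL (Fin 2) K →* Kˣ).ker =
        Nat.card (SpecialLinearGroup (Fin 2) K) := by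
      refine (Nat.card_congr ?_).symm
      refine Equiv.ofBijective (fun g => ⟨(g : GL (Fin 2) K), ?_⟩) ⟨?_, ?_⟩
      · rw [MonoidHom.mem_ker]; ext; simp
      · intro a b hab
        ext i j
        have := congrArg (fun x : (Matrix.GeneralLinearGroup.det : GL (Fin 2) K →* Kˣ).ker =>
          ((x : GL (Fin 2) K) : Matrix (Fin 2) (Fin 2) K) i j) hab
        simpa using this
      · rintro ⟨g, hg⟩
        rw [MonoidHom.mem_ker] at hg
        refine ⟨⟨(g : Matrix (Fin 2) (Fin 2) K), ?_⟩, ?_⟩
        · have := congrArg Units.val hg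
          simpa using this
        · apply Subtype.ext
          ext i j
          rfl
    rw [← Subgroup.card_mul_index (Matrix.GeneralLinearGroup.det : GL (Fin 2) K →* Kˣ).ker,
      Subgroup.index_ker, MonoidHom.range_eq_top.2 hsurj, hker, mul_comm]
    simp
  rw [h2] at h1
  rw [Fin.prod_univ_two] at h1
  have h3 : Nat.card Kˣ = q - 1 := by rw [Nat.card_units, Nat.card_eq_fintype_card]
  rw [h3] at h1
  simp only [Fin.val_zero, pow_zero, Fin.val_one, pow_one] at h1
  have h4 : q ^ 2 - q = (q - 1) * q := by rw [Nat.sub_mul, pow_two, one_mul]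
  rw [← hq, h4] at h1
  have h5 : 0 < q - 1 := by omega
  apply Nat.eq_of_mul_eq_mul_left h5
  rw [h1]; ring

theorem mem_center_sl_two_iff {K : Type*} [Field K] (g : SpecialLinearGroup (Fin 2) K) :
    g ∈ Subgroup.center (SpecialLinearGroup (Fin 2) K) ↔ g = 1 ∨ g = -1 := by
  rw [Matrix.SpecialLinearGroup.mem_center_iff]
  constructor
  · rintro ⟨r, hr, hg⟩
    rw [Fintype.card_fin, sq_eq_one_iff] at hr
    rcases hr with rfl | rfl
    · left
      apply Subtype.ext
      rw [← hg]; simp
    · right
      apply Subtype.ext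
      rw [← hg]; ext i j; fin_cases i <;> fin_cases j <;> simp
  · rintro (rfl | rfl)
    · exact ⟨1, by simp, by simp⟩
    · exact ⟨-1, by simp, by ext i j; fin_cases i <;> fin_cases j <;> simp⟩

theorem card_center_sl_two (K : Type*) [Field K] (h2 : (2 : K) ≠ 0) :
    Nat.card (Subgroup.center (SpecialLinearGroup (Fin 2) K)) = 2 := by
  have h : (Subgroup.center (SpecialLinearGroup (Fin 2) K) :
      Set (SpecialLinearGroup (Fin 2) K)) = {1, -1} := by
    ext g
    simp [mem_center_sl_two_iff]
  have hne : (1 : SpecialLinearGroup (Fin 2) K) ≠ -1 := by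
    intro h
    have := congrArg (fun x : SpecialLinearGroup (Fin 2) K => x.1 0 0) h
    simp at this
    apply h2
    linear_combination this
  change Nat.card ((Subgroup.center (SpecialLinearGroup (Fin 2) K) :
      Set (SpecialLinearGroup (Fin 2) K))) = 2
  rw [h, Nat.card_coe_set_eq, Set.ncard_pair hne]

theorem card_psl_two (K : Type*) [Field K] [Fintype K] (h2 : (2 : K) ≠ 0) :
    2 * Nat.card (ProjectiveSpecialLinearGroup (Fin 2) K) =
      Fintype.card K * (Fintype.card K ^ 2 - 1) := by
  rw [← card_sl_two, ← Subgroup.card_mul_index (Subgroup.center (SpecialLinearGroup (Fin 2) K)),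
    card_center_sl_two K h2]
  rfl

theorem map_center_of_mulEquiv {G H : Type*} [Group G] [Group H] (f : G ≃* H) :
    (Subgroup.center G).map (f : G →* H) = Subgroup.center H := by
  ext x
  simp only [Subgroup.mem_map, Subgroup.mem_center_iff]
  constructor
  · rintro ⟨y, hy, rfl⟩ g
    have := congrArg f (hy (f.symm g))
    simpa using this
  · intro hx
    refine ⟨f.symm x, fun g => ?_, by simp⟩
    have := congrArg f.symm (hx (f g))
    simpa using this

/-- `PSL_n` is functorial in ring isomorphisms. -/
noncomputable def pslCongr {F K : Type*} [CommRing F] [CommRing K] (n : Type*) [Fintype n]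
    [DecidableEq n] (e : F ≃+* K) :
    ProjectiveSpecialLinearGroup n F ≃* ProjectiveSpecialLinearGroup n K :=
  let f : SpecialLinearGroup n F ≃* SpecialLinearGroup n K :=
    { toFun := SpecialLinearGroup.map (e : F →+* K)
      invFun := SpecialLinearGroup.map (e.symm : K →+* F)
      left_inv := fun g => by ext i j; simp
      right_inv := fun g => by ext i j; simp
      map_mul' := map_mul _ }
  QuotientGroup.congr _ _ f (map_center_of_mulEquiv f)

/-- A nontrivial homomorphism from `SL_2(K)` to `Perm (Fin n)` killing `-1` gives an isomorphism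
`PSL_2(K) ≅ A_n` if the orders agree. -/
theorem nonempty_psl_two_equiv {K : Type*} [Field K] [Fintype K] (h4 : 4 ≤ Fintype.card K)
    (h2 : (2 : K) ≠ 0) {n : ℕ}
    (hcard : Fintype.card K * (Fintype.card K ^ 2 - 1) = n.factorial)
    (φ : SpecialLinearGroup (Fin 2) K →* Equiv.Perm (Fin n)) (h1 : φ (-1) = 1)
    (hne : ∃ g, φ g ≠ 1) :
    Nonempty (ProjectiveSpecialLinearGroup (Fin 2) K ≃* alternatingGroup (Fin n)) := by
  have hsimple : IsSimpleGroup (ProjectiveSpecialLinearGroup (Fin 2) K) :=
    Matrix.ProjectiveSpecialLinearGroup.rank_two_simple (by rwa [Nat.card_eq_fintype_card])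
  have hle : Subgroup.center (SpecialLinearGroup (Fin 2) K) ≤ φ.ker := by
    intro g hg
    rw [MonoidHom.mem_ker]
    rcases (mem_center_sl_two_iff g).1 hg with rfl | rfl
    · exact map_one φ
    · exact h1
  let ψ : ProjectiveSpecialLinearGroup (Fin 2) K →* Equiv.Perm (Fin n) :=
    QuotientGroup.lift _ φ hle
  have hψ : Function.Injective ψ := by
    rw [← MonoidHom.ker_eq_bot_iff]
    rcases (inferInstance : ψ.ker.Normal).eq_bot_or_eq_top with h | h
    · exact h
    · exfalso
      obtain ⟨g, hg⟩ := hne
      apply hg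
      have : (QuotientGroup.mk g : ProjectiveSpecialLinearGroup (Fin 2) K) ∈ ψ.ker := by
        rw [h]; trivial
      exact this
  exact nonempty_equiv_alternating_of_injective ψ hψ (by rw [card_psl_two K h2, hcard])

theorem upper_smul {K : Type*} [CommRing K] (b : K) (v : Fin 2 → K) :
    (Matrix.SpecialLinearGroup.transvection (zero_ne_one : (0 : Fin 2) ≠ 1) b) • v =
      ![v 0 + b * v 1, v 1] := by
  rw [Matrix.SpecialLinearGroup.smul_def, Matrix.SpecialLinearGroup.transvection_coe]
  funext i
  fin_cases i <;> simp [add_mulVec]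

theorem lower_smul {K : Type*} [CommRing K] (b : K) (v : Fin 2 → K) :
    (Matrix.SpecialLinearGroup.transvection (one_ne_zero : (1 : Fin 2) ≠ 0) b) • v =
      ![v 0, v 1 + b * v 0] := by
  rw [Matrix.SpecialLinearGroup.smul_def, Matrix.SpecialLinearGroup.transvection_coe]
  funext i
  fin_cases i <;> simp [add_mulVec, add_comm]

/-- The upper and lower transvections with parameters in a set `B`. -/
def transSet {K : Type*} [CommRing K] (B : Set K) : Set (SpecialLinearGroup (Fin 2) K) :=
  {g | ∃ b ∈ B, g = Matrix.SpecialLinearGroup.transvection (zero_ne_one : (0 : Fin 2) ≠ 1) b ∨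
    g = Matrix.SpecialLinearGroup.transvection (one_ne_zero : (1 : Fin 2) ≠ 0) b}

/-- `SL_2(K)` is generated by the upper and lower transvections with parameters in a set of
additive generators of `K`. -/
theorem closure_transSet {K : Type*} [Field K] {B : Set K} (hB : AddSubgroup.closure B = ⊤) :
    Subgroup.closure (transSet B) = ⊤ := by
  have key : ∀ (i j : Fin 2) (h : i ≠ j) (c : K),
      Matrix.SpecialLinearGroup.transvection h c ∈ Subgroup.closure (transSet B) := by
    intro i j h c
    have hc : c ∈ AddSubgroup.closure B := by rw [hB]; trivial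
    induction hc using AddSubgroup.closure_induction with
    | mem b hb =>
      apply Subgroup.subset_closure
      refine ⟨b, hb, ?_⟩
      fin_cases i <;> fin_cases j
      · exact absurd rfl h
      · exact Or.inl rfl
      · exact Or.inr rfl
      · exact absurd rfl h
    | zero =>
      rw [Matrix.SpecialLinearGroup.transvection_coeff_zero]
      exact one_mem _
    | add x y _ _ hx hy =>
      rw [Matrix.SpecialLinearGroup.transvection_add]
      exact mul_mem hx hy
    | neg x _ hx =>
      rw [← Matrix.SpecialLinearGroup.transvection_inv]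
      exact inv_mem hx
  rw [eq_top_iff]
  intro A _
  exact Matrix.SL2.transvection_induction (fun A => A ∈ Subgroup.closure (transSet B)) key
    (fun _ _ => mul_mem) A

end Cfsg.Agent.LieClassical.SmallIso
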