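import Mathlib
import Cfsg.Agent.LieClassical.DicksonWeak
import Cfsg.Agent.Solvable.UniqueOrderP

/-!
# Sylow `2`-subgroups of subgroups of `SL₂(F)`, `F` a field of characteristic not `2`

Every finite `2`-subgroup of `SL₂(F)` is cyclic or generalised quaternion (`-1` is the only
involution of `SL₂(F)`), and it is generalised quaternion as soon as the ambient subgroup contains
two non-commuting elements `i, j` of order dividing `4` with `j i j⁻¹ = i⁻¹`.
-/

set_option autoImplicit false

namespace Cfsg.Agent.LieClassical.SLTwoSylowTwo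

open Matrix
open Cfsg.Agent.LieClassical.SLTwoUnipotent
open Cfsg.Agent.LieClassical.DicksonWeak

theorem coe_neg_one {F : Type*} [Field F] :
    ((-1 : SpecialLinearGroup (Fin 2) F) : Matrix (Fin 2) (Fin 2) F) = !![-1, 0; 0, -1] := by
  have h : ((-1 : SpecialLinearGroup (Fin 2) F) : Matrix (Fin 2) (Fin 2) F) =
      -(1 : Matrix (Fin 2) (Fin 2) F) := rfl
  rw [h, Matrix.one_fin_two]
  simp

/-- Over a field of characteristic not `2`, the only element `g ≠ 1` of `SL₂(F)` with `g² = 1`
is `-1`. -/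
theorem eq_neg_one_of_sq {F : Type*} [Field F] (h2 : (2 : F) ≠ 0)
    (g : SpecialLinearGroup (Fin 2) F) (h1 : g ≠ 1) (h : g ^ 2 = 1) : g = -1 := by
  have hg := Matrix.eta_fin_two (g : Matrix (Fin 2) (Fin 2) F)
  have hdet : g 0 0 * g 1 1 - g 0 1 * g 1 0 = 1 := by
    rw [← Matrix.det_fin_two, g.det_coe]
  have hsq : (g : Matrix (Fin 2) (Fin 2) F) * (g : Matrix (Fin 2) (Fin 2) F) = 1 := by
    rw [pow_two] at h
    have := congrArg (fun B : SpecialLinearGroup (Fin 2) F => (B : Matrix (Fin 2) (Fin 2) F)) h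
    exact this
  obtain ⟨a, ha⟩ : ∃ a, a = g 0 0 := ⟨_, rfl⟩
  obtain ⟨b, hb⟩ : ∃ b, b = g 0 1 := ⟨_, rfl⟩
  obtain ⟨c, hc⟩ : ∃ c, c = g 1 0 := ⟨_, rfl⟩
  obtain ⟨d, hd⟩ : ∃ d, d = g 1 1 := ⟨_, rfl⟩
  rw [← ha, ← hb, ← hc, ← hd] at hg hdet
  rw [hg, Matrix.mul_fin_two, Matrix.one_fin_two] at hsq
  have e00 := congrFun (congrFun hsq 0) 0
  have e01 := congrFun (congrFun hsq 0) 1
  have e10 := congrFun (congrFun hsq 1) 0
  have e11 := congrFun (congrFun hsq 1) 1
  simp only [of_apply, cons_val', cons_val_zero, cons_val_one, empty_val', cons_val_fin_one] at e00 e01 e10 e11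
  have htr : a + d ≠ 0 := by
    intro h0
    have : (2 : F) = 0 := by
      have hd' : d = -a := by linear_combination h0
      rw [hd'] at hdet
      linear_combination (-1 : F) * e00 - hdet
    exact h2 this
  have hb0 : b = 0 := by
    have : b * (a + d) = 0 := by linear_combination e01
    exact (mul_eq_zero.1 this).resolve_right htr
  have hc0 : c = 0 := by
    have : c * (a + d) = 0 := by linear_combination e10
    exact (mul_eq_zero.1 this).resolve_right htr
  rw [hb0, hc0] at e00 e11 hdet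
  have had : a = d := by
    have h3 : (a - d) * (a + d) = 0 := by linear_combination e00 - e11
    exact sub_eq_zero.1 ((mul_eq_zero.1 h3).resolve_right htr)
  have ha1 : (a - 1) * (a + 1) = 0 := by linear_combination e00
  rcases mul_eq_zero.1 ha1 with h3 | h3
  · exfalso
    apply h1
    have ha' : a = 1 := sub_eq_zero.1 h3
    apply Subtype.ext
    rw [hg, hb0, hc0, ← had, ha', ← Matrix.one_fin_two]
    rfl
  · have ha' : a = -1 := by linear_combination h3
    apply Subtype.ext
    rw [hg, hb0, hc0, ← had, ha']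
    exact coe_neg_one.symm

/-- In odd characteristic `SL₂(F_p)` contains a quaternion pair. -/
theorem exists_quaternion_pair (p : ℕ) [Fact p.Prime] (hp : p ≠ 2) :
    ∃ i j : SpecialLinearGroup (Fin 2) (ZMod p),
      i ^ 4 = 1 ∧ j ^ 4 = 1 ∧ j * i * j⁻¹ = i⁻¹ ∧ i * j ≠ j * i := by
  obtain ⟨a, b, hab⟩ := ZMod.sq_add_sq p (-1)
  have h2 : (2 : ZMod p) ≠ 0 := by
    intro h
    apply hp
    have h3 : ((2 : ℕ) : ZMod p) = 0 := by exact_mod_cast h
    rw [ZMod.natCast_eq_zero_iff] at h3
    exact (Nat.prime_dvd_prime_iff_eq Fact.out Nat.prime_two).1 h3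
  let i : SpecialLinearGroup (Fin 2) (ZMod p) := ⟨!![0, 1; -1, 0], by
    rw [Matrix.det_fin_two_of]; ring⟩
  let j : SpecialLinearGroup (Fin 2) (ZMod p) := ⟨!![a, b; b, -a], by
    rw [Matrix.det_fin_two_of]; linear_combination -hab⟩
  have hi : (i : Matrix (Fin 2) (Fin 2) (ZMod p)) = !![0, 1; -1, 0] := rfl
  have hj : (j : Matrix (Fin 2) (Fin 2) (ZMod p)) = !![a, b; b, -a] := rfl
  have hi2 : i * i = -1 := by
    apply Subtype.ext
    refine Eq.trans ?_ coe_neg_one.symm
    rw [SLTwoUnipotent.coe_mul, hi, Matrix.mul_fin_two]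
    simp
  have hj2 : j * j = -1 := by
    apply Subtype.ext
    refine Eq.trans ?_ coe_neg_one.symm
    rw [SLTwoUnipotent.coe_mul, hj, Matrix.mul_fin_two]
    ext r s
    fin_cases r <;> fin_cases s
    · simp; linear_combination hab
    · simp; ring
    · simp; ring
    · simp; linear_combination hab
  have hij : j * i = -(i * j) := by
    apply Subtype.ext
    rw [SpecialLinearGroup.coe_neg, SLTwoUnipotent.coe_mul, SLTwoUnipotent.coe_mul, hi, hj,
      Matrix.mul_fin_two, Matrix.mul_fin_two]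
    simp
  have hi4 : i ^ 4 = 1 := by
    rw [show (4 : ℕ) = 2 * 2 from rfl, pow_mul, pow_two i, hi2]
    simp
  have hj4 : j ^ 4 = 1 := by
    rw [show (4 : ℕ) = 2 * 2 from rfl, pow_mul, pow_two j, hj2]
    simp
  refine ⟨i, j, hi4, hj4, ?_, ?_⟩
  · rw [mul_inv_eq_iff_eq_mul, hij]
    have : i⁻¹ = -i := by
      rw [inv_eq_iff_mul_eq_one, mul_neg, hi2, neg_neg]
    rw [this, neg_mul]
  · intro h
    rw [hij] at h
    have h3 := congrArg (fun z : SpecialLinearGroup (Fin 2) (ZMod p) => z * (i * j)⁻¹) h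
    simp only [mul_inv_cancel, neg_mul] at h3
    have h4 := congrArg (fun z : SpecialLinearGroup (Fin 2) (ZMod p) => z 0 0) h3
    simp at h4
    apply h2
    linear_combination h4

/-- A finite group with a non-commuting pair of elements generating a `2`-group of quaternion
shape has non-cyclic Sylow `2`-subgroups. -/
theorem not_isCyclic_sylow {G : Type*} [Group G] [Finite G] (S : Sylow 2 G) {i j : G}
    (hi : i ^ 4 = 1) (hj : j ^ 4 = 1) (hij : j * i * j⁻¹ = i⁻¹) (hne : i * j ≠ j * i) :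
    ¬ IsCyclic (S : Subgroup G) := by
  intro hcyc
  have h2g : ∀ k : G, k ^ 4 = 1 → IsPGroup 2 (Subgroup.zpowers k) := by
    intro k hk
    have : Nat.card (Subgroup.zpowers k) ∣ 2 ^ 2 := by
      rw [Nat.card_zpowers]
      exact orderOf_dvd_of_pow_eq_one (by simpa using hk)
    obtain ⟨n, _, hn⟩ := (Nat.dvd_prime_pow Nat.prime_two).1 this
    exact IsPGroup.of_card hn
  have hnorm : Subgroup.zpowers j ≤ Subgroup.normalizer (Subgroup.zpowers i : Set G) := by
    rw [Subgroup.zpowers_le, Subgroup.mem_normalizer_iff]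
    have key : ∀ h : G, h ∈ Subgroup.zpowers i → j * h * j⁻¹ ∈ Subgroup.zpowers i := by
      rintro _ ⟨n, rfl⟩
      change j * i ^ n * j⁻¹ ∈ _
      rw [← MulAut.conj_apply, map_zpow, MulAut.conj_apply, hij]
      exact Subgroup.zpow_mem _ (Subgroup.inv_mem _ (Subgroup.mem_zpowers i)) n
    have key4 : ∀ n : ℕ, ∀ h : G, h ∈ Subgroup.zpowers i →
        j ^ n * h * (j ^ n)⁻¹ ∈ Subgroup.zpowers i := by
      intro n
      induction n with
      | zero => intro h hh; simpa using hh
      | succ n ih =>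
        intro h hh
        have := key _ (ih h hh)
        rw [pow_succ']
        simpa [mul_assoc] using this
    intro h
    refine ⟨key h, fun hh => ?_⟩
    have h3 := key4 3 _ hh
    have e : j ^ 3 * (j * h * j⁻¹) * (j ^ 3)⁻¹ = h := by
      calc j ^ 3 * (j * h * j⁻¹) * (j ^ 3)⁻¹ = j ^ 4 * h * (j ^ 4)⁻¹ := by group
        _ = h := by rw [hj]; simp
    rwa [e] at h3
  have hQ : IsPGroup 2 (Subgroup.zpowers j ⊔ Subgroup.zpowers i : Subgroup G) :=
    (h2g j hj).to_sup_of_normal_right' (h2g i hi) hnorm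
  obtain ⟨T, hT⟩ := hQ.exists_le_sylow
  have e : T ≃* S := T.equiv S
  have hcomm : ∀ a b : T, a * b = b * a := by
    have : IsCyclic T := isCyclic_of_surjective e.symm.toMonoidHom e.symm.surjective
    intro a b
    let _ : CommGroup T := IsCyclic.commGroup
    exact mul_comm a b
  apply hne
  have hiT : i ∈ T := hT (Subgroup.mem_sup_right (Subgroup.mem_zpowers i))
  have hjT : j ∈ T := hT (Subgroup.mem_sup_left (Subgroup.mem_zpowers j))
  have := congrArg (fun z : T => (z : G)) (hcomm ⟨i, hiT⟩ ⟨j, hjT⟩)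
  simpa using this

/-- Sylow `2`-subgroups of subgroups of `SL₂(F)` are cyclic or generalised quaternion. -/
theorem sylow_two_cyclic_or_quaternion {F : Type*} [Field F] (h2 : (2 : F) ≠ 0)
    (H : Subgroup (SpecialLinearGroup (Fin 2) F)) [Finite H] (S : Subgroup H) (hS : IsPGroup 2 S) :
    IsCyclic S ∨ ∃ m : ℕ, m ≠ 0 ∧ Nonempty (S ≃* QuaternionGroup (2 ^ m)) := by
  have hinv : ∀ x : S, x ≠ 1 → x ^ 2 = 1 → ((x : H) : SpecialLinearGroup (Fin 2) F) = -1 := by
    intro x hx hx2
    apply eq_neg_one_of_sq h2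
    · intro h
      exact hx (Subtype.ext (Subtype.ext h))
    · exact congrArg (fun z : S => ((z : H) : SpecialLinearGroup (Fin 2) F)) hx2
  have hU : Cfsg.Agent.Solvable.UniqueOrderP.UniqueP 2 S := by
    intro x y hx hx2 hy2
    by_cases hy : y = 1
    · rw [hy]; exact one_mem _
    · have : y = x := Subtype.ext (Subtype.ext ((hinv y hy hy2).trans (hinv x hx hx2).symm))
      rw [this]
      exact Subgroup.mem_zpowers x
  rcases Cfsg.Agent.Solvable.UniqueOrderP.cyclic_or_quaternion hS hU with h | ⟨_, h⟩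
  · exact Or.inl h
  · exact Or.inr h

/-- A subgroup of `SL₂(F)`, `F` a field of odd characteristic `p`, with more than one Sylow
`p`-subgroup has generalised quaternion Sylow `2`-subgroups. -/
theorem sylow_two_quaternion {F : Type*} [Field F] (p : ℕ) [Fact p.Prime] [CharP F p] (hp : p ≠ 2)
    (H : Subgroup (SpecialLinearGroup (Fin 2) F)) [Finite H] (hH : 1 < Nat.card (Sylow p H))
    (S : Sylow 2 H) :
    ∃ k : ℕ, 1 ≤ k ∧ Nonempty ((S : Subgroup H) ≃* QuaternionGroup (2 ^ k)) := by
  obtain ⟨K, hK, ⟨e⟩⟩ := exists_subgroup_equiv p hp H hH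
  obtain ⟨i, j, hi, hj, hij, hne⟩ := exists_quaternion_pair p hp
  have h2 : (2 : F) ≠ 0 := by
    intro h
    have h3 : ((2 : ℕ) : F) = 0 := by exact_mod_cast h
    rw [CharP.cast_eq_zero_iff F p] at h3
    exact hp ((Nat.prime_dvd_prime_iff_eq Fact.out Nat.prime_two).1 h3)
  let f : SpecialLinearGroup (Fin 2) (ZMod p) →* H :=
    (Subgroup.inclusion hK).comp e.symm.toMonoidHom
  have hf : Function.Injective f := (Subgroup.inclusion_injective hK).comp e.symm.injective
  have hnc : ¬ IsCyclic (S : Subgroup H) := by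
    refine not_isCyclic_sylow S (i := f i) (j := f j) ?_ ?_ ?_ ?_
    · rw [← map_pow, hi, map_one]
    · rw [← map_pow, hj, map_one]
    · rw [← map_mul, ← map_inv, ← map_mul, hij, map_inv]
    · rw [← map_mul, ← map_mul]
      exact fun h => hne (hf h)
  obtain ⟨m, hm, hm'⟩ := (sylow_two_cyclic_or_quaternion h2 H S S.2).resolve_left hnc
  exact ⟨m, Nat.one_le_iff_ne_zero.2 hm, hm'⟩

end Cfsg.Agent.LieClassical.SLTwoSylowTwo
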