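import Mathlib

/-!
The centre of the symplectic group over a field.
-/

set_option autoImplicit false

namespace Cfsg.Agent.LieClassical.SympCenter

open Matrix

universe u

variable {F : Type u} [Field F]

theorem upper_mem (m : ℕ) {T : Matrix (Fin m) (Fin m) F} (hT : T.transpose = T) :
    fromBlocks 1 T 0 1 ∈ symplecticGroup (Fin m) F := by
  rw [SymplecticGroup.fromBlocks_mem_iff]
  simp [hT]

theorem lower_mem (m : ℕ) {T : Matrix (Fin m) (Fin m) F} (hT : T.transpose = T) :
    fromBlocks 1 0 T 1 ∈ symplecticGroup (Fin m) F := by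
  rw [SymplecticGroup.fromBlocks_mem_iff]
  simp [hT]

/-- A matrix commuting with all upper and lower unitriangular block symplectic matrices is scalar. -/
theorem scalar_of_commute (m : ℕ) (A : Matrix (Fin m ⊕ Fin m) (Fin m ⊕ Fin m) F)
    (hU : ∀ T : Matrix (Fin m) (Fin m) F, T.transpose = T →
      A * fromBlocks 1 T 0 1 = fromBlocks 1 T 0 1 * A)
    (hL : ∀ T : Matrix (Fin m) (Fin m) F, T.transpose = T →
      A * fromBlocks 1 0 T 1 = fromBlocks 1 0 T 1 * A) :
    ∃ a : F, A = a • 1 := by
  obtain ⟨P, Q, R, S, rfl⟩ : ∃ P Q R S, A = fromBlocks P Q R S :=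
    ⟨_, _, _, _, (fromBlocks_toBlocks A).symm⟩
  simp only [fromBlocks_multiply, fromBlocks_inj] at hU hL
  simp only [Matrix.mul_one, Matrix.one_mul, Matrix.mul_zero, Matrix.zero_mul, add_zero,
    zero_add] at hU hL
  have hR : R = 0 := by simpa using (hU 1 (by simp)).1
  have hQ : Q = 0 := by simpa using (hL 1 (by simp)).1
  subst hR hQ
  simp only [Matrix.mul_zero, add_zero, Matrix.zero_mul, zero_add, true_and, and_true] at hU hL
  have hPS : P = S := by simpa using hU 1 (by simp)
  subst hPS
  have h1 : ∀ i, P * single i i 1 = single i i 1 * P := fun i => hU _ (by simp [transpose_single])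
  have h2 : ∀ i j, P * (single i j 1 + single j i 1) = (single i j 1 + single j i 1) * P :=
    fun i j => hU _ (by simp [transpose_single, add_comm])
  obtain ⟨a, ha⟩ : P ∈ Set.range (scalar (Fin m)) := by
    refine mem_range_scalar_of_commute_single fun i j hij => ?_
    have e : single i j (1 : F) = single i i 1 * (single i j 1 + single j i 1) := by
      rw [Matrix.mul_add, single_mul_single_same, single_mul_single_of_ne (h := hij)]
      simp
    change single i j 1 * P = P * single i j 1
    rw [e, Matrix.mul_assoc, ← h2, ← Matrix.mul_assoc, ← h1, Matrix.mul_assoc]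
  refine ⟨a, ?_⟩
  subst ha
  rw [← fromBlocks_one, fromBlocks_smul]
  simp [Matrix.smul_one_eq_diagonal]

theorem smul_one_mem (m : ℕ) {a : F} (ha : a * a = 1) :
    (a • (1 : Matrix (Fin m ⊕ Fin m) (Fin m ⊕ Fin m) F)) ∈ symplecticGroup (Fin m) F := by
  rw [SymplecticGroup.mem_iff]
  simp [smul_smul, ha]

theorem mem_center_iff (m : ℕ) (A : symplecticGroup (Fin m) F) :
    A ∈ Subgroup.center (symplecticGroup (Fin m) F) ↔ ∃ a : F, A.1 = a • 1 := by
  rw [Subgroup.mem_center_iff]
  constructor
  · intro h
    refine scalar_of_commute m A.1 (fun T hT => ?_) (fun T hT => ?_)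
    · exact (congrArg Subtype.val (h ⟨_, upper_mem m hT⟩)).symm
    · exact (congrArg Subtype.val (h ⟨_, lower_mem m hT⟩)).symm
  · rintro ⟨a, ha⟩ g
    apply Subtype.ext
    change g.1 * A.1 = A.1 * g.1
    rw [ha]
    simp

theorem sq_eq_one_of_smul_mem {m : ℕ} (hm : 1 ≤ m) {a : F}
    (h : (a • (1 : Matrix (Fin m ⊕ Fin m) (Fin m ⊕ Fin m) F)) ∈ symplecticGroup (Fin m) F) :
    a * a = 1 := by
  rw [SymplecticGroup.mem_iff] at h
  have := congrFun (congrFun h (Sum.inr ⟨0, hm⟩)) (Sum.inl ⟨0, hm⟩)
  simpa [smul_smul, J] using this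

/-- The centre of the symplectic group is in bijection with the square roots of one. -/
noncomputable def centerEquiv {m : ℕ} (hm : 1 ≤ m) :
    {a : F // a * a = 1} ≃ Subgroup.center (symplecticGroup (Fin m) F) :=
  Equiv.ofBijective
    (fun a => ⟨⟨a.1 • 1, smul_one_mem m a.2⟩, (mem_center_iff m _).2 ⟨a.1, rfl⟩⟩) (by
    constructor
    · intro a b h
      have h' := congrArg (fun x => x.1.1 (Sum.inl ⟨0, hm⟩) (Sum.inl ⟨0, hm⟩)) h
      apply Subtype.ext
      simpa using h'
    · rintro ⟨A, hA⟩
      obtain ⟨a, ha⟩ := (mem_center_iff m A).1 hA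
      refine ⟨⟨a, sq_eq_one_of_smul_mem hm (ha ▸ A.2)⟩, ?_⟩
      apply Subtype.ext
      apply Subtype.ext
      exact ha.symm)

theorem card_sqrt_one [Fintype F] :
    Nat.card {a : F // a * a = 1} = Nat.gcd 2 (Fintype.card F - 1) := by
  classical
  have hset : ∀ a : F, a * a = 1 ↔ a = 1 ∨ a = -1 := fun a => mul_self_eq_one_iff
  have hq : 1 < Fintype.card F := Fintype.one_lt_card
  rw [Nat.card_eq_fintype_card, Fintype.card_subtype]
  by_cases h2 : (1 : F) = -1
  · have : (Finset.univ.filter fun a : F => a * a = 1) = {1} := by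
      ext a
      simp [hset, ← h2]
    rw [this, Finset.card_singleton]
    have hc : ringChar F = 2 := by
      by_contra hne
      exact (Ring.neg_one_ne_one_of_char_ne_two hne) h2.symm
    have := (FiniteField.even_card_iff_char_two (F := F)).1 hc
    have hodd : (Fintype.card F - 1) % 2 = 1 := by omega
    rw [Nat.gcd_rec, hodd]; rfl
  · have : (Finset.univ.filter fun a : F => a * a = 1) = {1, -1} := by
      ext a
      simp [hset]
    rw [this, Finset.card_pair h2]
    have hc : ringChar F ≠ 2 := by
      intro hc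
      have : CharP F 2 := by
        rw [← hc]; exact ringChar.charP F
      exact h2 (CharTwo.neg_eq (1 : F)).symm
    have := FiniteField.odd_card_of_char_ne_two hc
    symm
    apply Nat.gcd_eq_left
    omega

theorem card_center [Fintype F] {m : ℕ} (hm : 1 ≤ m) :
    Nat.card (Subgroup.center (symplecticGroup (Fin m) F)) = Nat.gcd 2 (Fintype.card F - 1) := by
  rw [← Nat.card_congr (centerEquiv hm), card_sqrt_one]

end Cfsg.Agent.LieClassical.SympCenter
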