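import Mathlib

/-!
Counting symplectic bases of a nondegenerate alternating form over a finite field.
-/

set_option autoImplicit false

namespace Cfsg.Agent.LieClassical.SympCount

open Module

universe u v

variable {F : Type u} [Field F]

/-- Tuples of `m` mutually orthogonal hyperbolic pairs. -/
def HypTuple {V : Type v} [AddCommGroup V] [Module F V] (B : LinearMap.BilinForm F V) (m : ℕ) :
    Type v :=
  {p : Fin m → V × V // ∀ i j, B (p i).1 (p j).1 = 0 ∧ B (p i).2 (p j).2 = 0 ∧
    B (p i).1 (p j).2 = if i = j then 1 else 0}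

/-- The orthogonal complement of the pair `v, w`. -/
def perp {V : Type v} [AddCommGroup V] [Module F V] (B : LinearMap.BilinForm F V) (v w : V) :
    Submodule F V := LinearMap.ker ((B v).prod (B w))

theorem mem_perp {V : Type v} [AddCommGroup V] [Module F V] (B : LinearMap.BilinForm F V)
    (v w x : V) : x ∈ perp B v w ↔ B v x = 0 ∧ B w x = 0 := by
  simp [perp]

section

variable {V : Type v} [AddCommGroup V] [Module F V] (B : LinearMap.BilinForm F V)

theorem alt_swap (hB : ∀ x, B x x = 0) (x y : V) : B x y = - B y x := by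
  have h := hB (x + y)
  simp only [map_add, LinearMap.add_apply, hB] at h
  rw [eq_neg_iff_add_eq_zero]
  simpa [add_comm] using h

theorem finrank_perp [FiniteDimensional F V] (hB : ∀ x, B x x = 0) {v w : V} (h : B v w = 1) :
    finrank F (perp B v w) + 2 = finrank F V := by
  have hsurj : Function.Surjective ((B v).prod (B w)) := by
    rintro ⟨a, b⟩
    refine ⟨a • w - b • v, ?_⟩
    have h' : B w v = -1 := by rw [alt_swap B hB, h]
    simp [hB, h, h']
  have h1 := LinearMap.finrank_range_add_finrank_ker ((B v).prod (B w))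
  rw [LinearMap.range_eq_top.2 hsurj, finrank_top, Module.finrank_prod, finrank_self] at h1
  rw [perp]
  omega

theorem nondeg_perp (hB : ∀ x, B x x = 0) (hnd : ∀ x, (∀ y, B x y = 0) → x = 0) {v w : V}
    (h : B v w = 1) (x : perp B v w) (hx : ∀ y : perp B v w, B.restrict (perp B v w) x y = 0) :
    x = 0 := by
  have h' : B w v = -1 := by rw [alt_swap B hB, h]
  obtain ⟨x, hxm⟩ := x
  rw [mem_perp] at hxm
  have hx0 : x = 0 := by
    refine hnd x fun z => ?_
    have hz : z - (-(B w z)) • v - (B v z) • w ∈ perp B v w := by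
      rw [mem_perp]
      simp [hB, h, h']
    have := hx ⟨_, hz⟩
    have e1 : B x v = 0 := by rw [alt_swap B hB, hxm.1, neg_zero]
    have e2 : B x w = 0 := by rw [alt_swap B hB, hxm.2, neg_zero]
    simpa [e1, e2] using this
  simp [hx0]

/-- Splitting off the first hyperbolic pair. -/
def splitEquiv (hB : ∀ x, B x x = 0) (m : ℕ) :
    HypTuple B (m + 1) ≃
      (Σ p : {p : V × V // B p.1 p.2 = 1}, HypTuple (B.restrict (perp B p.1.1 p.1.2)) m) where
  toFun p := ⟨⟨p.1 0, by simpa using (p.2 0 0).2.2⟩, ⟨fun i =>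
    (⟨(p.1 i.succ).1, by
        rw [mem_perp]
        refine ⟨(p.2 0 i.succ).1, ?_⟩
        rw [alt_swap B hB, (p.2 i.succ 0).2.2, if_neg (Fin.succ_ne_zero i), neg_zero]⟩,
      ⟨(p.1 i.succ).2, by
        rw [mem_perp]
        refine ⟨?_, (p.2 0 i.succ).2.1⟩
        rw [(p.2 0 i.succ).2.2, if_neg (Fin.succ_ne_zero i).symm]⟩), fun i j => by
          have := p.2 i.succ j.succ
          simpa [Fin.succ_inj] using this⟩⟩
  invFun q := ⟨Fin.cons q.1.1 (fun i => (((q.2.1 i).1 : V), ((q.2.1 i).2 : V))), by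
    have key1 : ∀ i, B q.1.1.1 ((q.2.1 i).1 : V) = 0 := fun i =>
      ((mem_perp B _ _ _).1 (q.2.1 i).1.2).1
    have key2 : ∀ i, B q.1.1.2 ((q.2.1 i).1 : V) = 0 := fun i =>
      ((mem_perp B _ _ _).1 (q.2.1 i).1.2).2
    have key3 : ∀ i, B q.1.1.1 ((q.2.1 i).2 : V) = 0 := fun i =>
      ((mem_perp B _ _ _).1 (q.2.1 i).2.2).1
    have key4 : ∀ i, B q.1.1.2 ((q.2.1 i).2 : V) = 0 := fun i =>
      ((mem_perp B _ _ _).1 (q.2.1 i).2.2).2
    intro i j
    refine Fin.cases ?_ (fun i => ?_) i <;> refine Fin.cases ?_ (fun j => ?_) j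
    · simp [hB, q.1.2]
    · simp only [Fin.cons_zero, Fin.cons_succ, key1, key4, key3, true_and]
      rw [if_neg (Fin.succ_ne_zero j).symm]
    · simp only [Fin.cons_zero, Fin.cons_succ]
      rw [alt_swap B hB, key1, alt_swap B hB ((q.2.1 i).2 : V), key4, alt_swap B hB, key2,
        if_neg (Fin.succ_ne_zero i)]
      simp
    · simpa [Fin.succ_inj] using q.2.2 i j⟩
  left_inv p := by
    apply Subtype.ext
    funext i
    refine Fin.cases ?_ (fun i => ?_) i <;> simp
  right_inv q := by
    obtain ⟨⟨⟨v, w⟩, h⟩, ⟨f, hf⟩⟩ := q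
    rfl

end

section Count

variable [Fintype F] {V : Type v} [AddCommGroup V] [Module F V] [FiniteDimensional F V]
  (B : LinearMap.BilinForm F V)

theorem card_fiber {f : V →ₗ[F] F} (hf : f ≠ 0) (c : F) :
    Nat.card {w : V // f w = c} = Fintype.card F ^ (finrank F V - 1) := by
  have hsurj : Function.Surjective f := LinearMap.surjective hf
  obtain ⟨w₀, hw₀⟩ := hsurj c
  have e : {w : V // f w = c} ≃ LinearMap.ker f :=
    { toFun := fun w => ⟨w.1 - w₀, by simp [w.2, hw₀]⟩
      invFun := fun w => ⟨w.1 + w₀, by simp [hw₀]⟩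
      left_inv := fun w => by simp
      right_inv := fun w => by simp }
  rw [Nat.card_congr e, Module.natCard_eq_pow_finrank (K := F), Nat.card_eq_fintype_card]
  congr 1
  have h1 := LinearMap.finrank_range_add_finrank_ker f
  rw [LinearMap.range_eq_top.2 hsurj, finrank_top, finrank_self] at h1
  omega

theorem card_hypPair (hnd : ∀ x, (∀ y, B x y = 0) → x = 0) :
    Nat.card {p : V × V // B p.1 p.2 = 1} =
      (Fintype.card F ^ finrank F V - 1) * Fintype.card F ^ (finrank F V - 1) := by
  classical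
  have : Finite V := Module.finite_of_finite F
  have : Fintype V := Fintype.ofFinite V
  have e : {p : V × V // B p.1 p.2 = 1} ≃ (Σ v : {v : V // v ≠ 0}, {w : V // B v.1 w = 1}) :=
    { toFun := fun p => ⟨⟨p.1.1, by rintro h; have := p.2; simp [h] at this⟩, ⟨p.1.2, p.2⟩⟩
      invFun := fun q => ⟨(q.1.1, q.2.1), q.2.2⟩
      left_inv := fun p => by simp
      right_inv := fun q => by simp }
  rw [Nat.card_congr e, Nat.card_sigma]
  have h1 : ∀ v : {v : V // v ≠ 0}, Nat.card {w : V // B v.1 w = 1} =
      Fintype.card F ^ (finrank F V - 1) := by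
    intro v
    refine card_fiber (fun h => v.2 (hnd _ fun y => ?_)) 1
    rw [h]; rfl
  rw [Finset.sum_congr rfl (fun v _ => h1 v), Finset.sum_const, smul_eq_mul]
  congr 1
  rw [Finset.card_univ, Fintype.card_subtype_compl, Fintype.card_subtype_eq,
    Module.card_eq_pow_finrank (K := F)]

end Count

theorem card_hypTuple [Fintype F] (m : ℕ) : ∀ (V : Type v) [AddCommGroup V] [Module F V]
    [FiniteDimensional F V] (B : LinearMap.BilinForm F V), (∀ x, B x x = 0) →
    (∀ x, (∀ y, B x y = 0) → x = 0) → finrank F V = 2 * m →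
    Nat.card (HypTuple B m) = ∏ i ∈ Finset.range m,
      ((Fintype.card F ^ (2 * (i + 1)) - 1) * Fintype.card F ^ (2 * i + 1)) := by
  induction m with
  | zero =>
    intro V _ _ _ B hB hnd hr
    have : Unique (HypTuple B 0) :=
      { default := ⟨fun i => i.elim0, fun i => i.elim0⟩
        uniq := fun p => Subtype.ext (funext fun i => i.elim0) }
    simp
  | succ m ih =>
    intro V _ _ _ B hB hnd hr
    have : Finite V := Module.finite_of_finite F
    have : Fintype V := Fintype.ofFinite V
    have : Fintype {p : V × V // B p.1 p.2 = 1} := Fintype.ofFinite _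
    have : ∀ p : {p : V × V // B p.1 p.2 = 1},
        Finite (HypTuple (B.restrict (perp B p.1.1 p.1.2)) m) := fun p =>
      inferInstanceAs (Finite {q : Fin m → _ × _ // _})
    rw [Nat.card_congr (splitEquiv B hB m), Nat.card_sigma]
    have h1 : ∀ p : {p : V × V // B p.1 p.2 = 1},
        Nat.card (HypTuple (B.restrict (perp B p.1.1 p.1.2)) m) = ∏ i ∈ Finset.range m,
      ((Fintype.card F ^ (2 * (i + 1)) - 1) * Fintype.card F ^ (2 * i + 1)) := by
      intro p
      refine ih _ _ (fun x => hB x.1) (nondeg_perp B hB hnd p.2) ?_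
      have := finrank_perp B hB p.2
      omega
    rw [Finset.sum_congr rfl (fun v _ => h1 v), Finset.sum_const, smul_eq_mul, Finset.card_univ,
      ← Nat.card_eq_fintype_card, card_hypPair B hnd, hr, Finset.prod_range_succ, mul_comm]
    rfl

/-- The standard symplectic form, on row vectors. -/
noncomputable def stdForm (m : ℕ) (F : Type u) [Field F] :
    LinearMap.BilinForm F (Fin m ⊕ Fin m → F) :=
  Matrix.toBilin' (Matrix.J (Fin m) F)

theorem stdForm_apply (m : ℕ) (x y : Fin m ⊕ Fin m → F) :
    stdForm m F x y = ∑ i, (x (Sum.inr i) * y (Sum.inl i) - x (Sum.inl i) * y (Sum.inr i)) := by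
  rw [stdForm, Matrix.toBilin'_apply']
  simp only [dotProduct, Matrix.mulVec, Matrix.J, Fintype.sum_sum_type,
    Matrix.fromBlocks_apply₁₁, Matrix.fromBlocks_apply₁₂, Matrix.fromBlocks_apply₂₁,
    Matrix.fromBlocks_apply₂₂, Matrix.zero_apply, Matrix.neg_apply,
    Matrix.one_apply, Finset.sum_sub_distrib]
  simp
  ring

theorem stdForm_self (m : ℕ) (x : Fin m ⊕ Fin m → F) : stdForm m F x x = 0 := by
  rw [stdForm_apply]
  exact Finset.sum_eq_zero fun i _ => by ring

theorem stdForm_nondeg (m : ℕ) (x : Fin m ⊕ Fin m → F) (h : ∀ y, stdForm m F x y = 0) : x = 0 := by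
  funext i
  rcases i with i | i
  · have := h (Pi.single (Sum.inr i) 1)
    rw [stdForm_apply] at this
    simpa [Pi.single_apply] using this
  · have := h (Pi.single (Sum.inl i) 1)
    rw [stdForm_apply] at this
    simpa [Pi.single_apply] using this

theorem mem_iff_stdForm (m : ℕ) (A : Matrix (Fin m ⊕ Fin m) (Fin m ⊕ Fin m) F) :
    A ∈ Matrix.symplecticGroup (Fin m) F ↔
      ∀ i j, stdForm m F (A i) (A j) = Matrix.J (Fin m) F i j := by
  rw [SymplecticGroup.mem_iff, ← Matrix.ext_iff]
  refine forall_congr' fun i => forall_congr' fun j => ?_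
  have : (A * Matrix.J (Fin m) F * A.transpose) i j = stdForm m F (A i) (A j) := by
    rw [stdForm, Matrix.toBilin'_apply', Matrix.mul_assoc]
    rfl
  rw [this]

/-- Symplectic matrices are the same as symplectic bases (rows). -/
noncomputable def matEquiv (m : ℕ) (F : Type u) [Field F] :
    Matrix.symplecticGroup (Fin m) F ≃ HypTuple (stdForm m F) m where
  toFun A := ⟨fun i => (A.1 (Sum.inr i), A.1 (Sum.inl i)), fun i j => by
    have h := (mem_iff_stdForm m A.1).1 A.2
    refine ⟨?_, ?_, ?_⟩
    · exact (h (Sum.inr i) (Sum.inr j)).trans rfl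
    · exact (h (Sum.inl i) (Sum.inl j)).trans rfl
    · refine (h (Sum.inr i) (Sum.inl j)).trans ?_
      rw [Matrix.J, Matrix.fromBlocks_apply₂₁, Matrix.one_apply]⟩
  invFun p := ⟨Matrix.of (Sum.elim (fun i => (p.1 i).2) (fun i => (p.1 i).1)), by
    rw [mem_iff_stdForm]
    rintro (i | i) (j | j)
    · exact (p.2 i j).2.1
    · change stdForm m F (p.1 i).2 (p.1 j).1 = _
      rw [alt_swap _ (stdForm_self m), (p.2 j i).2.2, Matrix.J, Matrix.fromBlocks_apply₁₂,
        Matrix.neg_apply, Matrix.one_apply]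
      simp [eq_comm]
    · change stdForm m F (p.1 i).1 (p.1 j).2 = _
      rw [(p.2 i j).2.2, Matrix.J, Matrix.fromBlocks_apply₂₁, Matrix.one_apply]
    · exact (p.2 i j).1⟩
  left_inv A := by
    apply Subtype.ext
    ext i j
    rcases i with i | i <;> rfl
  right_inv p := rfl

theorem card_symplecticGroup [Fintype F] (m : ℕ) :
    Nat.card (Matrix.symplecticGroup (Fin m) F) =
      Fintype.card F ^ (m ^ 2) * ∏ i ∈ Finset.range m, (Fintype.card F ^ (2 * (i + 1)) - 1) := by
  rw [Nat.card_congr (matEquiv m F), card_hypTuple m _ _ (stdForm_self m) (stdForm_nondeg m)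
    (by simp [two_mul]), Finset.prod_mul_distrib, mul_comm]
  congr 1
  rw [Finset.prod_pow_eq_pow_sum]
  congr 1
  rw [Finset.sum_add_distrib, ← Finset.mul_sum]
  simp
  have := Finset.sum_range_id_mul_two m
  cases m with
  | zero => simp
  | succ m =>
    simp only [Nat.add_sub_cancel] at this
    nlinarith

end Cfsg.Agent.LieClassical.SympCount
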