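import Cfsg.Agent.LieClassical.SLTwoTorus
import Cfsg.Agent.Lib.DihedralRecog

/-!
Finite `2`-subgroups of `SL_2(F)`, `F` a field of odd characteristic: cyclic or generalized quaternion.
-/

set_option autoImplicit false
set_option linter.unusedSimpArgs false

namespace Cfsg.Agent.LieClassical.SLTwoQuaternion

open Matrix Cfsg.Agent.LieClassical.SLTwoTorus

/-- Entrywise criterion for `g = x • 1 + y • z`. -/
theorem eq_smul_add_of_entries {F : Type*} [Field F] (z g : Matrix (Fin 2) (Fin 2) F) (x y : F)
    (h00 : g 0 0 = x + y * z 0 0) (h01 : g 0 1 = y * z 0 1) (h10 : g 1 0 = y * z 1 0)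
    (h11 : g 1 1 = x + y * z 1 1) : g = x • (1 : Matrix (Fin 2) (Fin 2) F) + y • z := by
  ext i j
  fin_cases i <;> fin_cases j <;> simp [h00, h01, h10, h11]

/-- A matrix commuting with the non-scalar `2 × 2` matrix `z` is a polynomial in `z`. -/
theorem exists_eq_of_commute {F : Type*} [Field F] (z g : Matrix (Fin 2) (Fin 2) F)
    (hz : ∀ c : F, z ≠ c • (1 : Matrix (Fin 2) (Fin 2) F)) (hg : g * z = z * g) :
    ∃ x y : F, g = x • (1 : Matrix (Fin 2) (Fin 2) F) + y • z := by
  have h00 := congrFun (congrFun hg 0) 0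
  have h01 := congrFun (congrFun hg 0) 1
  have h10 := congrFun (congrFun hg 1) 0
  simp only [Matrix.mul_apply, Fin.sum_univ_two] at h00 h01 h10
  by_cases hb : z 0 1 = 0
  · by_cases hc : z 1 0 = 0
    · have hd : z 0 0 - z 1 1 ≠ 0 := by
        intro hd
        apply hz (z 0 0)
        have e : z 1 1 = z 0 0 := (sub_eq_zero.mp hd).symm
        ext i j
        fin_cases i <;> fin_cases j <;> simp [hb, hc, e]
      have g01 : g 0 1 = 0 := by
        apply mul_right_cancel₀ hd
        rw [hb] at h01
        linear_combination -h01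
      have g10 : g 1 0 = 0 := by
        apply mul_right_cancel₀ hd
        rw [hc] at h10
        linear_combination h10
      refine ⟨g 0 0 - (g 0 0 - g 1 1) / (z 0 0 - z 1 1) * z 0 0,
        (g 0 0 - g 1 1) / (z 0 0 - z 1 1), eq_smul_add_of_entries _ _ _ _ ?_ ?_ ?_ ?_⟩
      · ring
      · rw [hb, g01, mul_zero]
      · rw [hc, g10, mul_zero]
      · field_simp
        ring
    · refine ⟨g 0 0 - g 1 0 / z 1 0 * z 0 0, g 1 0 / z 1 0,
        eq_smul_add_of_entries _ _ _ _ ?_ ?_ ?_ ?_⟩
      · ring
      · field_simp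
        linear_combination h00
      · field_simp
      · field_simp
        linear_combination h10
  · refine ⟨g 0 0 - g 0 1 / z 0 1 * z 0 0, g 0 1 / z 0 1,
      eq_smul_add_of_entries _ _ _ _ ?_ ?_ ?_ ?_⟩
    · ring
    · field_simp
    · field_simp
      linear_combination -h00
    · field_simp
      linear_combination -h01

/-- Two matrices commuting with a non-scalar `2 × 2` matrix commute. -/
theorem commute_of_commute {F : Type*} [Field F] (z g h : Matrix (Fin 2) (Fin 2) F)
    (hz : ∀ c : F, z ≠ c • (1 : Matrix (Fin 2) (Fin 2) F)) (hg : g * z = z * g)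
    (hh : h * z = z * h) : g * h = h * g := by
  obtain ⟨x, y, rfl⟩ := exists_eq_of_commute z g hz hg
  rw [add_mul, mul_add, smul_mul_assoc, one_mul, mul_smul_comm, mul_one, smul_mul_assoc,
    mul_smul_comm, hh]

/-- A scalar element of `SL_2(F)` is `1` or `-1`. -/
theorem eq_one_or_of_scalar {F : Type*} [Field F] (g : Matrix.SpecialLinearGroup (Fin 2) F)
    (c : F) (hg : (g : Matrix (Fin 2) (Fin 2) F) = c • (1 : Matrix (Fin 2) (Fin 2) F)) :
    g = 1 ∨ g = -1 := by
  have hdet : (g : Matrix (Fin 2) (Fin 2) F).det = 1 := g.det_coe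
  rw [hg, Matrix.det_smul, Matrix.det_one, mul_one, Fintype.card_fin] at hdet
  rw [← one_pow 2, sq_eq_sq_iff_eq_or_eq_neg] at hdet
  rcases hdet with h | h
  · left
    apply Subtype.ext
    rw [hg, h, one_smul]
    rfl
  · right
    apply Subtype.ext
    rw [hg, h]
    simp

/-- A finite group `H` of order prime to the characteristic mapping injectively to `SL_2(F)` so that the image
centralizes a non-scalar matrix has an injective character `χ` to the algebraic closure of `F`, with `χ h` an
eigenvalue of `h`. -/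
theorem exists_char {F : Type*} [Field F] (p : ℕ) [Fact p.Prime] [CharP F p]
    {H : Type*} [Group H] [Finite H] (φ : H →* Matrix.SpecialLinearGroup (Fin 2) F)
    (hφ : Function.Injective φ)
    (hH : (Nat.card H).Coprime p) (z : Matrix (Fin 2) (Fin 2) F)
    (hz : ∀ c : F, z ≠ c • (1 : Matrix (Fin 2) (Fin 2) F))
    (hc : ∀ h : H, (φ h : Matrix (Fin 2) (Fin 2) F) * z = z * (φ h : Matrix (Fin 2) (Fin 2) F)) :
    ∃ χ : H →* AlgebraicClosure F, Function.Injective χ ∧
      ∀ h, χ h ^ 2 - algebraMap F (AlgebraicClosure F) (φ h : Matrix (Fin 2) (Fin 2) F).trace * χ h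
        + 1 = 0 := by
  classical
  let K := AlgebraicClosure F
  let f : F →+* K := algebraMap F K
  have hf : Function.Injective f := f.injective
  obtain ⟨c, v, hv, hzv⟩ := exists_eigen (f.mapMatrix z)
  have hz' : f.mapMatrix z ≠ c • (1 : Matrix (Fin 2) (Fin 2) K) := by
    intro h
    have h00 : f (z 0 0) = c := by simpa using congrFun (congrFun h 0) 0
    have h01 : f (z 0 1) = 0 := by simpa using congrFun (congrFun h 0) 1
    have h10 : f (z 1 0) = 0 := by simpa using congrFun (congrFun h 1) 0
    have h11 : f (z 1 1) = c := by simpa using congrFun (congrFun h 1) 1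
    apply hz (z 0 0)
    have e01 : z 0 1 = 0 := (map_eq_zero f).mp h01
    have e10 : z 1 0 = 0 := (map_eq_zero f).mp h10
    have e11 : z 1 1 = z 0 0 := hf (h11.trans h00.symm)
    ext i j
    fin_cases i <;> fin_cases j <;> simp [e01, e10, e11]
  have key : ∀ h : H, ∃ d : K, (f.mapMatrix (φ h : Matrix (Fin 2) (Fin 2) F)).mulVec v = d • v := by
    intro h
    apply eigen_unique (f.mapMatrix z) c hz' v _ hv hzv
    rw [Matrix.mulVec_mulVec, ← map_mul, ← hc h, map_mul, ← Matrix.mulVec_mulVec, hzv,
      Matrix.mulVec_smul]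
  choose d hd using key
  have hinjv : ∀ a b : K, a • v = b • v → a = b := by
    intro a b hab
    have : (a - b) • v = 0 := by rw [sub_smul, hab, sub_self]
    rcases smul_eq_zero.mp this with h | h
    · exact sub_eq_zero.mp h
    · exact absurd h hv
  let χ : H →* K :=
    { toFun := d
      map_one' := by
        apply hinjv
        rw [← hd 1]
        simp
      map_mul' := by
        intro g h
        apply hinjv
        rw [← hd (g * h)]
        have : (f.mapMatrix (φ (g * h) : Matrix (Fin 2) (Fin 2) F)) =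
            f.mapMatrix (φ g : Matrix (Fin 2) (Fin 2) F) *
            f.mapMatrix (φ h : Matrix (Fin 2) (Fin 2) F) := by
          rw [← map_mul, map_mul φ]
          rfl
        rw [this, ← Matrix.mulVec_mulVec, hd h, Matrix.mulVec_smul, hd g, smul_smul, mul_comm] }
  have hroot : ∀ h, χ h ^ 2 - f (φ h : Matrix (Fin 2) (Fin 2) F).trace * χ h + 1 = 0 := by
    intro h
    have hdet : (f.mapMatrix (φ h : Matrix (Fin 2) (Fin 2) F) -
        (d h) • (1 : Matrix (Fin 2) (Fin 2) K)).det = 0 := by
      apply Matrix.exists_mulVec_eq_zero_iff.mp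
      refine ⟨v, hv, ?_⟩
      rw [Matrix.sub_mulVec, hd, Matrix.smul_mulVec, Matrix.one_mulVec, sub_self]
    rw [det_sub_scalar, ← RingHom.map_det, Matrix.SpecialLinearGroup.det_coe, map_one] at hdet
    have h1 : (f.mapMatrix (φ h : Matrix (Fin 2) (Fin 2) F)).trace =
        f (φ h : Matrix (Fin 2) (Fin 2) F).trace := by
      simp [Matrix.trace_fin_two]
    rw [h1] at hdet
    change d h ^ 2 - f (φ h : Matrix (Fin 2) (Fin 2) F).trace * d h + 1 = 0
    linear_combination hdet
  refine ⟨χ, ?_, hroot⟩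
  rw [injective_iff_map_eq_one]
  intro g hg
  have h1 := hroot g
  rw [hg] at h1
  have htr : (φ g : Matrix (Fin 2) (Fin 2) F).trace = 2 := by
    apply hf
    rw [map_ofNat]
    linear_combination -h1
  have hg1 : φ g = 1 := by
    apply eq_one_of_trace p _ htr
    apply Nat.Coprime.coprime_dvd_left _ hH
    rw [orderOf_injective φ hφ]
    exact orderOf_dvd_natCard g
  exact hφ (hg1.trans (map_one φ).symm)

/-- In `SL_2(F)`, char `F ≠ 2`, an element with square `1` is `1` or `-1`. -/
theorem eq_one_or_of_sq {F : Type*} [Field F] (h2 : (2 : F) ≠ 0)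
    (g : Matrix.SpecialLinearGroup (Fin 2) F) (hg : g * g = 1) : g = 1 ∨ g = -1 := by
  have hsq := sq_eq (g : Matrix (Fin 2) (Fin 2) F)
  have hgg : (g : Matrix (Fin 2) (Fin 2) F) * (g : Matrix (Fin 2) (Fin 2) F) = 1 := by
    have := congrArg Subtype.val hg
    simpa using this
  rw [hgg, g.det_coe, one_smul] at hsq
  have htr : (g : Matrix (Fin 2) (Fin 2) F).trace ≠ 0 := by
    intro h
    rw [h, zero_smul, zero_sub] at hsq
    have := congrFun (congrFun hsq 0) 0
    simp only [Matrix.one_apply_eq, Matrix.neg_apply] at this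
    apply h2
    linear_combination this
  apply eq_one_or_of_scalar g (2 / (g : Matrix (Fin 2) (Fin 2) F).trace)
  have h3 : (g : Matrix (Fin 2) (Fin 2) F).trace • (g : Matrix (Fin 2) (Fin 2) F) =
      (2 : F) • (1 : Matrix (Fin 2) (Fin 2) F) := by
    rw [two_smul]
    exact (eq_sub_iff_add_eq.mp hsq).symm
  rw [div_eq_inv_mul, ← smul_smul, ← h3, smul_smul, inv_mul_cancel₀ htr, one_smul]

/-- A commutative finite `2`-subgroup of `SL_2(F)`, `F` of odd characteristic, is cyclic. -/
theorem isCyclic_of_comm {F : Type*} [Field F] (p : ℕ) [Fact p.Prime] [CharP F p] (hp : p ≠ 2)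
    (S : Subgroup (Matrix.SpecialLinearGroup (Fin 2) F)) [Finite S] (hS : IsPGroup 2 S)
    (hcomm : ∀ a b : S, a * b = b * a) : IsCyclic S := by
  classical
  by_cases hsc : ∀ z : S, ∃ c : F, ((z : Matrix.SpecialLinearGroup (Fin 2) F) :
      Matrix (Fin 2) (Fin 2) F) = c • (1 : Matrix (Fin 2) (Fin 2) F)
  · -- all elements are `±1`
    by_cases hm : (-1 : Matrix.SpecialLinearGroup (Fin 2) F) ∈ S
    · refine ⟨⟨⟨-1, hm⟩, ?_⟩⟩
      intro x
      obtain ⟨c, hc⟩ := hsc x
      rcases eq_one_or_of_scalar _ c hc with h | h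
      · have : x = 1 := Subtype.ext h
        exact ⟨0, by simp [this]⟩
      · have : x = ⟨-1, hm⟩ := Subtype.ext h
        exact ⟨1, by simp [this]⟩
    · refine ⟨⟨1, ?_⟩⟩
      intro x
      obtain ⟨c, hc⟩ := hsc x
      rcases eq_one_or_of_scalar _ c hc with h | h
      · have : x = 1 := Subtype.ext h
        exact ⟨0, by simp [this]⟩
      · exact absurd (h ▸ x.2) hm
  · push Not at hsc
    obtain ⟨z, hz⟩ := hsc
    obtain ⟨k, hk⟩ := hS.exists_card_eq
    refine isCyclic_of_commute p S ?_ _ hz ?_
    · rw [hk]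
      exact Nat.Coprime.pow_left _ ((Nat.coprime_primes Nat.prime_two Fact.out).mpr (Ne.symm hp))
    · intro h hh
      have := congrArg Subtype.val (congrArg Subtype.val (hcomm ⟨h, hh⟩ z))
      simpa using this

/-- A non-commutative finite `2`-subgroup of `SL_2(F)`, `F` of odd characteristic, is generalized quaternion. -/
theorem quaternion_of_not_comm {F : Type*} [Field F] (p : ℕ) [Fact p.Prime] [CharP F p]
    (hp : p ≠ 2) (S : Subgroup (Matrix.SpecialLinearGroup (Fin 2) F)) [Finite S]
    (hS : IsPGroup 2 S) (hnc : ¬ ∀ a b : S, a * b = b * a) :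
    ∃ k : ℕ, 1 ≤ k ∧ Nonempty (S ≃* QuaternionGroup (2 ^ k)) := by
  classical
  have h2 : (2 : F) ≠ 0 := by
    intro h
    have h' : ((2 : ℕ) : F) = 0 := by exact_mod_cast h
    rw [CharP.cast_eq_zero_iff F p] at h'
    exact hp ((Nat.prime_dvd_prime_iff_eq Fact.out Nat.prime_two).mp h')
  let mat : S →* Matrix (Fin 2) (Fin 2) F :=
    { toFun := fun s => ((s : Matrix.SpecialLinearGroup (Fin 2) F) : Matrix (Fin 2) (Fin 2) F)
      map_one' := rfl
      map_mul' := fun _ _ => rfl }
  have hmat : ∀ s : S, mat s = ((s : Matrix.SpecialLinearGroup (Fin 2) F) :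
    Matrix (Fin 2) (Fin 2) F) := fun s => rfl
  have hinj : Function.Injective mat := by
    intro a b hab
    exact Subtype.ext (Subtype.ext hab)
  -- scalars are central
  have hscal : ∀ z : S, (∃ c : F, mat z = c • (1 : Matrix (Fin 2) (Fin 2) F)) →
      z ∈ Subgroup.center S := by
    rintro z ⟨c, hc⟩
    rw [Subgroup.mem_center_iff]
    intro g
    apply hinj
    rw [map_mul, map_mul, hc, mul_smul_comm, smul_mul_assoc, mul_one, one_mul]
  -- a central element is a scalar
  have hcen : ∀ z : S, z ∈ Subgroup.center S →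
      ∃ c : F, mat z = c • (1 : Matrix (Fin 2) (Fin 2) F) := by
    intro z hz
    by_contra hcon
    push Not at hcon
    apply hnc
    intro a b
    apply hinj
    rw [map_mul, map_mul]
    apply commute_of_commute (mat z) _ _ hcon
    · rw [← map_mul, ← map_mul, (Subgroup.mem_center_iff.mp hz) a]
    · rw [← map_mul, ← map_mul, (Subgroup.mem_center_iff.mp hz) b]
  have hnt : Nontrivial (S ⧸ Subgroup.center S) := by
    rw [← not_subsingleton_iff_nontrivial]
    intro hsub
    apply hnc
    intro a b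
    have hb : b ∈ Subgroup.center S := by
      rw [← QuotientGroup.eq_one_iff]
      exact Subsingleton.elim _ _
    exact (Subgroup.mem_center_iff.mp hb) a
  have hQ : IsPGroup 2 (S ⧸ Subgroup.center S) := hS.to_quotient _
  have hQc := hQ.center_nontrivial
  obtain ⟨⟨zb, hzb⟩, hzb1⟩ := exists_ne (1 : Subgroup.center (S ⧸ Subgroup.center S))
  obtain ⟨z, rfl⟩ := QuotientGroup.mk_surjective zb
  have hznot : z ∉ Subgroup.center S := by
    intro h
    apply hzb1
    apply Subtype.ext
    exact (QuotientGroup.eq_one_iff z).mpr h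
  have hzns : ∀ c : F, mat z ≠ c • (1 : Matrix (Fin 2) (Fin 2) F) := by
    intro c hc
    exact hznot (hscal z ⟨c, hc⟩)
  have hneg : ∀ s : S, s * z = z * s ∨ mat s * mat z = -(mat z * mat s) := by
    intro s
    have hw : s * z * s⁻¹ * z⁻¹ ∈ Subgroup.center S := by
      rw [← QuotientGroup.eq_one_iff]
      have := (Subgroup.mem_center_iff.mp hzb) (s : S ⧸ Subgroup.center S)
      rw [QuotientGroup.mk_mul, QuotientGroup.mk_mul, QuotientGroup.mk_mul, QuotientGroup.mk_inv,
        QuotientGroup.mk_inv, this, mul_inv_cancel_right, mul_inv_cancel]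
    obtain ⟨c, hc⟩ := hcen _ hw
    have hdet : (mat (s * z * s⁻¹ * z⁻¹)).det = 1 :=
      ((s * z * s⁻¹ * z⁻¹ : S) : Matrix.SpecialLinearGroup (Fin 2) F).det_coe
    rw [hc, Matrix.det_smul, Matrix.det_one, mul_one, Fintype.card_fin, ← one_pow 2,
      sq_eq_sq_iff_eq_or_eq_neg] at hdet
    have hsz : mat (s * z) = c • mat (z * s) := by
      have : s * z = (s * z * s⁻¹ * z⁻¹) * (z * s) := by group
      rw [this, map_mul, hc, smul_mul_assoc, one_mul]
    rcases hdet with h | h
    · left
      apply hinj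
      rw [hsz, h, one_smul]
    · right
      rw [← map_mul, hsz, h, map_mul, neg_smul, one_smul]
  let A : Subgroup S := Subgroup.centralizer {z}
  have memA : ∀ s : S, s ∈ A ↔ s * z = z * s := by
    intro s
    rw [Subgroup.mem_centralizer_singleton_iff]
  have hex : ∃ x : S, x ∉ A := by
    by_contra hcon
    push Not at hcon
    apply hznot
    rw [Subgroup.mem_center_iff]
    intro g
    exact (memA g).mp (hcon g)
  obtain ⟨x, hx⟩ := hex
  have hidx : A.index = 2 := by
    rw [Subgroup.index_eq_two_iff]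
    refine ⟨x, fun b => ?_⟩
    by_cases hb : b ∈ A
    · right
      refine ⟨hb, fun hbx => hx ?_⟩
      have := A.mul_mem (A.inv_mem hb) hbx
      rwa [inv_mul_cancel_left] at this
    · left
      refine ⟨?_, hb⟩
      rw [memA] at hb hx ⊢
      have hb' := (hneg b).resolve_left hb
      have hx' := (hneg x).resolve_left hx
      apply hinj
      rw [map_mul, map_mul, map_mul, map_mul, mul_assoc, hx', mul_neg, ← mul_assoc, hb', neg_mul,
        neg_neg, mul_assoc]
  have hAn : A.Normal := Subgroup.normal_of_index_eq_two hidx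
  obtain ⟨n, hn⟩ := (hS.to_subgroup A).exists_card_eq
  obtain ⟨χ, hχi, hχ⟩ := exists_char p (S.subtype.comp A.subtype)
    (Subtype.val_injective.comp Subtype.val_injective)
    (by
      rw [hn]
      exact Nat.Coprime.pow_left _
        ((Nat.coprime_primes Nat.prime_two Fact.out).mpr (Ne.symm hp)))
    (mat z) hzns (by
      intro h
      have h1 := (memA h).mp h.2
      have h3 := congrArg mat h1
      rw [map_mul, map_mul] at h3
      exact h3)
  have hAcyc : IsCyclic A := isCyclic_of_injective_ringHom χ hχi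
  obtain ⟨a, ha⟩ := IsCyclic.exists_generator (α := A)
  have horda : orderOf (a : S) = Nat.card A := by
    rw [Subgroup.orderOf_coe]
    exact orderOf_eq_card_of_forall_mem_zpowers ha
  have hmemzp : ∀ y : S, y ∈ A → ∃ j : ℤ, (a : S) ^ j = y := by
    intro y hy
    obtain ⟨j, hj⟩ := ha ⟨y, hy⟩
    refine ⟨j, ?_⟩
    have := congrArg Subtype.val hj
    simpa using this
  -- `x` inverts `a`
  have hb : x * (a : S) * x⁻¹ ∈ A := hAn.conj_mem _ a.2 x
  have hba : x * (a : S) * x⁻¹ ≠ a := by
    intro h
    apply hx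
    rw [memA]
    obtain ⟨j, hj⟩ := hmemzp z ((memA z).mpr rfl)
    have hc : Commute x (a : S) := by
      change x * (a : S) = a * x
      rw [← mul_inv_eq_iff_eq_mul]
      exact h
    rw [← hj]
    exact (hc.zpow_right j).eq
  have hxa : x * (a : S) * x⁻¹ = (a : S)⁻¹ := by
    have htr : (mat (x * (a : S) * x⁻¹)).trace = (mat (a : S)).trace := by
      rw [map_mul, map_mul, Matrix.trace_mul_cycle, ← map_mul, inv_mul_cancel, map_one, one_mul]
    have e1 := hχ ⟨x * (a : S) * x⁻¹, hb⟩
    have e2 := hχ a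
    have e3 : ((S.subtype.comp A.subtype) ⟨x * (a : S) * x⁻¹, hb⟩ :
        Matrix (Fin 2) (Fin 2) F).trace = ((S.subtype.comp A.subtype) a :
        Matrix (Fin 2) (Fin 2) F).trace := htr
    rw [e3] at e1
    have hne : χ ⟨x * (a : S) * x⁻¹, hb⟩ - χ a ≠ 0 := by
      intro h
      apply hba
      exact congrArg Subtype.val (hχi (sub_eq_zero.mp h))
    have e4 : χ ⟨x * (a : S) * x⁻¹, hb⟩ + χ a = algebraMap F (AlgebraicClosure F)
        ((S.subtype.comp A.subtype) a : Matrix (Fin 2) (Fin 2) F).trace := by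
      apply mul_left_cancel₀ hne
      linear_combination e1 - e2
    have e5 : χ (⟨x * (a : S) * x⁻¹, hb⟩ * a) = 1 := by
      rw [map_mul]
      linear_combination χ a * e4 - e2
    have e6 : (⟨x * (a : S) * x⁻¹, hb⟩ * a : A) = 1 := by
      apply hχi
      rw [e5, map_one]
    exact eq_inv_of_mul_eq_one_left (congrArg Subtype.val e6)
  -- scalars `±1`
  have hpm : ∀ s : S, s * s = 1 → s = 1 ∨ mat s = -1 := by
    intro s hs
    rcases eq_one_or_of_sq h2 (s : Matrix.SpecialLinearGroup (Fin 2) F)
      (congrArg Subtype.val hs) with h | h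
    · exact Or.inl (Subtype.ext h)
    · right
      rw [hmat, h]
      simp
  have hneg1 : ∀ s : S, mat s = -1 → s ∈ Subgroup.center S := by
    intro s hs
    apply hscal
    exact ⟨-1, by rw [hs, neg_smul, one_smul]⟩
  have hcenA : ∀ s : S, s ∈ Subgroup.center S → s ∈ A := by
    intro s hs
    rw [memA]
    exact ((Subgroup.mem_center_iff.mp hs) z).symm
  have hxx : x * x ∈ A := Subgroup.mul_self_mem_of_index_two hidx x
  have hxx1 : x * x ≠ 1 := by
    intro h
    rcases hpm x h with h | h
    · exact hx (h ▸ A.one_mem)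
    · exact hx (hcenA x (hneg1 x h))
  have hxxm : mat (x * x) = -1 := by
    refine (hpm (x * x) ?_).resolve_left hxx1
    obtain ⟨j, hj⟩ := hmemzp _ hxx
    have e1 : x * (x * x) * x⁻¹ = x * x := by group
    rw [← hj] at e1 ⊢
    rw [← conj_zpow, hxa] at e1
    nth_rewrite 1 [← e1]
    rw [_root_.inv_zpow, inv_mul_cancel]
  have hn2 : 2 ≤ n := by
    by_contra hlt
    have hz2 : z * z = 1 := by
      have h1 : (⟨z, (memA z).mpr rfl⟩ : A) ^ (2 ^ n) = 1 := by
        rw [← hn]
        exact pow_card_eq_one'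
      have h3 : z ^ (2 ^ n) = 1 := by
        have := congrArg Subtype.val h1
        simpa using this
      have h4 : n = 0 ∨ n = 1 := by omega
      rcases h4 with h4 | h4
      · rw [h4] at h3
        rw [pow_zero, pow_one] at h3
        rw [h3, mul_one]
      · rw [h4, pow_one, pow_two] at h3
        exact h3
    rcases hpm z hz2 with h | h
    · exact hznot (h ▸ (Subgroup.center S).one_mem)
    · exact hznot (hneg1 z h)
  obtain ⟨k, rfl⟩ : ∃ k, n = k + 1 := ⟨n - 1, by omega⟩
  refine ⟨k, by omega, ?_⟩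
  have hord : orderOf (a : S) = 2 * 2 ^ k := by
    rw [horda, hn, pow_succ, mul_comm]
  have hpos : 0 < 2 ^ k := by positivity
  refine Lib.DihedralRecog.quaternion_of_generators (m := 2 ^ k) hpos.ne' (a : S) x hord ?_ hxa
    ?_ ?_
  · have h1 : (a : S) ^ (2 ^ k) ≠ 1 := by
      intro h
      have := orderOf_dvd_of_pow_eq_one h
      rw [hord] at this
      have := Nat.le_of_dvd hpos this
      omega
    have h3 : (a : S) ^ (2 ^ k) * (a : S) ^ (2 ^ k) = 1 := by
      rw [← pow_add, ← two_mul, ← hord]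
      exact pow_orderOf_eq_one _
    have h4 := (hpm _ h3).resolve_left h1
    apply hinj
    rw [hxxm, h4]
  · intro h
    apply hx
    obtain ⟨j, hj⟩ := h
    rw [← hj]
    exact A.zpow_mem a.2 j
  · have h1 := Subgroup.card_mul_index A
    rw [hidx, hn] at h1
    rw [← h1]
    ring

/-- A finite `2`-subgroup of `SL_2(F)`, `F` of odd characteristic, is cyclic or generalized quaternion. -/
theorem cyclic_or_quaternion {F : Type*} [Field F] (p : ℕ) [Fact p.Prime] [CharP F p]
    (hp : p ≠ 2) (S : Subgroup (Matrix.SpecialLinearGroup (Fin 2) F)) [Finite S]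
    (hS : IsPGroup 2 S) :
    IsCyclic S ∨ ∃ k : ℕ, 1 ≤ k ∧ Nonempty (S ≃* QuaternionGroup (2 ^ k)) := by
  by_cases h : ∀ a b : S, a * b = b * a
  · exact Or.inl (isCyclic_of_comm p hp S hS h)
  · exact Or.inr (quaternion_of_not_comm p hp S hS h)

end Cfsg.Agent.LieClassical.SLTwoQuaternion
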