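import Mathlib

/-!
`PSL_2(q)` acts faithfully on the projective line; when it has half the order of the symmetric group
on its `q + 1` points, it is the alternating group of degree `q + 1`.
-/

set_option autoImplicit false

namespace Cfsg.Agent.LieClassical.PSLTwoAlt

open scoped LinearAlgebra.Projectivization

/-- A finite group embedded in the symmetric group of `X` with half its order is the alternating
group. -/
theorem equiv_alternating_of_injective {G X : Type*} [Group G] [Finite X] {n : ℕ}
    (hX : Nat.card X = n) (f : G →* Equiv.Perm X) (hf : Function.Injective f)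
    (hcard : 2 * Nat.card G = n.factorial) : Nonempty (G ≃* alternatingGroup (Fin n)) := by
  classical
  have := Fintype.ofFinite X
  have hc : Fintype.card X = n := by rw [← hX, Nat.card_eq_fintype_card]
  let e : X ≃ Fin n := Fintype.equivFinOfCardEq hc
  let g : G →* Equiv.Perm (Fin n) := (e.permCongrHom : Equiv.Perm X ≃* _).toMonoidHom.comp f
  have hg : Function.Injective g := e.permCongrHom.injective.comp hf
  have h1 : Nat.card g.range = Nat.card G := Nat.card_congr (MonoidHom.ofInjective hg).symm.toEquiv
  have h2 : Nat.card (Equiv.Perm (Fin n)) = n.factorial := by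
    rw [Nat.card_perm, Nat.card_eq_fintype_card, Fintype.card_fin]
  have h3 := Subgroup.index_mul_card g.range
  rw [h1, h2, ← hcard] at h3
  have hpos : 0 < Nat.card G := by
    have := n.factorial_pos
    omega
  have h4 : g.range.index = 2 := Nat.eq_of_mul_eq_mul_right hpos h3
  have h5 := Equiv.Perm.eq_alternatingGroup_of_index_eq_two h4
  exact ⟨(MonoidHom.ofInjective hg).trans (MulEquiv.subgroupCongr h5)⟩

theorem psl_two_equiv_alternating {F : Type*} [Field F] [Fintype F] {n : ℕ}
    (hn : Fintype.card F + 1 = n)
    (hcard : 2 * Nat.card (Matrix.ProjectiveSpecialLinearGroup (Fin 2) F) = n.factorial) :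
    Nonempty (Matrix.ProjectiveSpecialLinearGroup (Fin 2) F ≃* alternatingGroup (Fin n)) := by
  refine equiv_alternating_of_injective (X := ℙ F (Fin 2 → F)) ?_
    Projectivization.PSLAction.toPermHom
    Matrix.ProjectiveSpecialLinearGroup.toPermHom_injective hcard
  rw [Projectivization.card_of_finrank_two F (Fin 2 → F) (by simp), Nat.card_eq_fintype_card, hn]

end Cfsg.Agent.LieClassical.PSLTwoAlt
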