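import Cfsg.Prelude.Def_Classical

/-!
Transfer of the classical groups along an isomorphism of fields (used to replace an abstract finite
field by an explicit one).
-/

set_option autoImplicit false
open Cfsg

namespace Cfsg.Agent.LieClassical.FieldTransfer

open Matrix

/-- Isomorphic groups have isomorphic central quotients. -/
def centralQuotientCongr {G H : Type*} [Group G] [Group H] (e : G ≃* H) :
    G ⧸ Subgroup.center G ≃* H ⧸ Subgroup.center H :=
  QuotientGroup.congr _ _ e (by
    ext y
    constructor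
    · rintro ⟨x, hx, rfl⟩
      rw [Subgroup.mem_center_iff]
      intro z
      have h := (Subgroup.mem_center_iff.1 hx) (e.symm z)
      have h' := congrArg e h
      simpa using h'
    · intro hy
      refine ⟨e.symm y, ?_, by simp⟩
      change e.symm y ∈ Subgroup.center G
      rw [Subgroup.mem_center_iff]
      intro z
      have h := (Subgroup.mem_center_iff.1 hy) (e z)
      have h' := congrArg e.symm h
      simpa using h')

@[simp] theorem centralQuotientCongr_mk {G H : Type*} [Group G] [Group H] (e : G ≃* H) (x : G) :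
    centralQuotientCongr e (QuotientGroup.mk x) = QuotientGroup.mk (e x) := rfl

variable {F K : Type*} [Field F] [Field K]

/-- `SL(ι, F) ≃* SL(ι, K)` along `F ≃+* K`. -/
def slCongr {ι : Type*} [Fintype ι] [DecidableEq ι] (e : F ≃+* K) :
    Matrix.SpecialLinearGroup ι F ≃* Matrix.SpecialLinearGroup ι K where
  toFun := Matrix.SpecialLinearGroup.map (e : F →+* K)
  invFun := Matrix.SpecialLinearGroup.map (e.symm : K →+* F)
  left_inv := by
    intro A
    ext i j
    simp
  right_inv := by
    intro A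
    ext i j
    simp
  map_mul' := map_mul _

@[simp] theorem slCongr_apply {ι : Type*} [Fintype ι] [DecidableEq ι] (e : F ≃+* K)
    (A : Matrix.SpecialLinearGroup ι F) (i j : ι) :
    ((slCongr e A : Matrix.SpecialLinearGroup ι K) : Matrix ι ι K) i j =
      e ((A : Matrix ι ι F) i j) := rfl

theorem coe_slCongr {ι : Type*} [Fintype ι] [DecidableEq ι] (e : F ≃+* K)
    (A : Matrix.SpecialLinearGroup ι F) :
    ((slCongr e A : Matrix.SpecialLinearGroup ι K) : Matrix ι ι K) =
      (A : Matrix ι ι F).map e := rfl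

/-- `PSL(ι, F) ≃* PSL(ι, K)` along `F ≃+* K`. -/
def pslCongr {ι : Type*} [Fintype ι] [DecidableEq ι] (e : F ≃+* K) :
    Matrix.ProjectiveSpecialLinearGroup ι F ≃* Matrix.ProjectiveSpecialLinearGroup ι K :=
  centralQuotientCongr (slCongr e)

theorem hermForm_map (e : F ≃+* K) (n q : ℕ) (u v : Fin n → F) :
    hermForm n K q (fun i => e (u i)) (fun i => e (v i)) = e (hermForm n F q u v) := by
  simp [hermForm]

theorem slCongr_mulVec {ι : Type*} [Fintype ι] [DecidableEq ι] (e : F ≃+* K)
    (A : Matrix.SpecialLinearGroup ι F) (u : ι → F) :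
    (slCongr e A : Matrix ι ι K) *ᵥ (fun i => e (u i)) =
      fun i => e (((A : Matrix ι ι F) *ᵥ u) i) := by
  ext i
  simp [Matrix.mulVec, dotProduct]

theorem mem_SU_iff {n q : ℕ} (A : Matrix.SpecialLinearGroup (Fin n) F) :
    A ∈ Cfsg.SU n F q ↔
      ∀ u v : Fin n → F, hermForm n F q ((A : Matrix (Fin n) (Fin n) F) *ᵥ u)
        ((A : Matrix (Fin n) (Fin n) F) *ᵥ v) = hermForm n F q u v :=
  Iff.rfl

theorem slCongr_mem_SU {n q : ℕ} (e : F ≃+* K) {A : Matrix.SpecialLinearGroup (Fin n) F}
    (hA : A ∈ Cfsg.SU n F q) : slCongr e A ∈ Cfsg.SU n K q := by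
  rw [mem_SU_iff] at hA ⊢
  intro u v
  have hu : u = fun i => e ((fun i => e.symm (u i)) i) := by ext i; simp
  have hv : v = fun i => e ((fun i => e.symm (v i)) i) := by ext i; simp
  rw [hu, hv, slCongr_mulVec, slCongr_mulVec, hermForm_map, hermForm_map, hA]

/-- `SU n F q ≃* SU n K q` along `F ≃+* K`. -/
def suCongr (n : ℕ) (q : ℕ) (e : F ≃+* K) : Cfsg.SU n F q ≃* Cfsg.SU n K q where
  toFun A := ⟨slCongr e A.1, slCongr_mem_SU e A.2⟩
  invFun A := ⟨slCongr e.symm A.1, slCongr_mem_SU e.symm A.2⟩
  left_inv := by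
    intro A
    apply Subtype.ext
    ext i j
    simp
  right_inv := by
    intro A
    apply Subtype.ext
    ext i j
    simp
  map_mul' := by
    intro A B
    apply Subtype.ext
    simp

/-- `PSU n F q ≃* PSU n K q` along `F ≃+* K`. -/
def psuCongr (n : ℕ) (q : ℕ) (e : F ≃+* K) : Cfsg.PSU n F q ≃* Cfsg.PSU n K q :=
  centralQuotientCongr (suCongr n q e)

/-- `Sp ≃* Sp` along `F ≃+* K`. -/
def spCongr (l : Type*) [Fintype l] [DecidableEq l] (e : F ≃+* K) :
    Matrix.symplecticGroup l F ≃* Matrix.symplecticGroup l K where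
  toFun A := ⟨(A : Matrix (l ⊕ l) (l ⊕ l) F).map e,
    SymplecticGroup.map_mem A.2 (e : F →+* K)⟩
  invFun A := ⟨(A : Matrix (l ⊕ l) (l ⊕ l) K).map e.symm,
    SymplecticGroup.map_mem A.2 (e.symm : K →+* F)⟩
  left_inv := by
    intro A
    apply Subtype.ext
    ext i j
    simp
  right_inv := by
    intro A
    apply Subtype.ext
    ext i j
    simp
  map_mul' := by
    intro A B
    apply Subtype.ext
    exact Matrix.map_mul (f := (e : F →+* K))

/-- `PSp ≃* PSp` along `F ≃+* K`. -/
def pspCongr (m : ℕ) (e : F ≃+* K) : Cfsg.PSp m F ≃* Cfsg.PSp m K :=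
  centralQuotientCongr (spCongr (Fin m) e)

end Cfsg.Agent.LieClassical.FieldTransfer
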