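import Mathlib

/-!
`SL 2` over the field with three elements: the normal quaternion subgroup and the centre.
-/

set_option autoImplicit false

namespace Cfsg.Agent.LieClassical.SLTwoThree

open Matrix

/-- Powers of a quaternion of order 4. -/
def qa : ZMod 4 → Matrix (Fin 2) (Fin 2) (ZMod 3) :=
  ![!![1, 0; 0, 1], !![0, 1; -1, 0], !![-1, 0; 0, -1], !![0, -1; 1, 0]]

/-- The quaternion group as matrices. -/
def qm : QuaternionGroup 2 → Matrix (Fin 2) (Fin 2) (ZMod 3)
  | .a i => qa i
  | .xa i => !![1, 1; 1, -1] * qa i

theorem det_qm : ∀ x, (qm x).det = 1 := by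
  decide +kernel

theorem qm_mul : ∀ x y, qm (x * y) = qm x * qm y := by
  decide +kernel

theorem qm_injective : ∀ x y, qm x = qm y → x = y := by
  decide +kernel

/-- The embedding of the quaternion group. -/
def qhom : QuaternionGroup 2 →* SpecialLinearGroup (Fin 2) (ZMod 3) :=
  MonoidHom.mk' (fun x => ⟨qm x, det_qm x⟩) fun x y => Subtype.ext (qm_mul x y)

theorem qhom_injective : Function.Injective qhom := fun x y h =>
  qm_injective x y (congrArg Subtype.val h)

theorem conj_qhom : ∀ (g : SpecialLinearGroup (Fin 2) (ZMod 3)) (x : QuaternionGroup 2),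
    ∃ y, qhom y = g * qhom x * g⁻¹ := by
  decide +kernel

theorem card_sl : Fintype.card (SpecialLinearGroup (Fin 2) (ZMod 3)) = 24 := by
  decide +kernel

theorem range_normal : qhom.range.Normal := by
  constructor
  rintro _ ⟨x, rfl⟩ g
  obtain ⟨y, hy⟩ := conj_qhom g x
  exact ⟨y, hy⟩

theorem card_range : Nat.card qhom.range = 8 := by
  rw [← Nat.card_congr (MonoidHom.ofInjective qhom_injective).toEquiv, Nat.card_eq_fintype_card,
    QuaternionGroup.card]

theorem index_range : qhom.range.index = 3 := by
  have h := Subgroup.card_mul_index qhom.range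
  rw [card_range, Nat.card_eq_fintype_card, card_sl] at h
  omega

theorem card_center :
    Fintype.card (Subgroup.center (SpecialLinearGroup (Fin 2) (ZMod 3))) = 2 := by
  decide +kernel

end Cfsg.Agent.LieClassical.SLTwoThree
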