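import Mathlib
import Cfsg.Agent.SmallSimple.SylowCount

/-!
Groups whose order divides 72 are solvable (elementary Sylow counting).
-/

set_option autoImplicit false

namespace Cfsg.Agent.LieClassical.Order72

open Cfsg.Agent.SmallSimple.Burnside Cfsg.Agent.SmallSimple.SylowCount

theorem isSolvable_of_isPGroup {G : Type*} [Group G] [Finite G] {p : ℕ} [Fact p.Prime]
    (h : IsPGroup p G) : Group.IsSolvable G := by
  have := h.isNilpotent
  infer_instance

theorem card_sylow_dvd_card (p : ℕ) [Fact p.Prime] (G : Type*) [Group G] [Finite G] :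
    Nat.card (Sylow p G) ∣ Nat.card G := by
  obtain ⟨P⟩ : Nonempty (Sylow p G) := inferInstance
  exact (Sylow.card_dvd_index P).trans (P : Subgroup G).index_dvd_card

/-- A simple group of order dividing 72 is a `p`-group for some prime `p`. -/
theorem isPGroup_of_simple {G : Type*} [Group G] [Finite G] [IsSimpleGroup G]
    (h : Nat.card G ∣ 72) : IsPGroup 2 G ∨ IsPGroup 3 G := by
  have h3 : Nat.Prime 3 := Nat.prime_three
  have h2 : Nat.Prime 2 := Nat.prime_two
  have : Fact (Nat.Prime 3) := ⟨h3⟩
  have : Fact (Nat.Prime 2) := ⟨h2⟩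
  have hmem : Nat.card G ∈ Nat.divisors 72 := Nat.mem_divisors.2 ⟨h, by norm_num⟩
  have hdiv : Nat.divisors 72 = {1, 2, 3, 4, 6, 8, 9, 12, 18, 24, 36, 72} := by decide +kernel
  by_cases hd3 : 3 ∣ Nat.card G
  · by_cases hd2 : 2 ∣ Nat.card G
    · exfalso
      have hne3 : Nat.card G ≠ 3 := by
        intro h'
        rw [h'] at hd2
        omega
      have hne2 : Nat.card G ≠ 2 := by
        intro h'
        rw [h'] at hd3
        omega
      have n3 := card_sylow_ne_one (G := G) hd3 hne3
      have n2 := card_sylow_ne_one (G := G) hd2 hne2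
      have f3 := card_dvd_factorial_card_sylow (G := G) hd3 hne3
      have f2 := card_dvd_factorial_card_sylow (G := G) hd2 hne2
      have m3 : Nat.card (Sylow 3 G) % 3 = 1 := by
        have := card_sylow_modEq_one 3 G
        exact this
      have m2 : Nat.card (Sylow 2 G) % 2 = 1 := by
        have := card_sylow_modEq_one 2 G
        exact this
      have d3 := card_sylow_dvd_card 3 G
      have d2 := card_sylow_dvd_card 2 G
      have e3 : Nat.card (Sylow 3 G) = 4 := by
        have hm : Nat.card (Sylow 3 G) ∈ Nat.divisors 72 :=
          Nat.mem_divisors.2 ⟨d3.trans h, by norm_num⟩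
        rw [hdiv] at hm
        simp only [Finset.mem_insert, Finset.mem_singleton] at hm
        omega
      rw [e3] at f3
      have f3' : Nat.card G ∣ 24 := f3
      have hdiv' : Nat.divisors 24 = {1, 2, 3, 4, 6, 8, 12, 24} := by decide +kernel
      have e2 : Nat.card (Sylow 2 G) = 3 := by
        have hm : Nat.card (Sylow 2 G) ∈ Nat.divisors 24 :=
          Nat.mem_divisors.2 ⟨d2.trans f3', by norm_num⟩
        rw [hdiv'] at hm
        simp only [Finset.mem_insert, Finset.mem_singleton] at hm
        omega
      rw [e2] at f2
      have f2' : Nat.card G ∣ 6 := f2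
      rw [e3] at d3
      have : 4 ∣ 6 := d3.trans f2'
      omega
    · right
      have hm := hmem
      rw [hdiv] at hm
      simp only [Finset.mem_insert, Finset.mem_singleton] at hm
      have : Nat.card G = 3 ∨ Nat.card G = 9 := by omega
      rcases this with h' | h'
      · exact IsPGroup.of_card (n := 1) (by rw [h']; norm_num)
      · exact IsPGroup.of_card (n := 2) (by rw [h']; norm_num)
  · left
    have hm := hmem
    rw [hdiv] at hm
    simp only [Finset.mem_insert, Finset.mem_singleton] at hm
    have : Nat.card G = 1 ∨ Nat.card G = 2 ∨ Nat.card G = 4 ∨ Nat.card G = 8 := by omega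
    rcases this with h' | h' | h' | h'
    · exact IsPGroup.of_card (n := 0) (by rw [h']; norm_num)
    · exact IsPGroup.of_card (n := 1) (by rw [h']; norm_num)
    · exact IsPGroup.of_card (n := 2) (by rw [h']; norm_num)
    · exact IsPGroup.of_card (n := 3) (by rw [h']; norm_num)

/-- A general induction: a divisor-closed property of the order, whose simple groups are solvable. -/
theorem isSolvable_of_forall_simple.{u} {m : ℕ}
    (hs : ∀ (G : Type u) [Group G] [Finite G] [IsSimpleGroup G], Nat.card G ∣ m →
      Group.IsSolvable G) :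
    ∀ (n : ℕ) (G : Type u) [Group G] [Finite G], Nat.card G = n → Nat.card G ∣ m →
      Group.IsSolvable G := by
  intro n
  induction n using Nat.strong_induction_on with
  | _ n ih =>
    intro G _ _ hn hm
    rcases subsingleton_or_nontrivial G with hsub | hnt
    · infer_instance
    by_cases hsim : IsSimpleGroup G
    · exact hs G hm
    · have : ∃ N : Subgroup G, N.Normal ∧ N ≠ ⊥ ∧ N ≠ ⊤ := by
        by_contra hcon
        push Not at hcon
        apply hsim
        exact { eq_bot_or_eq_top_of_normal := fun N hN => by
                  by_cases hb : N = ⊥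
                  · exact Or.inl hb
                  · exact Or.inr (hcon N hN hb) }
      obtain ⟨N, hN, hb, ht⟩ := this
      have hmul := Subgroup.card_eq_card_quotient_mul_card_subgroup N
      have hpos : 0 < Nat.card G := Nat.card_pos
      have hNpos : 0 < Nat.card N := Nat.card_pos
      have hQpos : 0 < Nat.card (G ⧸ N) := Nat.card_pos
      have hN1 : Nat.card N ≠ 1 := fun h => hb (Subgroup.card_eq_one.1 h)
      have hQ1 : Nat.card (G ⧸ N) ≠ 1 := fun h => ht (by
        rw [← Subgroup.index_eq_one]
        exact h)
      have h1 : Nat.card N < n := by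
        rw [← hn, hmul]
        have : 2 ≤ Nat.card (G ⧸ N) := by omega
        nlinarith
      have h2 : Nat.card (G ⧸ N) < n := by
        rw [← hn, hmul]
        have : 2 ≤ Nat.card N := by omega
        nlinarith
      have hd1 : Nat.card N ∣ m := (Subgroup.card_subgroup_dvd_card N).trans hm
      have hd2 : Nat.card (G ⧸ N) ∣ m := (Subgroup.card_quotient_dvd_card N).trans hm
      have s1 : Group.IsSolvable N := ih _ h1 N rfl hd1
      have s2 : Group.IsSolvable (G ⧸ N) := ih _ h2 (G ⧸ N) rfl hd2
      exact (Group.isSolvable_iff_subgroup_quotient N).2 ⟨s1, s2⟩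

/-- A finite group of order dividing 72 is solvable. -/
theorem isSolvable_of_card_dvd {G : Type*} [Group G] [Finite G] (h : Nat.card G ∣ 72) :
    Group.IsSolvable G := by
  refine isSolvable_of_forall_simple (m := 72) ?_ (Nat.card G) G rfl h
  intro H _ _ _ hH
  have : Fact (Nat.Prime 3) := ⟨Nat.prime_three⟩
  have : Fact (Nat.Prime 2) := ⟨Nat.prime_two⟩
  rcases isPGroup_of_simple hH with h' | h'
  · exact isSolvable_of_isPGroup h'
  · exact isSolvable_of_isPGroup h'

end Cfsg.Agent.LieClassical.Order72
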