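import Mathlib
import Cfsg.Prelude.Def_Classical

/-!
Common tools for the four-dimensional orthogonal groups: the isometry group of a function on a vector space,
transfer to `Cfsg.isometryGroup`, and recognition of `commutator O ⧸ center` as an explicit group.
-/

set_option autoImplicit false

namespace Cfsg.Agent.LieClassical.OrthFourCommon

open scoped commutatorElement Matrix

section isom

variable {F V : Type*} [Field F] [AddCommGroup V] [Module F V]

/-- Isometries of a function `Q : V → F`, as linear automorphisms. -/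
def isom (Q : V → F) : Subgroup (V ≃ₗ[F] V) where
  carrier := {g | ∀ v, Q (g v) = Q v}
  mul_mem' {a b} ha hb v := (ha (b v)).trans (hb v)
  one_mem' _ := rfl
  inv_mem' {a} ha v := by
    have h := ha (a⁻¹ v)
    rw [← LinearEquiv.mul_apply, mul_inv_cancel] at h
    exact h.symm

theorem mem_isom {Q : V → F} {g : V ≃ₗ[F] V} : g ∈ isom Q ↔ ∀ v, Q (g v) = Q v := Iff.rfl

/-- Invertible matrices as linear automorphisms of a space with a coordinate system. -/
noncomputable def glEquiv {ι : Type} [Fintype ι] [DecidableEq ι] (e : (ι → F) ≃ₗ[F] V) :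
    Matrix.GeneralLinearGroup ι F ≃* (V ≃ₗ[F] V) where
  toFun g := (e.symm.trans (LinearMap.GeneralLinearGroup.generalLinearEquiv F (ι → F)
    (Matrix.GeneralLinearGroup.toLin g))).trans e
  invFun g := Matrix.GeneralLinearGroup.toLin.symm
    ((LinearMap.GeneralLinearGroup.generalLinearEquiv F (ι → F)).symm ((e.trans g).trans e.symm))
  left_inv g := by
    have : (e.trans ((e.symm.trans (LinearMap.GeneralLinearGroup.generalLinearEquiv F (ι → F)
      (Matrix.GeneralLinearGroup.toLin g))).trans e)).trans e.symm =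
      LinearMap.GeneralLinearGroup.generalLinearEquiv F (ι → F)
      (Matrix.GeneralLinearGroup.toLin g) := by
      ext1 v; simp
    simp only [this, MulEquiv.symm_apply_apply]
  right_inv g := by
    simp only [MulEquiv.apply_symm_apply]
    ext1 v; simp
  map_mul' g h := by
    ext1 v
    simp only [map_mul, LinearEquiv.trans_apply, LinearEquiv.mul_apply,
      LinearEquiv.symm_apply_apply]

theorem glEquiv_apply {ι : Type} [Fintype ι] [DecidableEq ι] (e : (ι → F) ≃ₗ[F] V)
    (g : Matrix.GeneralLinearGroup ι F) (v : V) :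
    glEquiv e g v = e ((g : Matrix ι ι F) *ᵥ (e.symm v)) := rfl

/-- The isometry group of `Cfsg` is isomorphic to the abstract one. -/
theorem exists_isometryGroup_equiv {ι : Type} [Fintype ι] [DecidableEq ι] (e : (ι → F) ≃ₗ[F] V)
    (Q : (ι → F) → F) (Q' : V → F) (hQ : ∀ v, Q' (e v) = Q v) :
    Nonempty (Cfsg.isometryGroup F Q ≃* isom Q') := by
  have h : (Cfsg.isometryGroup F Q).map (glEquiv e).toMonoidHom = isom Q' := by
    ext g
    constructor
    · rintro ⟨g, hg, rfl⟩ v
      change Q' (e ((g : Matrix ι ι F) *ᵥ (e.symm v))) = Q' v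
      rw [hQ]
      have h2 : Q ((g : Matrix ι ι F) *ᵥ (e.symm v)) = Q (e.symm v) := hg (e.symm v) 0
      rw [h2, ← hQ, LinearEquiv.apply_symm_apply]
    · intro hg
      refine ⟨(glEquiv e).symm g, ?_, (glEquiv e).apply_symm_apply g⟩
      intro u v
      change Q ((((glEquiv e).symm g : Matrix.GeneralLinearGroup ι F) : Matrix ι ι F) *ᵥ u) = Q u
      have h3 := glEquiv_apply e ((glEquiv e).symm g) (e u)
      rw [MulEquiv.apply_symm_apply, LinearEquiv.symm_apply_apply] at h3
      rw [← hQ, ← h3, hg (e u), hQ]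
  exact ⟨((glEquiv e).subgroupMap (Cfsg.isometryGroup F Q)).trans (MulEquiv.subgroupCongr h)⟩

end isom

/-- Recognition of `O' ⧸ Z(O')` (`O'` the commutator subgroup) from a homomorphism onto the commutator subgroup. -/
theorem quot_equiv {S P O O₁ : Type*} [Group S] [Group P] [Group O] [Group O₁] (ε : O₁ ≃* O)
    (φ : S →* O) (π : S →* P) (hπ : Function.Surjective π) (hφ : φ.range = commutator O)
    (hker : ∀ s, π s = 1 ↔ ∀ t, φ ⁅s, t⁆ = 1) :
    Nonempty ((commutator O₁ ⧸ Subgroup.center (commutator O₁)) ≃* P) := by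
  let φ' : S →* O₁ := ε.symm.toMonoidHom.comp φ
  have hφ' : φ'.range = commutator O₁ := by
    rw [MonoidHom.range_comp, hφ, commutator_def, commutator_def, Subgroup.map_commutator,
      Subgroup.map_top_of_surjective _ ε.symm.surjective]
  have hφ'1 : ∀ s, φ' s = 1 ↔ φ s = 1 := fun s => by
    change ε.symm (φ s) = 1 ↔ _
    exact ⟨fun h => by simpa using congrArg ε h, fun h => by rw [h, map_one]⟩
  let φ₁ : S →* commutator O₁ := φ'.codRestrict _ (fun s => hφ' ▸ ⟨s, rfl⟩)
  have hφ₁ : Function.Surjective φ₁ := by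
    rintro ⟨x, hx⟩
    rw [← hφ'] at hx
    obtain ⟨s, rfl⟩ := hx
    exact ⟨s, rfl⟩
  let ψ : S →* (commutator O₁ ⧸ Subgroup.center (commutator O₁)) :=
    (QuotientGroup.mk' _).comp φ₁
  have hψ : Function.Surjective ψ := (QuotientGroup.mk'_surjective _).comp hφ₁
  have hk : ψ.ker = π.ker := by
    ext s
    rw [MonoidHom.mem_ker, MonoidHom.mem_ker, hker]
    change QuotientGroup.mk' _ (φ₁ s) = 1 ↔ _
    rw [QuotientGroup.mk'_apply, QuotientGroup.eq_one_iff, Subgroup.mem_center_iff]
    constructor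
    · intro h t
      rw [← hφ'1]
      have h1 := h (φ₁ t)
      have h2 : φ' t * φ' s = φ' s * φ' t := congrArg Subtype.val h1
      rw [map_commutatorElement, commutatorElement_eq_one_iff_mul_comm]
      exact h2.symm
    · intro h x
      obtain ⟨t, rfl⟩ := hφ₁ x
      have h1 := h t
      rw [← hφ'1, map_commutatorElement, commutatorElement_eq_one_iff_mul_comm] at h1
      exact Subtype.ext h1.symm
  exact ⟨(QuotientGroup.quotientKerEquivOfSurjective ψ hψ).symm.trans
    ((QuotientGroup.quotientMulEquivOfEq hk).trans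
      (QuotientGroup.quotientKerEquivOfSurjective π hπ))⟩

/-- If every element of `G` is `ψ p` or `ψ p * τ`, the commutator subgroup of `G` lies in the image of a normal
subgroup `Γ₀` of `Γ` as soon as the obvious commutators do. -/
theorem commutator_le_map {Γ G : Type*} [Group Γ] [Group G] (ψ : Γ →* G) (Γ₀ : Subgroup Γ) [Γ₀.Normal]
    (τ : G) (σ : Γ → Γ) (hτ : ∀ p, τ * ψ p * τ⁻¹ = ψ (σ p))
    (hgen : ∀ g : G, ∃ p, g = ψ p ∨ g = ψ p * τ) (h0 : ∀ p q : Γ, ⁅p, q⁆ ∈ Γ₀)
    (hσ : ∀ p ∈ Γ₀, σ p ∈ Γ₀) (h1 : ∀ p, ψ (σ p * p⁻¹) ∈ Γ₀.map ψ) :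
    commutator G ≤ Γ₀.map ψ := by
  have hN : (Γ₀.map ψ).Normal := by
    refine ⟨?_⟩
    rintro _ ⟨p, hp, rfl⟩ g
    obtain ⟨q, rfl | rfl⟩ := hgen g
    · exact ⟨q * p * q⁻¹, Subgroup.Normal.conj_mem inferInstance p hp q, by simp⟩
    · refine ⟨q * σ p * q⁻¹, Subgroup.Normal.conj_mem inferInstance _ (hσ p hp) q, ?_⟩
      rw [map_mul, map_mul, ← hτ, map_inv]
      simp only [mul_assoc, mul_inv_rev]
  rw [← Subgroup.Normal.quotient_commutative_iff_commutator_le]
  have hpq : ∀ p q, Commute (QuotientGroup.mk' (Γ₀.map ψ) (ψ p)) (QuotientGroup.mk' (Γ₀.map ψ) (ψ q)) := by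
    intro p q
    rw [← commutatorElement_eq_one_iff_commute, ← map_commutatorElement, ← map_commutatorElement,
      QuotientGroup.mk'_apply, QuotientGroup.eq_one_iff]
    exact ⟨_, h0 p q, rfl⟩
  have hpτ : ∀ p, Commute (QuotientGroup.mk' (Γ₀.map ψ) (ψ p)) (QuotientGroup.mk' (Γ₀.map ψ) τ) := by
    intro p
    have h2 : QuotientGroup.mk' (Γ₀.map ψ) (ψ (σ p)) = QuotientGroup.mk' (Γ₀.map ψ) (ψ p) := by
      rw [← mul_inv_eq_one, ← map_inv, ← map_mul, ← map_inv, ← map_mul, QuotientGroup.mk'_apply,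
        QuotientGroup.eq_one_iff]
      exact h1 p
    have h3 : QuotientGroup.mk' (Γ₀.map ψ) (τ * ψ p) = QuotientGroup.mk' (Γ₀.map ψ) (ψ (σ p) * τ) := by
      rw [← hτ]; congr 1; group
    rw [map_mul, map_mul, h2] at h3
    exact h3.symm
  refine ⟨⟨?_⟩⟩
  intro x y
  obtain ⟨g, rfl⟩ := QuotientGroup.mk'_surjective _ x
  obtain ⟨h, rfl⟩ := QuotientGroup.mk'_surjective _ y
  obtain ⟨p, rfl | rfl⟩ := hgen g <;> obtain ⟨q, rfl | rfl⟩ := hgen h
  · exact hpq p q
  · rw [map_mul]; exact (hpq p q).mul_right (hpτ p)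
  · rw [map_mul]; exact (hpq p q).mul_left (hpτ q).symm
  · rw [map_mul, map_mul]
    exact ((hpq p q).mul_left (hpτ q).symm).mul_right ((hpτ p).mul_left (Commute.refl _))

end Cfsg.Agent.LieClassical.OrthFourCommon
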