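import Mathlib
import Cfsg.Agent.LieClassical.OrthFourCommon

/-!
The isometry group of the form `x y + N(z)` on `F × F × E`, `E` a quadratic extension of the field `F`
(Hermitian 2 × 2 matrices over `E`).
-/

set_option autoImplicit false

namespace Cfsg.Agent.LieClassical.OrthFourMinus

open scoped commutatorElement Matrix MatrixGroups
open Cfsg.Agent.LieClassical.OrthFourCommon
open QuadraticAlgebra

variable {F : Type*} [Field F] {c d : F}

/-- the quadratic algebra -/
abbrev E (F : Type*) [Field F] (c d : F) := QuadraticAlgebra F c d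

/-- the space -/
abbrev V (F : Type*) [Field F] (c d : F) := F × F × E F c d

abbrev ME (F : Type*) [Field F] (c d : F) := Matrix (Fin 2) (Fin 2) (E F c d)

/-- the form -/
def Q (c d : F) (v : V F c d) : F := v.1 * v.2.1 + norm v.2.2

theorem star_algebraMap (r : F) : star (algebraMap F (E F c d) r) = algebraMap F (E F c d) r := by
  ext <;> simp

theorem star_smul' (r : F) (z : E F c d) : star (r • z) = r • star z := by
  ext
  · simp; ring
  · simp

/-- a vector as a Hermitian matrix -/
def toM : V F c d →ₗ[F] ME F c d where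
  toFun v := !![algebraMap F _ v.1, v.2.2; star v.2.2, -(algebraMap F _ v.2.1)]
  map_add' v w := by
    ext1 i j; fin_cases i <;> fin_cases j <;> simp [add_comm]
  map_smul' r v := by
    ext1 i j; fin_cases i <;> fin_cases j <;> simp [star_algebraMap, Algebra.smul_def]

theorem toM_apply (v : V F c d) :
    toM v = !![algebraMap F _ v.1, v.2.2; star v.2.2, -(algebraMap F _ v.2.1)] := rfl

theorem toM_injective : Function.Injective (toM (F := F) (c := c) (d := d)) := by
  intro v w h
  rw [toM_apply, toM_apply] at h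
  have h00 := congrFun (congrFun h 0) 0
  have h01 := congrFun (congrFun h 0) 1
  have h11 := congrFun (congrFun h 1) 1
  simp only [Matrix.of_apply, Matrix.cons_val', Matrix.cons_val_zero, Matrix.cons_val_one,
    Matrix.cons_val_fin_one, neg_inj] at h00 h01 h11
  exact Prod.ext (algebraMap_injective h00) (Prod.ext (algebraMap_injective h11) h01)

/-- the action of a matrix -/
def actFun (A : ME F c d) (v : V F c d) : V F c d :=
  (norm (A 0 0) * v.1 - norm (A 0 1) * v.2.1 + trace (A 0 0 * star (A 0 1) * v.2.2),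
   norm (A 1 1) * v.2.1 - norm (A 1 0) * v.1 - trace (A 1 0 * star (A 1 1) * v.2.2),
   A 0 0 * star (A 1 0) * algebraMap F _ v.1 - A 0 1 * star (A 1 1) * algebraMap F _ v.2.1 +
    A 0 0 * star (A 1 1) * v.2.2 + A 0 1 * star (A 1 0) * star v.2.2)

theorem toM_actFun (A : ME F c d) (v : V F c d) : toM (actFun A v) = A * toM v * Aᴴ := by
  rw [toM_apply, toM_apply]
  have hA : Aᴴ = !![star (A 0 0), star (A 1 0); star (A 0 1), star (A 1 1)] := by
    ext1 i j; fin_cases i <;> fin_cases j <;> rfl
  rw [hA]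
  conv_rhs => rw [Matrix.eta_fin_two A]
  rw [Matrix.mul_fin_two, Matrix.mul_fin_two]
  ext1 i j
  fin_cases i <;> fin_cases j
  · simp [actFun, algebraMap_norm_eq_mul_star, algebraMap_trace_eq_add_star]
    ring
  · simp [actFun]
    ring
  · simp [actFun, star_algebraMap]
    ring
  · simp [actFun, algebraMap_norm_eq_mul_star, algebraMap_trace_eq_add_star]
    ring

/-- the action as a homomorphism -/
def act : ME F c d →* (V F c d →ₗ[F] V F c d) where
  toFun A :=
    { toFun := actFun A
      map_add' := fun v w => toM_injective (by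
        rw [toM_actFun, map_add, map_add, toM_actFun, toM_actFun, mul_add, add_mul])
      map_smul' := fun r v => toM_injective (by
        rw [toM_actFun, map_smul, map_smul, toM_actFun, RingHom.id_apply, Matrix.mul_smul,
          Matrix.smul_mul]) }
  map_one' := by
    refine LinearMap.ext fun v => toM_injective ?_
    change toM (actFun 1 v) = toM v
    rw [toM_actFun, Matrix.conjTranspose_one, one_mul, mul_one]
  map_mul' A B := by
    refine LinearMap.ext fun v => toM_injective ?_
    change toM (actFun (A * B) v) = toM (actFun A (actFun B v))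
    rw [toM_actFun, toM_actFun, toM_actFun, Matrix.conjTranspose_mul]
    simp only [mul_assoc]

theorem algebraMap_Q (v : V F c d) : algebraMap F (E F c d) (Q c d v) = -(toM v).det := by
  rw [toM_apply, Matrix.det_fin_two_of, Q, map_add, map_mul, algebraMap_norm_eq_mul_star]
  ring

theorem Q_act (A : ME F c d) (v : V F c d) : Q c d (act A v) = norm A.det * Q c d v := by
  refine algebraMap_injective (a := c) (b := d) ?_
  change algebraMap F _ (Q c d (actFun A v)) = _
  rw [algebraMap_Q, toM_actFun, Matrix.det_mul, Matrix.det_mul, Matrix.det_conjTranspose, map_mul,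
    algebraMap_norm_eq_mul_star, algebraMap_Q]
  ring

/-- matrices with determinant of norm one -/
def Gam (F : Type*) [Field F] (c d : F) : Subgroup (GL (Fin 2) (E F c d)) where
  carrier := {g | norm (g : ME F c d).det = 1}
  mul_mem' {g h} hg hh := by
    change norm ((g * h : GL (Fin 2) (E F c d)) : ME F c d).det = 1
    rw [Units.val_mul, Matrix.det_mul, map_mul, hg, hh, one_mul]
  one_mem' := by
    change norm ((1 : GL (Fin 2) (E F c d)) : ME F c d).det = 1
    rw [Units.val_one, Matrix.det_one, map_one]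
  inv_mem' {g} hg := by
    change norm ((g⁻¹ : GL (Fin 2) (E F c d)) : ME F c d).det = 1
    have h1 : norm ((g * g⁻¹ : GL (Fin 2) (E F c d)) : ME F c d).det = 1 := by
      rw [mul_inv_cancel, Units.val_one, Matrix.det_one, map_one]
    rw [Units.val_mul, Matrix.det_mul, map_mul, hg, one_mul] at h1
    exact h1

theorem mem_Gam {g : GL (Fin 2) (E F c d)} : g ∈ Gam F c d ↔ norm (g : ME F c d).det = 1 := Iff.rfl

/-- the homomorphism to the isometries -/
def psi : Gam F c d →* isom (Q c d) where
  toFun p := ⟨LinearMap.GeneralLinearGroup.generalLinearEquiv F (V F c d) (Units.map act p.1), fun v => by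
    change Q c d (act (p.1 : ME F c d) v) = _
    rw [Q_act, mem_Gam.1 p.2, one_mul]⟩
  map_one' := Subtype.ext (by
    change LinearMap.GeneralLinearGroup.generalLinearEquiv F (V F c d) (Units.map act 1) = 1
    rw [map_one, map_one])
  map_mul' p q := Subtype.ext (by
    change LinearMap.GeneralLinearGroup.generalLinearEquiv F (V F c d) (Units.map act (p.1 * q.1)) = _
    rw [map_mul, map_mul]; rfl)

theorem psi_apply (p : Gam F c d) (v : V F c d) : (psi p).1 v = actFun (p.1 : ME F c d) v := rfl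

theorem toM_psi (p : Gam F c d) (v : V F c d) :
    toM ((psi p).1 v) = (p.1 : ME F c d) * toM v * (p.1 : ME F c d)ᴴ := toM_actFun _ _

/-- an element of `Gam` from a matrix -/
noncomputable def mkG (A : ME F c d) (h : norm A.det = 1) : Gam F c d :=
  ⟨Matrix.GeneralLinearGroup.mk'' A (by rw [isUnit_iff_norm_isUnit, h]; exact isUnit_one), h⟩

theorem psi_mkG_apply (A : ME F c d) (h : norm A.det = 1) (v : V F c d) :
    (psi (mkG A h)).1 v = actFun A v := rfl

theorem fix_of_eq (g : isom (Q c d)) (p : Gam F c d) (v : V F c d) (h : (psi p).1 v = g.1 v) :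
    (psi p⁻¹ * g).1 v = v := by
  change (psi p⁻¹).1 (g.1 v) = v
  rw [← h, map_inv]
  change ((psi p)⁻¹ * psi p).1 v = v
  rw [inv_mul_cancel]; rfl

theorem Q_add_eq (g : isom (Q c d)) (v w : V F c d) : Q c d (g.1 v + g.1 w) = Q c d (v + w) := by
  rw [← LinearEquiv.map_add]; exact g.2 (v + w)

theorem Q_eq (g : isom (Q c d)) (v : V F c d) : Q c d (g.1 v) = Q c d v := g.2 v

/-- conjugation -/
def tauLin : V F c d ≃ₗ[F] V F c d where
  toFun v := (v.1, v.2.1, star v.2.2)
  map_add' v w := by simp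
  map_smul' r v := by
    refine Prod.ext rfl (Prod.ext rfl ?_)
    exact star_smul' r v.2.2
  invFun v := (v.1, v.2.1, star v.2.2)
  left_inv v := by simp
  right_inv v := by simp

def tau : isom (Q c d) := ⟨tauLin, fun v => by
  change v.1 * v.2.1 + norm (star v.2.2) = v.1 * v.2.1 + norm v.2.2
  rw [QuadraticAlgebra.norm_star]⟩

theorem tau_apply (v : V F c d) : (tau (c := c) (d := d)).1 v = (v.1, v.2.1, star v.2.2) := rfl

theorem toM_tau (v : V F c d) : toM ((tau (c := c) (d := d)).1 v) = (toM v).map star := by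
  rw [tau_apply, toM_apply, toM_apply]
  ext1 i j; fin_cases i <;> fin_cases j <;> simp [star_algebraMap]

/-- entrywise conjugation on `Gam` -/
noncomputable def sw (p : Gam F c d) : Gam F c d :=
  ⟨Matrix.GeneralLinearGroup.map (starRingEnd (E F c d)) p.1, by
    rw [mem_Gam]
    change norm ((starRingEnd (E F c d)).mapMatrix (p.1 : ME F c d)).det = 1
    rw [← RingHom.map_det]
    change norm (star (p.1 : ME F c d).det) = 1
    rw [QuadraticAlgebra.norm_star]; exact p.2⟩

theorem sw_coe (p : Gam F c d) : ((sw p).1 : ME F c d) = (p.1 : ME F c d).map star := rfl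

theorem map_star_mul (A B : ME F c d) : (A * B).map star = A.map star * B.map star :=
  RingHom.map_mul (starRingEnd (E F c d)).mapMatrix A B

theorem tau_conj (p : Gam F c d) : tau * psi p * tau⁻¹ = psi (sw p) := by
  rw [mul_inv_eq_iff_eq_mul]
  refine Subtype.ext (LinearEquiv.ext fun v => toM_injective ?_)
  change toM ((tau (c := c) (d := d)).1 ((psi p).1 v)) = toM ((psi (sw p)).1 ((tau (c := c) (d := d)).1 v))
  rw [toM_tau, toM_psi, toM_psi, toM_tau, map_star_mul, map_star_mul, sw_coe]
  rfl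

section field

variable [hab : Fact (∀ r : F, r ^ 2 ≠ c + d * r)]

theorem step1 (hs : ∀ r : F, ∃ z : E F c d, norm z = r) (g : isom (Q c d)) :
    ∃ p : Gam F c d, (psi p * g).1 (1, 0, 0) = (1, 0, 0) := by
  obtain ⟨⟨x, y, z⟩, hv⟩ : ∃ v : V F c d, g.1 (1, 0, 0) = v := ⟨_, rfl⟩
  have e1 : x * y + norm z = 0 := by
    have := Q_eq g (1, 0, 0)
    rw [hv] at this
    simpa [Q] using this
  have hne : ¬ (x = 0 ∧ y = 0) := by
    rintro ⟨rfl, rfl⟩
    have hz : z = 0 := by
      rw [← norm_eq_zero_iff_eq_zero]; simpa using e1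
    subst hz
    have h0 : g.1 ((1, 0, 0) : V F c d) = 0 := by rw [hv]; rfl
    rw [LinearEquiv.map_eq_zero_iff] at h0
    exact one_ne_zero (congrArg Prod.fst h0)
  by_cases hx : x = 0
  · subst hx
    have hz : z = 0 := by
      rw [← norm_eq_zero_iff_eq_zero]; simpa using e1
    subst hz
    have hy : y ≠ 0 := fun h => hne ⟨rfl, h⟩
    obtain ⟨γ, hγ⟩ := hs (-y)
    have hγ0 : γ ≠ 0 := by
      rintro rfl
      rw [QuadraticAlgebra.norm_zero] at hγ
      exact hy (neg_eq_zero.1 hγ.symm)
    have hdet : norm (!![0, -γ⁻¹; γ, 0] : ME F c d).det = 1 := by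
      rw [Matrix.det_fin_two_of]
      have : (0 * 0 - -γ⁻¹ * γ : E F c d) = 1 := by field_simp; ring
      rw [this, map_one]
    refine ⟨(mkG _ hdet)⁻¹, fix_of_eq _ _ _ ?_⟩
    rw [psi_mkG_apply, hv]
    simp [actFun, hγ]
  · obtain ⟨α, hα⟩ := hs x
    have hα0 : α ≠ 0 := by
      rintro rfl
      rw [QuadraticAlgebra.norm_zero] at hα
      exact hx hα.symm
    obtain ⟨w, hw⟩ : ∃ w, α * w = z := ⟨z / α, mul_div_cancel₀ _ hα0⟩
    have hdet : norm (!![α, 0; star w, α⁻¹] : ME F c d).det = 1 := by
      rw [Matrix.det_fin_two_of]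
      have : (α * α⁻¹ - 0 * star w : E F c d) = 1 := by
        rw [mul_inv_cancel₀ hα0]; ring
      rw [this, map_one]
    refine ⟨(mkG _ hdet)⁻¹, fix_of_eq _ _ _ ?_⟩
    rw [psi_mkG_apply, hv]
    have h2 : norm w = - y := by
      have h3 : norm w * norm α = norm z := by rw [← map_mul, mul_comm, hw]
      rw [hα] at h3
      have h4 : (norm w + y) * x = 0 := by linear_combination h3 + e1
      have h5 := (mul_eq_zero.1 h4).resolve_right hx
      linear_combination h5
    simp [actFun, hα, h2, hw]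

theorem step2 (g : isom (Q c d)) (h1 : g.1 (1, 0, 0) = (1, 0, 0)) :
    ∃ p : Gam F c d, (psi p * g).1 (1, 0, 0) = (1, 0, 0) ∧ (psi p * g).1 (0, 1, 0) = (0, 1, 0) := by
  obtain ⟨⟨x, y, z⟩, hv⟩ : ∃ v : V F c d, g.1 (0, 1, 0) = v := ⟨_, rfl⟩
  have e1 : x * y + norm z = 0 := by
    have := Q_eq g (0, 1, 0)
    rw [hv] at this
    simpa [Q] using this
  have e2 : y = 1 := by
    have := Q_add_eq g (1, 0, 0) (0, 1, 0)
    rw [hv, h1] at this
    simp [Q] at this
    linear_combination this - e1
  subst e2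
  have hdet : norm (!![1, -z; 0, 1] : ME F c d).det = 1 := by
    rw [Matrix.det_fin_two_of]
    simp
  refine ⟨(mkG _ hdet)⁻¹, fix_of_eq _ _ _ ?_, fix_of_eq _ _ _ ?_⟩
  · rw [psi_mkG_apply, h1]
    simp [actFun]
  · rw [psi_mkG_apply, hv]
    simp [actFun]
    linear_combination -e1

omit hab in
theorem apply_third (g : isom (Q c d)) (h1 : g.1 (1, 0, 0) = (1, 0, 0)) (h2 : g.1 (0, 1, 0) = (0, 1, 0))
    (z : E F c d) : ∃ w, g.1 (0, 0, z) = (0, 0, w) ∧ norm w = norm z := by
  obtain ⟨⟨x, y, w⟩, hv⟩ : ∃ v : V F c d, g.1 (0, 0, z) = v := ⟨_, rfl⟩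
  have e1 : x * y + norm w = norm z := by
    have := Q_eq g (0, 0, z)
    rw [hv] at this
    simpa [Q] using this
  have e2 : y = 0 := by
    have := Q_add_eq g (1, 0, 0) (0, 0, z)
    rw [hv, h1] at this
    simp [Q] at this
    linear_combination this - e1
  have e3 : x = 0 := by
    have := Q_add_eq g (0, 1, 0) (0, 0, z)
    rw [hv, h2] at this
    simp [Q] at this
    linear_combination this - e1
  subst e2; subst e3
  exact ⟨w, hv, by linear_combination e1⟩

theorem step3 (g : isom (Q c d)) (h1 : g.1 (1, 0, 0) = (1, 0, 0)) (h2 : g.1 (0, 1, 0) = (0, 1, 0)) :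
    ∃ p : Gam F c d, (psi p * g).1 (1, 0, 0) = (1, 0, 0) ∧ (psi p * g).1 (0, 1, 0) = (0, 1, 0) ∧
      (psi p * g).1 (0, 0, 1) = (0, 0, 1) := by
  obtain ⟨u, hu, hn⟩ := apply_third g h1 h2 1
  rw [map_one] at hn
  have hdet : norm (!![u, 0; 0, 1] : ME F c d).det = 1 := by
    rw [Matrix.det_fin_two_of]
    simp [hn]
  refine ⟨(mkG _ hdet)⁻¹, fix_of_eq _ _ _ ?_, fix_of_eq _ _ _ ?_, fix_of_eq _ _ _ ?_⟩
  · rw [psi_mkG_apply, h1]
    simp [actFun, hn]
  · rw [psi_mkG_apply, h2]
    simp [actFun]
  · rw [psi_mkG_apply, hu]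
    simp [actFun]

theorem step4 (g : isom (Q c d)) (h1 : g.1 (1, 0, 0) = (1, 0, 0)) (h2 : g.1 (0, 1, 0) = (0, 1, 0))
    (h3 : g.1 (0, 0, 1) = (0, 0, 1)) : g = 1 ∨ g = tau := by
  obtain ⟨w, hw, hn⟩ := apply_third g h1 h2 (omega (a := c) (b := d))
  have ht : trace w = d := by
    have := Q_add_eq g (0, 0, 1) (0, 0, omega)
    rw [hw, h3] at this
    simp only [Q, Prod.mk_add_mk, add_zero, mul_zero, zero_add] at this
    rw [norm_def, norm_def] at this hn
    rw [trace_def]
    simp at this hn
    linear_combination this - hn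
  have hn' : norm w = -c := by rw [hn, norm_def]; simp
  have hq : (w - omega) * (w - star omega) = 0 := by
    have e1 := sq_sub_trace_smul_add_norm_eq_zero w
    rw [ht, hn'] at e1
    have e2 : omega (a := c) (b := d) * star omega = algebraMap F _ (-c) := by
      rw [← algebraMap_norm_eq_mul_star]; congr 1; rw [norm_def]; simp
    have e3 : omega (a := c) (b := d) + star omega = algebraMap F _ d := by
      rw [← algebraMap_trace_eq_add_star, trace_omega]
    rw [Algebra.smul_def] at e1
    linear_combination e1 + e2 - w * e3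
  have hv : ∀ v : V F c d, g.1 v = (v.1, v.2.1, v.2.2.re • 1 + v.2.2.im • w) := by
    intro v
    have : v = v.1 • (1, 0, 0) + v.2.1 • (0, 1, 0) + v.2.2.re • (0, 0, 1) + v.2.2.im • (0, 0, omega) := by
      refine Prod.ext ?_ (Prod.ext ?_ ?_)
      · simp
      · simp
      · ext <;> simp
    conv_lhs => rw [this]
    rw [LinearEquiv.map_add, LinearEquiv.map_add, LinearEquiv.map_add, LinearEquiv.map_smul,
      LinearEquiv.map_smul, LinearEquiv.map_smul, LinearEquiv.map_smul, h1, h2, h3, hw]
    refine Prod.ext ?_ (Prod.ext ?_ ?_) <;> simp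
  rcases mul_eq_zero.1 hq with h | h
  · left
    have hw' : w = omega := sub_eq_zero.1 h
    refine Subtype.ext (LinearEquiv.ext fun v => ?_)
    rw [hv, hw']
    change _ = v
    refine Prod.ext rfl (Prod.ext rfl ?_)
    ext <;> simp
  · right
    have hw' : w = star omega := sub_eq_zero.1 h
    refine Subtype.ext (LinearEquiv.ext fun v => ?_)
    rw [hv, hw', tau_apply]
    refine Prod.ext rfl (Prod.ext rfl ?_)
    ext <;> simp
    ring

theorem exists_eq (hs : ∀ r : F, ∃ z : E F c d, norm z = r) (g : isom (Q c d)) :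
    ∃ p : Gam F c d, g = psi p ∨ g = psi p * tau := by
  have key : ∀ (g : isom (Q c d)) (q : Gam F c d), (∃ p : Gam F c d, psi q * g = psi p ∨ psi q * g = psi p * tau) →
      ∃ p : Gam F c d, g = psi p ∨ g = psi p * tau := by
    rintro g q ⟨p, hp⟩
    refine ⟨q⁻¹ * p, ?_⟩
    rw [map_mul, map_inv]
    rcases hp with h | h
    · left; rw [← h]; group
    · right; rw [mul_assoc, ← h]; group
  obtain ⟨p1, h1⟩ := step1 hs g
  obtain ⟨p2, h2, h2'⟩ := step2 _ h1
  obtain ⟨p3, h3, h3', h3''⟩ := step3 _ h2 h2'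
  refine key _ p1 (key _ p2 (key _ p3 ?_))
  rcases step4 _ h3 h3' h3'' with h | h
  · exact ⟨1, Or.inl (by rw [h, map_one])⟩
  · exact ⟨1, Or.inr (by rw [h, map_one, one_mul])⟩

end field

/-- matrices of determinant one -/
def Gam0 (F : Type*) [Field F] (c d : F) : Subgroup (Gam F c d) where
  carrier := {p | p.1.det = 1}
  mul_mem' {p q} hp hq := by
    change (p.1 * q.1).det = 1
    rw [map_mul, hp, hq, one_mul]
  one_mem' := map_one _
  inv_mem' {p} hp := by
    change (p.1⁻¹).det = 1
    rw [map_inv, hp, inv_one]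

theorem mem_Gam0 {p : Gam F c d} : p ∈ Gam0 F c d ↔ p.1.det = 1 := Iff.rfl

instance instNormalGam0 : (Gam0 F c d).Normal := ⟨fun p hp q => by
  rw [mem_Gam0] at *
  change (q.1 * p.1 * q.1⁻¹).det = 1
  rw [map_mul, map_mul, map_inv, hp, mul_one, mul_inv_cancel]⟩

/-- embedding of `SL` -/
def inc : SL(2, E F c d) →* Gam F c d where
  toFun s := ⟨s.toGL, by
    rw [mem_Gam]
    change norm s.1.det = 1
    rw [s.2, map_one]⟩
  map_one' := Subtype.ext (map_one _)
  map_mul' s t := Subtype.ext (map_mul _ _ _)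

/-- the homomorphism from `SL` to the isometries -/
def phi : SL(2, E F c d) →* isom (Q c d) := psi.comp inc

theorem phi_apply (s : SL(2, E F c d)) (v : V F c d) : (phi s).1 v = actFun s.1 v := rfl

theorem inc_range : (inc (F := F) (c := c) (d := d)).range = Gam0 F c d := by
  ext p
  constructor
  · rintro ⟨s, rfl⟩
    rw [mem_Gam0]; ext1
    rw [Matrix.GeneralLinearGroup.val_det_apply]
    exact s.2
  · intro hp
    refine ⟨⟨p.1, ?_⟩, ?_⟩
    · rw [← Matrix.GeneralLinearGroup.val_det_apply, mem_Gam0.1 hp]; rfl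
    · exact Subtype.ext (Units.ext rfl)

theorem phi_range : (phi (F := F) (c := c) (d := d)).range = (Gam0 F c d).map psi := by
  rw [phi, MonoidHom.range_comp, inc_range]

/-- scalar matrices of norm one -/
noncomputable def scal (u : E F c d) (hu : norm u = 1) : Gam F c d :=
  mkG (u • 1) (by rw [Matrix.det_smul, Matrix.det_one, mul_one, map_pow, hu, one_pow])

theorem psi_scal (u : E F c d) (hu : norm u = 1) : psi (scal u hu) = 1 := by
  refine Subtype.ext (LinearEquiv.ext fun v => toM_injective ?_)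
  rw [toM_psi]
  change (u • (1 : ME F c d)) * toM v * (u • (1 : ME F c d))ᴴ = toM v
  rw [Matrix.conjTranspose_smul, Matrix.conjTranspose_one, Matrix.smul_mul, Matrix.mul_smul,
    one_mul, mul_one, smul_smul, mul_comm, ← algebraMap_norm_eq_mul_star, hu, map_one, one_smul]

theorem commutator_le' (hgen : ∀ g : isom (Q c d), ∃ p : Gam F c d, g = psi p ∨ g = psi p * tau) :
    commutator (isom (Q c d)) ≤ (phi (F := F) (c := c) (d := d)).range := by
  rw [phi_range]
  refine commutator_le_map psi (Gam0 F c d) tau sw tau_conj hgen ?_ ?_ ?_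
  · intro p q
    rw [mem_Gam0]
    change (⁅p.1, q.1⁆).det = 1
    rw [map_commutatorElement, commutatorElement_eq_one_iff_mul_comm, mul_comm]
  · intro p hp
    rw [mem_Gam0] at *
    ext1
    rw [Matrix.GeneralLinearGroup.val_det_apply]
    change ((starRingEnd (E F c d)).mapMatrix (p.1 : ME F c d)).det = 1
    rw [← RingHom.map_det, ← Matrix.GeneralLinearGroup.val_det_apply, hp]
    exact map_one _
  · intro p
    have hn : norm (p.1 : ME F c d).det = 1 := p.2
    refine ⟨scal (p.1 : ME F c d).det hn * (sw p * p⁻¹), ?_, ?_⟩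
    · change (scal (p.1 : ME F c d).det hn * (sw p * p⁻¹)).1.det = 1
      change ((scal (p.1 : ME F c d).det hn).1 * ((sw p).1 * p.1⁻¹)).det = 1
      rw [map_mul, map_mul, map_inv, ← mul_assoc, mul_inv_eq_one]
      ext1
      rw [Units.val_mul, Matrix.GeneralLinearGroup.val_det_apply,
        Matrix.GeneralLinearGroup.val_det_apply, Matrix.GeneralLinearGroup.val_det_apply]
      change ((p.1 : ME F c d).det • (1 : ME F c d)).det *
        ((starRingEnd (E F c d)).mapMatrix (p.1 : ME F c d)).det = _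
      rw [← RingHom.map_det, Matrix.det_smul, Matrix.det_one, mul_one, Fintype.card_fin]
      change (p.1 : ME F c d).det ^ 2 * star (p.1 : ME F c d).det = (p.1 : ME F c d).det
      rw [pow_two, mul_assoc, ← algebraMap_norm_eq_mul_star, hn, map_one, mul_one]
    · rw [map_mul, psi_scal, one_mul]

section field2

variable [hab : Fact (∀ r : F, r ^ 2 ≠ c + d * r)]

theorem omega_sq_ne : (omega (a := c) (b := d)) ^ 2 ≠ 1 := by
  intro h
  rw [pow_two, omega_mul_omega_eq_mk] at h
  have h1 : c = 1 := congrArg QuadraticAlgebra.re h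
  have h2 : d = 0 := congrArg QuadraticAlgebra.im h
  refine hab.out 1 ?_
  rw [h1, h2]; ring

omit hab in
theorem omega_ne : (omega (a := c) (b := d)) ≠ 0 := by
  intro h
  have h2 : (1 : F) = 0 := congrArg QuadraticAlgebra.im h
  exact one_ne_zero h2

theorem commutator_SL : commutator SL(2, E F c d) = ⊤ :=
  Matrix.SL2.commutator_eq_top (omega_ne (c := c) (d := d)) omega_sq_ne

theorem le_commutator : (phi (F := F) (c := c) (d := d)).range ≤ commutator (isom (Q c d)) := by
  rw [MonoidHom.range_eq_map, ← commutator_SL, commutator_def, Subgroup.map_commutator, commutator_def]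
  exact Subgroup.commutator_mono le_top le_top

theorem mem_center_of_phi_eq_one {s : SL(2, E F c d)} (h : phi s = 1) :
    s ∈ Subgroup.center SL(2, E F c d) := by
  have h1 : actFun s.1 (1, 0, 0) = ((1, 0, 0) : V F c d) := by
    rw [← phi_apply, h]; rfl
  have h2 : actFun s.1 (0, 1, 0) = ((0, 1, 0) : V F c d) := by
    rw [← phi_apply, h]; rfl
  have h3 : actFun s.1 (0, 0, 1) = ((0, 0, 1) : V F c d) := by
    rw [← phi_apply, h]; rfl
  simp only [actFun, Prod.mk.injEq, mul_one, mul_zero, map_zero, map_one, zero_sub, sub_zero,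
    add_zero, neg_eq_zero, zero_add] at h1 h2 h3
  obtain ⟨h11, h12, h13⟩ := h1
  obtain ⟨h21, h22, h23⟩ := h2
  obtain ⟨h31, h32, h33⟩ := h3
  have hc : s.1 1 0 = 0 := norm_eq_zero_iff_eq_zero.1 h12
  have hb : s.1 0 1 = 0 := norm_eq_zero_iff_eq_zero.1 h21
  have hd : s.1 0 0 * s.1 1 1 = 1 := by
    have := s.2
    rw [Matrix.det_fin_two, hb, zero_mul, sub_zero] at this
    exact this
  have ha : s.1 0 0 * star (s.1 0 0) = 1 := by
    rw [← algebraMap_norm_eq_mul_star, h11, map_one]
  rw [hc, star_zero, mul_zero, zero_mul, add_zero] at h33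
  have ha0 : s.1 0 0 ≠ 0 := left_ne_zero_of_mul_eq_one hd
  have e1 : star (s.1 0 0) = s.1 1 1 := mul_left_cancel₀ ha0 (ha.trans hd.symm)
  have e2 : star (s.1 1 1) = s.1 1 1 := mul_left_cancel₀ ha0 (h33.trans hd.symm)
  have e3 : s.1 0 0 = s.1 1 1 := by
    rw [← star_star (s.1 0 0), e1, e2]
  rw [Matrix.SpecialLinearGroup.mem_center_iff]
  refine ⟨s.1 0 0, ?_, ?_⟩
  · rw [Fintype.card_fin, pow_two]
    nth_rw 2 [e3]
    exact hd
  · ext1 i j
    fin_cases i <;> fin_cases j
    · simp
    · simpa using hb.symm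
    · simpa using hc.symm
    · simpa using e3

theorem mem_center_iff' (s : SL(2, E F c d)) :
    s ∈ Subgroup.center SL(2, E F c d) ↔ ∀ t : SL(2, E F c d), phi ⁅s, t⁆ = 1 := by
  constructor
  · intro hs t
    have : ⁅s, t⁆ = 1 := by
      rw [commutatorElement_eq_one_iff_mul_comm]
      exact (Subgroup.mem_center_iff.1 hs t).symm
    rw [this, map_one]
  · intro h
    have : Group.IsPerfect SL(2, E F c d) := ⟨commutator_SL⟩
    rw [← Group.IsPerfect.upperCentralSeries_eq_center _ (n := 2) two_ne_zero,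
      Subgroup.mem_upperCentralSeries_succ_iff]
    intro t
    rw [Subgroup.upperCentralSeries_one]
    exact mem_center_of_phi_eq_one (h t)

end field2

/-- coordinates -/
def coord (F : Type*) [Field F] (c d : F) : ((Fin 1 ⊕ Fin 1) ⊕ Fin 2 → F) ≃ₗ[F] V F c d where
  toFun v := (v (.inl (.inl 0)), v (.inl (.inr 0)), ⟨v (.inr 0), v (.inr 1)⟩)
  map_add' u v := rfl
  map_smul' r v := rfl
  invFun w := Sum.elim (Sum.elim (fun _ => w.1) (fun _ => w.2.1)) ![w.2.2.re, w.2.2.im]
  left_inv v := by
    ext ((i | i) | i) <;> fin_cases i <;> rfl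
  right_inv w := rfl

theorem Q_coord (a b : F) (v : (Fin 1 ⊕ Fin 1) ⊕ Fin 2 → F) :
    Q (-b) a (coord F (-b) a v) = Cfsg.quadFormMinus 1 F a b v := by
  change v (.inl (.inl 0)) * v (.inl (.inr 0)) + norm (⟨v (.inr 0), v (.inr 1)⟩ : E F (-b) a) =
    (∑ i : Fin 1, v (.inl (.inl i)) * v (.inl (.inr i))) + (v (.inr 0) ^ 2 + a * v (.inr 0) * v (.inr 1) + b * v (.inr 1) ^ 2)
  rw [norm_def, Fin.sum_univ_one]
  ring

section final

variable {K : Type*} [Field K]

/-- change of field isomorphism on `SL₂` -/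
def slEquiv {E K : Type*} [Field E] [Field K] (f : E ≃+* K) : SL(2, E) ≃* SL(2, K) where
  toFun := Matrix.SpecialLinearGroup.map (f : E →+* K)
  invFun := Matrix.SpecialLinearGroup.map (f.symm : K →+* E)
  left_inv s := by
    ext i j
    simp
  right_inv s := by
    ext i j
    simp
  map_mul' := map_mul _

theorem mem_center_slEquiv {E K : Type*} [Field E] [Field K] (f : E ≃+* K) (s : SL(2, E)) :
    slEquiv f s ∈ Subgroup.center SL(2, K) ↔ s ∈ Subgroup.center SL(2, E) := by
  rw [Subgroup.mem_center_iff, Subgroup.mem_center_iff]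
  constructor
  · intro h g
    have := h (slEquiv f g)
    rw [← map_mul, ← map_mul] at this
    exact (slEquiv f).injective this
  · intro h g
    obtain ⟨g, rfl⟩ := (slEquiv f).surjective g
    rw [← map_mul, ← map_mul, h g]

theorem norm_surjective [Finite F] [hab : Fact (∀ r : F, r ^ 2 ≠ c + d * r)] (r : F) :
    ∃ z : E F c d, norm z = r := by
  have : Finite (E F c d) := Finite.of_equiv _ (QuadraticAlgebra.equivProd c d).symm
  obtain ⟨z, hz⟩ := FiniteField.norm_surjective F (E F c d) r
  refine ⟨z, ?_⟩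
  rw [← hz, ← det_toLinearMap_eq_norm, Algebra.norm_apply]
  congr 1

theorem pomega_equiv [Fintype F] [Fintype K] {q : ℕ} (hF : Fintype.card F = q)
    (hK : Fintype.card K = q ^ 2) (a b : F)
    (hab : ∀ z₁ z₂ : F, z₁ ^ 2 + a * z₁ * z₂ + b * z₂ ^ 2 = 0 → z₁ = 0 ∧ z₂ = 0) :
    Nonempty (Cfsg.POmega F (Cfsg.quadFormMinus 1 F a b) ≃* PSL(2, K)) := by
  have : Fact (∀ r : F, r ^ 2 ≠ -b + a * r) := ⟨fun r hr => by
    have := (hab (-r) 1 (by linear_combination hr)).2
    exact one_ne_zero this⟩
  let _ : Fintype (E F (-b) a) := Fintype.ofEquiv _ (QuadraticAlgebra.equivProd (-b) a).symm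
  have hcard : Fintype.card (E F (-b) a) = Fintype.card K := by
    rw [hK, Fintype.card_congr (QuadraticAlgebra.equivProd (-b) a), Fintype.card_prod, hF, pow_two]
  let f : E F (-b) a ≃+* K := FiniteField.ringEquivOfCardEq hcard
  obtain ⟨ε⟩ := exists_isometryGroup_equiv (coord F (-b) a) (Cfsg.quadFormMinus 1 F a b) (Q (-b) a)
    (Q_coord a b)
  refine quot_equiv ε phi ((QuotientGroup.mk' (Subgroup.center SL(2, K))).comp (slEquiv f).toMonoidHom)
    ((QuotientGroup.mk'_surjective _).comp (slEquiv f).surjective)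
    (le_antisymm le_commutator (commutator_le' (exists_eq norm_surjective))) ?_
  intro s
  rw [← mem_center_iff', ← mem_center_slEquiv f]
  exact QuotientGroup.eq_one_iff _

end final

end Cfsg.Agent.LieClassical.OrthFourMinus
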