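import Mathlib
import Cfsg.Agent.LieClassical.SLGen

/-!
`SL 4` over the field with two elements acts on the eight heptads of non-degenerate alternating
forms, any two of which have a non-degenerate sum.  This gives an explicit homomorphism to the
symmetric group on eight letters.
-/

set_option autoImplicit false

namespace Cfsg.Agent.LieClassical.SLFourTwo

open Matrix

/-- The alternating 4 by 4 matrix with the given upper triangle. -/
def alt (a b c d e f : ZMod 2) : Matrix (Fin 4) (Fin 4) (ZMod 2) :=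
  !![0, a, b, c; a, 0, d, e; b, d, 0, f; c, e, f, 0]

/-- Eight alternating matrices with pairwise non-degenerate differences. -/
def vt : Fin 8 → Matrix (Fin 4) (Fin 4) (ZMod 2) :=
  ![alt 0 0 0 0 0 0, alt 0 0 1 1 0 0, alt 0 1 0 1 1 0, alt 0 1 1 0 1 1, alt 1 0 0 1 1 1,
    alt 1 0 1 0 0 1, alt 1 1 0 1 0 1, alt 1 1 1 0 1 0]

/-- The permutations induced by the elementary transvections. -/
def sig : Fin 4 → Fin 4 → Fin 8 → Fin 8 :=
  ![![id, ![5, 6, 4, 7, 2, 0, 1, 3], ![7, 2, 1, 5, 6, 3, 4, 0], ![1, 0, 7, 4, 3, 6, 5, 2]],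
    ![![4, 5, 6, 7, 0, 1, 2, 3], id, ![1, 0, 7, 6, 5, 4, 3, 2], ![2, 7, 0, 5, 6, 3, 4, 1]],
    ![![2, 3, 0, 1, 6, 7, 4, 5], ![1, 0, 3, 2, 7, 6, 5, 4], id, ![6, 5, 4, 7, 2, 1, 0, 3]],
    ![![1, 0, 3, 2, 5, 4, 7, 6], ![3, 2, 1, 0, 6, 7, 4, 5], ![5, 4, 6, 7, 1, 0, 2, 3], id]]

theorem sig_sig : ∀ i j k, sig i j (sig i j k) = k := by
  decide +kernel

theorem transvection_vt : ∀ i j : Fin 4, i ≠ j → ∀ k : Fin 8,
    Matrix.transvection i j (1 : ZMod 2) * vt k * (Matrix.transvection i j (1 : ZMod 2))ᵀ =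
      vt (sig i j k) + vt (sig i j 0) := by
  decide +kernel

theorem vt_add_inj : ∀ a b c d : Fin 8, a ≠ b → vt a + vt b = vt c + vt d →
    (a = c ∧ b = d) ∨ (a = d ∧ b = c) := by
  decide +kernel

/-- `σ` describes the action of `A` on the forms `vt i + vt j`. -/
def Rel (A : SpecialLinearGroup (Fin 4) (ZMod 2)) (σ : Equiv.Perm (Fin 8)) : Prop :=
  ∀ i j, A.1 * (vt i + vt j) * A.1ᵀ = vt (σ i) + vt (σ j)

theorem rel_transvection {i j : Fin 4} (h : i ≠ j) :
    Rel (SpecialLinearGroup.transvection h (1 : ZMod 2))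
      (Function.Involutive.toPerm (sig i j) (sig_sig i j)) := by
  intro k l
  change Matrix.transvection i j (1 : ZMod 2) * (vt k + vt l) *
    (Matrix.transvection i j (1 : ZMod 2))ᵀ = vt (sig i j k) + vt (sig i j l)
  rw [Matrix.mul_add, Matrix.add_mul, transvection_vt i j h k, transvection_vt i j h l]
  have h2 : vt (sig i j 0) + vt (sig i j 0) = 0 := by
    ext a b
    rw [Matrix.add_apply]
    exact CharTwo.add_self_eq_zero _
  rw [add_add_add_comm, h2, add_zero]

theorem rel_one : Rel 1 1 := by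
  intro k l
  change (1 : Matrix (Fin 4) (Fin 4) (ZMod 2)) * (vt k + vt l) * (1 : Matrix (Fin 4) (Fin 4) (ZMod 2))ᵀ = _
  rw [Matrix.transpose_one, Matrix.one_mul, Matrix.mul_one]
  rfl

theorem rel_mul {A B : SpecialLinearGroup (Fin 4) (ZMod 2)} {σ τ : Equiv.Perm (Fin 8)}
    (hA : Rel A σ) (hB : Rel B τ) : Rel (A * B) (σ * τ) := by
  intro k l
  change A.1 * B.1 * (vt k + vt l) * (A.1 * B.1)ᵀ = vt (σ (τ k)) + vt (σ (τ l))
  rw [Matrix.transpose_mul, ← hA (τ k) (τ l), ← hB k l]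
  simp only [Matrix.mul_assoc]

theorem exists_rel (A : SpecialLinearGroup (Fin 4) (ZMod 2)) : ∃ σ, Rel A σ := by
  refine SLGen.transvection_induction (fun A => ∃ σ, Rel A σ) ?_ ?_ A
  · intro i j h c
    obtain rfl | rfl : c = 0 ∨ c = 1 := by
      revert c
      decide
    · refine ⟨1, ?_⟩
      have h1 : SpecialLinearGroup.transvection h (0 : ZMod 2) = 1 := by
        apply Subtype.ext
        exact Matrix.transvection_zero i j
      rw [h1]
      exact rel_one
    · exact ⟨_, rel_transvection h⟩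
  · rintro A B ⟨σ, hσ⟩ ⟨τ, hτ⟩
    exact ⟨_, rel_mul hσ hτ⟩

theorem exists_pair (i : Fin 8) : ∃ j k : Fin 8, i ≠ j ∧ i ≠ k ∧ j ≠ k := by
  revert i
  decide

theorem rel_unique {A : SpecialLinearGroup (Fin 4) (ZMod 2)} {σ τ : Equiv.Perm (Fin 8)}
    (hσ : Rel A σ) (hτ : Rel A τ) : σ = τ := by
  refine Equiv.ext fun i => ?_
  obtain ⟨j, k, hij, hik, hjk⟩ := exists_pair i
  have h1 := vt_add_inj (σ i) (σ j) (τ i) (τ j) (σ.injective.ne hij)
    ((hσ i j).symm.trans (hτ i j))
  have h2 := vt_add_inj (σ i) (σ k) (τ i) (τ k) (σ.injective.ne hik)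
    ((hσ i k).symm.trans (hτ i k))
  rcases h1 with h1 | h1
  · exact h1.1
  · rcases h2 with h2 | h2
    · exact h2.1
    · exact absurd (τ.injective (h1.1.symm.trans h2.1)) hjk

/-- The permutation induced by `A`. -/
noncomputable def perm (A : SpecialLinearGroup (Fin 4) (ZMod 2)) : Equiv.Perm (Fin 8) :=
  (exists_rel A).choose

theorem perm_rel (A : SpecialLinearGroup (Fin 4) (ZMod 2)) : Rel A (perm A) :=
  (exists_rel A).choose_spec

/-- The action of `SL 4 2` on eight letters. -/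
noncomputable def hom : SpecialLinearGroup (Fin 4) (ZMod 2) →* Equiv.Perm (Fin 8) :=
  MonoidHom.mk' perm fun A B => rel_unique (perm_rel (A * B)) (rel_mul (perm_rel A) (perm_rel B))

theorem hom_apply_eq {A : SpecialLinearGroup (Fin 4) (ZMod 2)} {σ : Equiv.Perm (Fin 8)}
    (h : Rel A σ) : hom A = σ := rel_unique (perm_rel A) h

theorem hom_transvection {i j : Fin 4} (h : i ≠ j) :
    hom (SpecialLinearGroup.transvection h (1 : ZMod 2)) =
      Function.Involutive.toPerm (sig i j) (sig_sig i j) :=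
  hom_apply_eq (rel_transvection h)

end Cfsg.Agent.LieClassical.SLFourTwo
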