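import Cfsg.Prelude.Def_Classical
import Cfsg.Agent.Lib.FieldFour
import Cfsg.Agent.LieClassical.FieldTransfer

/-!
The group `SU_3(2)` over the explicit field `F4`: it has 216 elements.
-/

set_option autoImplicit false
open Cfsg

namespace Cfsg.Agent.LieClassical.SU32

open Matrix Cfsg.Agent.Lib.FieldFour

/-- Vectors of length three. -/
abbrev V : Type := F4 × F4 × F4

/-- Sum of three elements. -/
def add3 (x y z : F4) : F4 := F4.add x (F4.add y z)

/-- `x * y ^ 2`. -/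
def h1 (x y : F4) : F4 := F4.mul x (F4.mul y y)

/-- The Hermitian form. -/
def hf (a b : V) : F4 := add3 (h1 a.1 b.1) (h1 a.2.1 b.2.1) (h1 a.2.2 b.2.2)

/-- The determinant (in characteristic two) of the matrix with columns `a`, `b`, `c`. -/
def dt (a b c : V) : F4 :=
  add3 (F4.mul a.1 (F4.add (F4.mul b.2.1 c.2.2) (F4.mul b.2.2 c.2.1)))
    (F4.mul a.2.1 (F4.add (F4.mul b.1 c.2.2) (F4.mul b.2.2 c.1)))
    (F4.mul a.2.2 (F4.add (F4.mul b.1 c.2.1) (F4.mul b.2.1 c.1)))

/-- The list of elements of `F4`. -/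
def all : List F4 := [F4.o, F4.i, F4.w, F4.v]

theorem mem_all (x : F4) : x ∈ all := by cases x <;> decide

/-- The list of all vectors. -/
def allV : List V := all.flatMap fun x => all.flatMap fun y => all.map fun z => (x, y, z)

theorem mem_allV (a : V) : a ∈ allV := by
  obtain ⟨x, y, z⟩ := a
  simp only [allV, List.mem_flatMap, List.mem_map]
  exact ⟨x, mem_all x, y, mem_all y, z, mem_all z, rfl⟩

/-- First step. -/
def L1 : List V := allV.filter fun a => decide (hf a a = F4.i)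

/-- Second step. -/
def L2 (a : V) : List V := L1.filter fun b => decide (hf a b = F4.o)

/-- Third step. -/
def L3 (a b : V) : List V :=
  (L2 a).filter fun c => decide (hf b c = F4.o) && decide (dt a b c = F4.i)

/-- All triples of columns. -/
def L : List (V × V × V) :=
  L1.flatMap fun a => (L2 a).flatMap fun b => (L3 a b).map fun c => (a, b, c)

/-- The condition on triples of columns. -/
def Cond (t : V × V × V) : Prop :=
  hf t.1 t.1 = F4.i ∧ hf t.2.1 t.2.1 = F4.i ∧ hf t.2.2 t.2.2 = F4.i ∧ hf t.1 t.2.1 = F4.o ∧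
    hf t.1 t.2.2 = F4.o ∧ hf t.2.1 t.2.2 = F4.o ∧ dt t.1 t.2.1 t.2.2 = F4.i

theorem mem_L (t : V × V × V) : t ∈ L ↔ Cond t := by
  obtain ⟨a, b, c⟩ := t
  simp only [L, L1, L2, L3, List.mem_flatMap, List.mem_map, List.mem_filter, mem_allV, true_and,
    decide_eq_true_eq, Bool.and_eq_true, Cond, Prod.mk.injEq]
  constructor
  · rintro ⟨a', ha, b', hb, c', hc, rfl, rfl, rfl⟩
    exact ⟨ha, hb.1, hc.1.1, hb.2, hc.1.2, hc.2.1, hc.2.2⟩
  · rintro ⟨h1, h2, h3, h4, h5, h6, h7⟩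
    exact ⟨a, h1, b, ⟨h2, h4⟩, c, ⟨⟨h3, h5⟩, h6, h7⟩, rfl, rfl, rfl⟩

theorem length_L : L.length = 216 := by decide +kernel

theorem nodup_L : L.Nodup := by decide +kernel

theorem card_cond : Nat.card {t : V × V × V // Cond t} = 216 := by
  rw [Nat.subtype_card L.toFinset (by intro t; rw [List.mem_toFinset, mem_L]),
    List.toFinset_card_of_nodup nodup_L, length_L]

/-- Column `j` of a matrix as a vector. -/
def col (M : Matrix (Fin 3) (Fin 3) F4) (j : Fin 3) : V := (M 0 j, M 1 j, M 2 j)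

theorem hf_eq (a b : V) :
    hf a b = a.1 * b.1 ^ 2 + (a.2.1 * b.2.1 ^ 2 + a.2.2 * b.2.2 ^ 2) := by
  simp only [pow_two]
  rfl

theorem two_eq_zero : (2 : F4) = 0 := by decide

theorem add_sq' (x y : F4) : (x + y) ^ 2 = x ^ 2 + y ^ 2 := by
  revert x y; decide

theorem pow_four (x : F4) : x ^ 4 = x := by
  revert x; decide

theorem hf_swap (a b : V) : hf b a = (hf a b) ^ 2 := by
  rw [hf_eq, hf_eq, add_sq', add_sq']
  have h1 := pow_four b.1
  have h2 := pow_four b.2.1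
  have h3 := pow_four b.2.2
  linear_combination (-(a.1 ^ 2)) * h1 - a.2.1 ^ 2 * h2 - a.2.2 ^ 2 * h3

theorem hermForm_three (u v : Fin 3 → F4) :
    hermForm 3 F4 2 u v = u 0 * v 0 ^ 2 + (u 1 * v 1 ^ 2 + u 2 * v 2 ^ 2) := by
  simp [hermForm, Fin.sum_univ_three, add_assoc]

theorem dt_eq (M : Matrix (Fin 3) (Fin 3) F4) : dt (col M 0) (col M 1) (col M 2) = M.det := by
  rw [Matrix.det_fin_three]
  change M 0 0 * (M 1 1 * M 2 2 + M 2 1 * M 1 2) + (M 1 0 * (M 0 1 * M 2 2 + M 2 1 * M 0 2) +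
    M 2 0 * (M 0 1 * M 1 2 + M 1 1 * M 0 2)) = _
  linear_combination (M 0 0 * M 1 2 * M 2 1 + M 0 1 * M 1 0 * M 2 2 + M 0 2 * M 1 1 * M 2 0) *
    two_eq_zero

/-- `SU_3` membership in terms of columns. -/
theorem mem_SU_iff_col (A : Matrix.SpecialLinearGroup (Fin 3) F4) :
    A ∈ Cfsg.SU 3 F4 2 ↔ ∀ i j : Fin 3, hf (col A i) (col A j) = if i = j then 1 else 0 := by
  rw [FieldTransfer.mem_SU_iff]
  constructor
  · intro h i j
    have h' := h (Pi.single i 1) (Pi.single j 1)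
    rw [Matrix.mulVec_single_one, Matrix.mulVec_single_one, hermForm_three, hermForm_three] at h'
    rw [hf_eq]
    simp only [col, Matrix.col_apply] at h' ⊢
    rw [h']
    fin_cases i <;> fin_cases j <;> simp
  · intro h u v
    rw [hermForm_three, hermForm_three]
    have e : ∀ (i : Fin 3) (w : Fin 3 → F4), ((A : Matrix (Fin 3) (Fin 3) F4) *ᵥ w) i =
        A i 0 * w 0 + (A i 1 * w 1 + A i 2 * w 2) := by
      intro i w
      simp [Matrix.mulVec, dotProduct, Fin.sum_univ_three, add_assoc]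
    simp only [e, add_sq']
    have g : ∀ i j : Fin 3, A 0 i * A 0 j ^ 2 + (A 1 i * A 1 j ^ 2 + A 2 i * A 2 j ^ 2) =
        if i = j then 1 else 0 := by
      intro i j
      have := h i j
      rwa [hf_eq] at this
    have g00 := g 0 0
    have g01 := g 0 1
    have g02 := g 0 2
    have g10 := g 1 0
    have g11 := g 1 1
    have g12 := g 1 2
    have g20 := g 2 0
    have g21 := g 2 1
    have g22 := g 2 2
    simp at g00 g01 g02 g10 g11 g12 g20 g21 g22
    linear_combination (u 0 * v 0 ^ 2) * g00 + (u 0 * v 1 ^ 2) * g01 + (u 0 * v 2 ^ 2) * g02 +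
      (u 1 * v 0 ^ 2) * g10 + (u 1 * v 1 ^ 2) * g11 + (u 1 * v 2 ^ 2) * g12 +
      (u 2 * v 0 ^ 2) * g20 + (u 2 * v 1 ^ 2) * g21 + (u 2 * v 2 ^ 2) * g22

theorem mem_SU_iff_cond (A : Matrix.SpecialLinearGroup (Fin 3) F4) :
    A ∈ Cfsg.SU 3 F4 2 ↔ Cond (col A 0, col A 1, col A 2) := by
  rw [mem_SU_iff_col]
  constructor
  · intro h
    refine ⟨h 0 0, h 1 1, h 2 2, h 0 1, h 0 2, h 1 2, ?_⟩
    change dt (col A 0) (col A 1) (col A 2) = 1
    rw [dt_eq]
    exact A.2
  · rintro ⟨h1, h2, h3, h4, h5, h6, -⟩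
    simp only at h1 h2 h3 h4 h5 h6
    have h7 := hf_swap (col A 0) (col A 1)
    have h8 := hf_swap (col A 0) (col A 2)
    have h9 := hf_swap (col A 1) (col A 2)
    rw [h4] at h7
    rw [h5] at h8
    rw [h6] at h9
    intro i j
    fin_cases i <;> fin_cases j
    · exact h1
    · exact h4
    · exact h5
    · exact h7
    · exact h2
    · exact h6
    · exact h8
    · exact h9
    · exact h3

/-- The matrix with given columns. -/
def ofCols (t : V × V × V) : Matrix (Fin 3) (Fin 3) F4 :=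
  !![t.1.1, t.2.1.1, t.2.2.1; t.1.2.1, t.2.1.2.1, t.2.2.2.1; t.1.2.2, t.2.1.2.2, t.2.2.2.2]

theorem col_ofCols (t : V × V × V) :
    (col (ofCols t) 0, col (ofCols t) 1, col (ofCols t) 2) = t := by
  obtain ⟨⟨a, b, c⟩, ⟨d, e, f⟩, ⟨g, h, i⟩⟩ := t
  rfl

theorem det_ofCols {t : V × V × V} (ht : Cond t) : (ofCols t).det = 1 := by
  rw [← dt_eq]
  exact ht.2.2.2.2.2.2

/-- `SU_3(2)` is in bijection with the triples of columns. -/
def equivCond : Cfsg.SU 3 F4 2 ≃ {t : V × V × V // Cond t} where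
  toFun A := ⟨(col (A.1 : Matrix (Fin 3) (Fin 3) F4) 0, col (A.1 : Matrix (Fin 3) (Fin 3) F4) 1,
    col (A.1 : Matrix (Fin 3) (Fin 3) F4) 2), (mem_SU_iff_cond A.1).1 A.2⟩
  invFun t := ⟨⟨ofCols t.1, det_ofCols t.2⟩, (mem_SU_iff_cond _).2 (by
    have h : (col (ofCols t.1) 0, col (ofCols t.1) 1, col (ofCols t.1) 2) = t.1 :=
      col_ofCols t.1
    change Cond (col (ofCols t.1) 0, col (ofCols t.1) 1, col (ofCols t.1) 2)
    rw [h]
    exact t.2)⟩
  left_inv := by
    intro A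
    apply Subtype.ext
    apply Matrix.SpecialLinearGroup.ext
    intro i j
    fin_cases i <;> fin_cases j <;> rfl
  right_inv := by
    intro t
    apply Subtype.ext
    exact col_ofCols t.1

/-- `|SU_3(2)| = 216` over the explicit field. -/
theorem card_SU_F4 : Nat.card (Cfsg.SU 3 F4 2) = 216 := by
  rw [Nat.card_congr equivCond, card_cond]

/-- `|SU_3(2)| = 216`. -/
theorem card_SU {F : Type*} [Field F] [Fintype F] (hF : Fintype.card F = 4) :
    Nat.card (Cfsg.SU 3 F 2) = 216 := by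
  rw [Nat.card_congr (FieldTransfer.suCongr 3 2 (equivOfCard hF)).toEquiv, card_SU_F4]

end Cfsg.Agent.LieClassical.SU32
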