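import Mathlib
import Cfsg.Prelude.Def_Classical
import Cfsg.Prelude.Def_ClassicalGeometry
import Cfsg.Agent.ClassicalGeometry.Reflection

/-!
# A 4-dimensional Clifford module for the form `x₀² + x₁y₁ + x₂y₂`

`cl v` is a traceless 4 by 4 matrix with `cl v * cl v = Q v • 1` and `cl v * J` skew-symmetric;
conjugation by elements of the symplectic group `Sp₄` preserves the space of all `cl v`.
-/

set_option autoImplicit false

namespace Cfsg.Agent.LieClassical.CliffordFive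

open Matrix QuadraticMap

/-- index type of the 5-dimensional space -/
abbrev I5 : Type := Unit ⊕ (Fin 2 ⊕ Fin 2)
/-- index type of the 4-dimensional space -/
abbrev I4 : Type := Fin 2 ⊕ Fin 2

variable {F : Type*} [Field F]

theorem quadFormOdd_two (v : I5 → F) : Cfsg.quadFormOdd 2 F v =
    v (.inl ()) ^ 2 + (v (.inr (.inl 0)) * v (.inr (.inr 0)) + v (.inr (.inl 1)) * v (.inr (.inr 1))) := by
  change v (.inl ()) ^ 2 + ∑ i : Fin 2, v (.inr (.inl i)) * v (.inr (.inr i)) = _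
  rw [Fin.sum_univ_two]

theorem polar_quadFormOdd_two (v w : I5 → F) : polar (Cfsg.quadFormOdd 2 F) v w =
    2 * v (.inl ()) * w (.inl ()) + (v (.inr (.inl 0)) * w (.inr (.inr 0)) + v (.inr (.inr 0)) * w (.inr (.inl 0))
      + v (.inr (.inl 1)) * w (.inr (.inr 1)) + v (.inr (.inr 1)) * w (.inr (.inl 1))) := by
  simp only [polar, quadFormOdd_two, Pi.add_apply]
  ring

variable (F) in
/-- `quadFormOdd 2 F` as a `QuadraticForm`. -/
def Q5 : QuadraticForm F (I5 → F) :=
  QuadraticMap.ofPolar (Cfsg.quadFormOdd 2 F)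
    (fun a x => by simp only [quadFormOdd_two, Pi.smul_apply, smul_eq_mul]; ring)
    (fun x x' y => by simp only [polar_quadFormOdd_two, Pi.add_apply]; ring)
    (fun a x y => by simp only [polar_quadFormOdd_two, Pi.smul_apply, smul_eq_mul]; ring)

theorem coe_Q5 : ⇑(Q5 F) = Cfsg.quadFormOdd 2 F := rfl

theorem Q5_apply (v : I5 → F) : Q5 F v =
    v (.inl ()) ^ 2 + (v (.inr (.inl 0)) * v (.inr (.inr 0)) + v (.inr (.inl 1)) * v (.inr (.inr 1))) :=
  quadFormOdd_two v

/-- The Clifford map. -/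
def cl (v : I5 → F) : Matrix I4 I4 F :=
  Matrix.fromBlocks
    !![v (.inl ()), v (.inr (.inl 0)); v (.inr (.inr 0)), -v (.inl ())]
    !![0, v (.inr (.inl 1)); -v (.inr (.inl 1)), 0]
    !![0, -v (.inr (.inr 1)); v (.inr (.inr 1)), 0]
    !![v (.inl ()), v (.inr (.inr 0)); v (.inr (.inl 0)), -v (.inl ())]

theorem cl_def (v : I5 → F) : cl v = Matrix.fromBlocks
    !![v (.inl ()), v (.inr (.inl 0)); v (.inr (.inr 0)), -v (.inl ())]
    !![0, v (.inr (.inl 1)); -v (.inr (.inl 1)), 0]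
    !![0, -v (.inr (.inr 1)); v (.inr (.inr 1)), 0]
    !![v (.inl ()), v (.inr (.inr 0)); v (.inr (.inl 0)), -v (.inl ())] := rfl

theorem cl_mul_self (v : I5 → F) : cl v * cl v = Q5 F v • (1 : Matrix I4 I4 F) := by
  rw [Q5_apply]
  ext i j
  rcases i with i | i <;> rcases j with j | j <;> fin_cases i <;> fin_cases j <;>
    simp [cl_def, Matrix.mul_apply, Fin.sum_univ_two] <;> ring

theorem cl_add (v w : I5 → F) : cl (v + w) = cl v + cl w := by
  ext i j
  rcases i with i | i <;> rcases j with j | j <;> fin_cases i <;> fin_cases j <;>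
    simp [cl_def] <;> ring

theorem cl_smul (c : F) (v : I5 → F) : cl (c • v) = c • cl v := by
  ext i j
  rcases i with i | i <;> rcases j with j | j <;> fin_cases i <;> fin_cases j <;>
    simp [cl_def]

/-- Read off the vector from a matrix. -/
def uncl (A : Matrix I4 I4 F) : I5 → F := fun k =>
  match k with
  | .inl _ => A (.inl 0) (.inl 0)
  | .inr (.inl 0) => A (.inl 0) (.inl 1)
  | .inr (.inl 1) => A (.inl 0) (.inr 1)
  | .inr (.inr 0) => A (.inl 1) (.inl 0)
  | .inr (.inr 1) => A (.inr 1) (.inl 0)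

theorem uncl_cl (v : I5 → F) : uncl (cl v) = v := by
  funext k
  rcases k with k | k | k
  · rfl
  · fin_cases k <;> rfl
  · fin_cases k <;> rfl

theorem cl_injective : Function.Injective (cl : (I5 → F) → Matrix I4 I4 F) := fun v w h => by
  rw [← uncl_cl v, h, uncl_cl]

theorem cl_mul_J (v : I5 → F) : cl v * Matrix.J (Fin 2) F = Matrix.J (Fin 2) F * (cl v)ᵀ := by
  ext i j
  rcases i with i | i <;> rcases j with j | j <;> fin_cases i <;> fin_cases j <;>
    simp [cl_def, Matrix.J, Matrix.mul_apply, Matrix.one_apply]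

theorem trace_cl (v : I5 → F) : (cl v).trace = 0 := by
  simp [cl_def, Matrix.trace, Fin.sum_univ_two]

theorem cl_uncl (h2 : (2 : F) ≠ 0) (A : Matrix I4 I4 F)
    (hA : A * Matrix.J (Fin 2) F = Matrix.J (Fin 2) F * Aᵀ) (ht : A.trace = 0) :
    cl (uncl A) = A := by
  have h := fun i j => congrFun (congrFun hA i) j
  have ht' : A (.inl 0) (.inl 0) + A (.inl 1) (.inl 1) + (A (.inr 0) (.inr 0) + A (.inr 1) (.inr 1)) = 0 := by
    rw [← ht]; simp [Matrix.trace, Fin.sum_univ_two]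
  have key : ∀ x : F, x = -x → x = 0 := fun x hx => by
    have : 2 * x = 0 := by linear_combination hx
    rcases mul_eq_zero.1 this with h | h
    · exact absurd h h2
    · exact h
  have e1 := h (.inl 0) (.inl 1)
  have e2 := h (.inl 0) (.inl 0)
  have e3 := h (.inl 1) (.inl 1)
  have e4 := h (.inr 0) (.inr 0)
  have e5 := h (.inr 1) (.inr 1)
  have e6 := h (.inr 0) (.inr 1)
  have e7 := h (.inl 0) (.inr 0)
  have e8 := h (.inl 0) (.inr 1)
  have e9 := h (.inl 1) (.inr 0)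
  have e10 := h (.inl 1) (.inr 1)
  clear h hA ht
  simp [Matrix.J, Matrix.mul_apply, Matrix.one_apply] at e1 e2 e3 e4 e5 e6 e7 e8 e9 e10
  have f2 := key _ e2
  have f3 := key _ e3
  have f4 := key _ e4.symm
  have f5 := key _ e5.symm
  have f1 : A (.inl 1) (.inl 1) = - A (.inl 0) (.inl 0) := by
    have : 2 * (A (.inl 1) (.inl 1) + A (.inl 0) (.inl 0)) = 0 := by
      linear_combination ht' + e7 + e10
    rcases mul_eq_zero.1 this with h | h
    · exact absurd h h2
    · linear_combination h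
  ext i j
  rcases i with i | i <;> rcases j with j | j <;> fin_cases i <;> fin_cases j <;>
    simp [cl_def, uncl, f1, f2, f3, f4, f5, e7.symm, e8.symm, e9.symm, e10.symm, e6.symm]
  · rw [e1]; simp

/-- `uncl` is linear. -/
theorem uncl_add (A B : Matrix I4 I4 F) : uncl (A + B) = uncl A + uncl B := by
  funext k
  rcases k with k | k | k
  · rfl
  · fin_cases k <;> rfl
  · fin_cases k <;> rfl

theorem uncl_smul (c : F) (A : Matrix I4 I4 F) : uncl (c • A) = c • uncl A := by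
  funext k
  rcases k with k | k | k
  · rfl
  · fin_cases k <;> rfl
  · fin_cases k <;> rfl

/-- Similitudes conjugate the Clifford space to itself. -/
theorem conj_cl (h2 : (2 : F) ≠ 0) (g h : Matrix I4 I4 F) (hgh : g * h = 1) (μ : F)
    (hμ : μ ≠ 0) (hJ : g * Matrix.J (Fin 2) F * gᵀ = μ • Matrix.J (Fin 2) F) (v : I5 → F) :
    cl (uncl (g * cl v * h)) = g * cl v * h := by
  have hhg : h * g = 1 := mul_eq_one_comm.1 hgh
  have e1 : Matrix.J (Fin 2) F * gᵀ = μ • (h * Matrix.J (Fin 2) F) := by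
    calc Matrix.J (Fin 2) F * gᵀ = h * (g * Matrix.J (Fin 2) F * gᵀ) := by
          rw [← Matrix.mul_assoc, ← Matrix.mul_assoc, hhg, Matrix.one_mul]
      _ = _ := by rw [hJ, Matrix.mul_smul]
  have e2 : g * Matrix.J (Fin 2) F = μ • (Matrix.J (Fin 2) F * hᵀ) := by
    have := congrArg Matrix.transpose e1
    rw [Matrix.transpose_mul, Matrix.transpose_smul, Matrix.transpose_mul, Matrix.transpose_transpose,
      Matrix.J_transpose] at this
    rw [Matrix.mul_neg, Matrix.neg_mul, smul_neg, neg_inj] at this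
    exact this
  apply cl_uncl h2
  · have : μ • (g * cl v * h * Matrix.J (Fin 2) F) =
        μ • (Matrix.J (Fin 2) F * (g * cl v * h)ᵀ) := by
      calc μ • (g * cl v * h * Matrix.J (Fin 2) F)
          = g * cl v * (μ • (h * Matrix.J (Fin 2) F)) := by
            rw [Matrix.mul_smul, Matrix.mul_assoc (g * cl v)]
        _ = g * (cl v * Matrix.J (Fin 2) F) * gᵀ := by
            rw [← e1]; simp only [Matrix.mul_assoc]
        _ = (g * Matrix.J (Fin 2) F) * ((cl v)ᵀ * gᵀ) := by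
            rw [cl_mul_J]; simp only [Matrix.mul_assoc]
        _ = _ := by
            rw [e2, Matrix.smul_mul, Matrix.transpose_mul, Matrix.transpose_mul]
            simp only [Matrix.mul_assoc]
    exact smul_right_injective _ hμ this
  · rw [Matrix.trace_mul_comm, ← Matrix.mul_assoc, hhg, Matrix.one_mul, trace_cl]

/-- The linear map `v ↦ uncl (g * cl v * h)`. -/
def conjLin (g h : Matrix I4 I4 F) : (I5 → F) →ₗ[F] (I5 → F) where
  toFun v := uncl (g * cl v * h)
  map_add' v w := by rw [cl_add, Matrix.mul_add, Matrix.add_mul, uncl_add]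
  map_smul' c v := by rw [cl_smul, Matrix.mul_smul, Matrix.smul_mul, uncl_smul]; rfl

theorem conjLin_apply (g h : Matrix I4 I4 F) (v : I5 → F) :
    conjLin g h v = uncl (g * cl v * h) := rfl

/-- The matrix of the conjugation. -/
def conjMat (g h : Matrix I4 I4 F) : Matrix I5 I5 F := LinearMap.toMatrix' (conjLin g h)

theorem conjMat_mulVec (g h : Matrix I4 I4 F) (v : I5 → F) :
    conjMat g h *ᵥ v = uncl (g * cl v * h) := by
  rw [conjMat, LinearMap.toMatrix'_mulVec, conjLin_apply]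

/-- matrices are equal if they act equally -/
theorem ext_mulVec {ι : Type} [Fintype ι] [DecidableEq ι] {A B : Matrix ι ι F}
    (h : ∀ v, A *ᵥ v = B *ᵥ v) : A = B :=
  Matrix.mulVec_injective (funext h)

theorem conj_cl_sp (h2 : (2 : F) ≠ 0) (g : Matrix.symplecticGroup (Fin 2) F) (v : I5 → F) :
    cl (uncl (g.1 * cl v * (g⁻¹).1)) = g.1 * cl v * (g⁻¹).1 := by
  apply conj_cl h2 g.1 (g⁻¹).1 ?_ 1 one_ne_zero
  · rw [one_smul]; exact SymplecticGroup.mem_iff.1 g.2
  · have := mul_inv_cancel g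
    exact congrArg Subtype.val this

/-- conjugation preserves the quadratic form -/
theorem Q5_conj (h2 : (2 : F) ≠ 0) (g : Matrix.symplecticGroup (Fin 2) F) (v : I5 → F) :
    Q5 F (uncl (g.1 * cl v * (g⁻¹).1)) = Q5 F v := by
  have h1 : (g⁻¹).1 * g.1 = 1 := congrArg Subtype.val (inv_mul_cancel g)
  have h1' : g.1 * (g⁻¹).1 = 1 := congrArg Subtype.val (mul_inv_cancel g)
  have h := cl_mul_self (uncl (g.1 * cl v * (g⁻¹).1))
  rw [conj_cl_sp h2] at h
  have h3 : g.1 * cl v * (g⁻¹).1 * (g.1 * cl v * (g⁻¹).1) = g.1 * (cl v * cl v) * (g⁻¹).1 := by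
    rw [Matrix.mul_assoc (g.1 * cl v), ← Matrix.mul_assoc (g⁻¹).1, ← Matrix.mul_assoc (g⁻¹).1, h1,
      Matrix.one_mul]
    simp only [Matrix.mul_assoc]
  rw [h3, cl_mul_self, Matrix.mul_smul, Matrix.smul_mul, Matrix.mul_one, h1'] at h
  have := congrFun (congrFun h (.inl 0)) (.inl 0)
  simp at this
  exact this.symm

/-- The homomorphism `Sp₄ → O₅`, first as matrices. -/
def rhoMat (h2 : (2 : F) ≠ 0) : Matrix.symplecticGroup (Fin 2) F →* Matrix I5 I5 F where
  toFun g := conjMat g.1 (g⁻¹).1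
  map_one' := by
    apply ext_mulVec
    intro v
    rw [conjMat_mulVec, inv_one, Matrix.one_mulVec]
    change uncl (1 * cl v * 1) = v
    rw [Matrix.one_mul, Matrix.mul_one, uncl_cl]
  map_mul' g h := by
    apply ext_mulVec
    intro v
    rw [conjMat_mulVec, ← Matrix.mulVec_mulVec, conjMat_mulVec, conjMat_mulVec, conj_cl_sp h2,
      _root_.mul_inv_rev]
    change uncl (g.1 * h.1 * cl v * ((h⁻¹).1 * (g⁻¹).1)) = _
    simp only [Matrix.mul_assoc]

/-- The homomorphism `Sp₄ → O₅`. -/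
def rho (h2 : (2 : F) ≠ 0) :
    Matrix.symplecticGroup (Fin 2) F →* Cfsg.isometryGroup F (Cfsg.quadFormOdd 2 F) :=
  (rhoMat h2).toHomUnits.codRestrict _ (fun g => by
    rw [← coe_Q5, Cfsg.Agent.ClassicalGeometry.Reflection.mem_isometryGroup_iff]
    intro x
    change Q5 F (conjMat g.1 (g⁻¹).1 *ᵥ x) = _
    rw [conjMat_mulVec, Q5_conj h2])

theorem rho_mulVec (h2 : (2 : F) ≠ 0) (g : Matrix.symplecticGroup (Fin 2) F) (v : I5 → F) :
    ((rho h2 g : Matrix.GeneralLinearGroup I5 F) : Matrix I5 I5 F) *ᵥ v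
      = uncl (g.1 * cl v * (g⁻¹).1) := conjMat_mulVec _ _ _

theorem cl_rho_mulVec (h2 : (2 : F) ≠ 0) (g : Matrix.symplecticGroup (Fin 2) F) (v : I5 → F) :
    cl (((rho h2 g : Matrix.GeneralLinearGroup I5 F) : Matrix I5 I5 F) *ᵥ v) * g.1
      = g.1 * cl v := by
  have h1 : (g⁻¹).1 * g.1 = 1 := congrArg Subtype.val (inv_mul_cancel g)
  rw [rho_mulVec, conj_cl_sp h2, Matrix.mul_assoc, h1, Matrix.mul_one]

/-- characterisation of `rho` -/
theorem rho_eq_of (h2 : (2 : F) ≠ 0) (g : Matrix.symplecticGroup (Fin 2) F)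
    (T : Cfsg.isometryGroup F (Cfsg.quadFormOdd 2 F))
    (h : ∀ v, cl (((T : Matrix.GeneralLinearGroup I5 F) : Matrix I5 I5 F) *ᵥ v) * g.1
      = g.1 * cl v) : rho h2 g = T := by
  have h1 : g.1 * (g⁻¹).1 = 1 := congrArg Subtype.val (mul_inv_cancel g)
  apply Subtype.ext
  apply Units.ext
  apply ext_mulVec
  intro v
  rw [rho_mulVec, ← h v, Matrix.mul_assoc, h1, Matrix.mul_one, uncl_cl]

/-! ### commuting with the Clifford space -/

/-- A matrix commuting with the Clifford space is scalar. -/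
theorem eq_smul_one_of_commute (h2 : (2 : F) ≠ 0) (h : Matrix I4 I4 F)
    (H : ∀ v, cl v * h = h * cl v) : h = h (.inl 0) (.inl 0) • (1 : Matrix I4 I4 F) := by
  have key : ∀ x : F, x = -x → x = 0 := fun x hx => by
    have : 2 * x = 0 := by linear_combination hx
    rcases mul_eq_zero.1 this with h | h
    · exact absurd h h2
    · exact h
  have key' : ∀ x : F, -x = x → x = 0 := fun x hx => key x hx.symm
  have H0 := fun i j => congrFun (congrFun (H (Pi.single (.inl ()) 1)) i) j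
  have H1 := fun i j => congrFun (congrFun (H (Pi.single (.inr (.inl 0)) 1)) i) j
  have H2 := fun i j => congrFun (congrFun (H (Pi.single (.inr (.inl 1)) 1)) i) j
  have H3 := fun i j => congrFun (congrFun (H (Pi.single (.inr (.inr 1)) 1)) i) j
  clear H
  have a1 := H0 (.inl 0) (.inl 1)
  have a3 := H0 (.inl 1) (.inl 0)
  have a6 := H0 (.inr 0) (.inr 1)
  have a7 := H0 (.inr 1) (.inl 0)
  have a8 := H0 (.inr 1) (.inr 0)
  have b1 := H1 (.inl 0) (.inl 1)
  have b2 := H1 (.inl 0) (.inr 1)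
  have b4 := H1 (.inr 1) (.inr 0)
  have c1 := H2 (.inl 0) (.inr 1)
  have c2 := H2 (.inl 0) (.inl 1)
  have c3 := H2 (.inl 1) (.inl 1)
  have c4 := H2 (.inl 1) (.inl 0)
  have d1 := H3 (.inr 1) (.inr 1)
  have d4 := H3 (.inr 0) (.inr 0)
  have d5 := H3 (.inr 1) (.inr 0)
  clear H0 H1 H2 H3
  simp [cl_def, Matrix.mul_apply, Fin.sum_univ_two] at a1 a3 a6 a7 a8 b1 b2 b4 c1 c2 c3 c4 d1 d4 d5
  have a1 := key _ a1
  have a3 := key' _ a3
  have a6 := key _ a6
  have a7 := key' _ a7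
  have a8 := key' _ a8
  ext i j
  rcases i with i | i <;> rcases j with j | j <;> fin_cases i <;> fin_cases j <;>
    simp [a1, a3, a6, a7, a8, b1, b2, b4, c1, c2, c3, c4, d1, d4, d5]

/-- A matrix anticommuting with the whole Clifford space is zero. -/
theorem eq_zero_of_anticommute (h2 : (2 : F) ≠ 0) (h : Matrix I4 I4 F)
    (H : ∀ v, cl v * h = -(h * cl v)) : h = 0 := by
  have key : ∀ x : F, x = -x → x = 0 := fun x hx => by
    have : 2 * x = 0 := by linear_combination hx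
    rcases mul_eq_zero.1 this with h | h
    · exact absurd h h2
    · exact h
  have key' : ∀ x : F, -x = x → x = 0 := fun x hx => key x hx.symm
  have H0 := fun i j => congrFun (congrFun (H (Pi.single (.inl ()) 1)) i) j
  have H1 := fun i j => congrFun (congrFun (H (Pi.single (.inr (.inl 0)) 1)) i) j
  have H2 := fun i j => congrFun (congrFun (H (Pi.single (.inr (.inl 1)) 1)) i) j
  have H3 := fun i j => congrFun (congrFun (H (Pi.single (.inr (.inr 0)) 1)) i) j
  have H4 := fun i j => congrFun (congrFun (H (Pi.single (.inr (.inr 1)) 1)) i) j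
  clear H
  have a1 := H0 (.inl 0) (.inl 0)
  have a2 := H0 (.inl 0) (.inr 0)
  have a3 := H0 (.inl 1) (.inl 1)
  have a4 := H0 (.inl 1) (.inr 1)
  have a5 := H0 (.inr 0) (.inl 0)
  have a6 := H0 (.inr 0) (.inr 0)
  have a7 := H0 (.inr 1) (.inr 1)
  have a8 := H0 (.inr 1) (.inl 1)
  have b1 := H1 (.inl 0) (.inl 0)
  have b2 := H1 (.inr 1) (.inr 1)
  have c1 := H2 (.inl 0) (.inl 0)
  have c2 := H2 (.inl 1) (.inl 1)
  have d1 := H3 (.inl 1) (.inl 1)
  have d2 := H3 (.inr 0) (.inr 0)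
  have e1 := H4 (.inr 0) (.inr 0)
  have e2 := H4 (.inr 1) (.inr 1)
  clear H0 H1 H2 H3 H4
  simp [cl_def, Matrix.mul_apply, Fin.sum_univ_two] at a1 a2 a3 a4 a5 a6 a7 a8 b1 b2 c1 c2 d1 d2 e1 e2
  have a1 := key _ a1
  have a2 := key _ a2
  have a3 := key' _ a3
  have a4 := key' _ a4
  have a5 := key _ a5
  have a6 := key _ a6
  have a7 := key' _ a7
  have a8 := key' _ a8
  ext i j
  rcases i with i | i <;> rcases j with j | j <;> fin_cases i <;> fin_cases j <;>
    simp [a1, a2, a3, a4, a5, a6, a7, a8, b1, b2, c1, c2, d1, d2, e1, e2]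

/-! ### commuting with the symplectic group -/

/-- upper unipotent element -/
def upper (S : Matrix (Fin 2) (Fin 2) F) (hS : Sᵀ = S) : Matrix.symplecticGroup (Fin 2) F :=
  ⟨Matrix.fromBlocks 1 S 0 1, by
    rw [SymplecticGroup.mem_iff, Matrix.J, Matrix.fromBlocks_transpose,
      Matrix.fromBlocks_multiply, Matrix.fromBlocks_multiply]
    simp [hS]⟩

/-- lower unipotent element -/
def lower (S : Matrix (Fin 2) (Fin 2) F) (hS : Sᵀ = S) : Matrix.symplecticGroup (Fin 2) F :=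
  ⟨Matrix.fromBlocks 1 0 S 1, by
    rw [SymplecticGroup.mem_iff, Matrix.J, Matrix.fromBlocks_transpose,
      Matrix.fromBlocks_multiply, Matrix.fromBlocks_multiply]
    simp [hS]⟩

theorem eq_smul_one_of_commute_unip (g : Matrix I4 I4 F)
    (H1 : ∀ S hS, g * (upper S hS).1 = (upper S hS).1 * g)
    (H2 : ∀ S hS, g * (lower S hS).1 = (lower S hS).1 * g) :
    g = g (.inl 0) (.inl 0) • (1 : Matrix I4 I4 F) := by
  have s1 : (!![(1 : F), 0; 0, 0])ᵀ = !![(1 : F), 0; 0, 0] := by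
    ext i j; fin_cases i <;> fin_cases j <;> rfl
  have s2 : (!![(0 : F), 0; 0, 1])ᵀ = !![(0 : F), 0; 0, 1] := by
    ext i j; fin_cases i <;> fin_cases j <;> rfl
  have s3 : (!![(0 : F), 1; 1, 0])ᵀ = !![(0 : F), 1; 1, 0] := by
    ext i j; fin_cases i <;> fin_cases j <;> rfl
  have A := fun i j => congrFun (congrFun (H1 _ s1) i) j
  have B := fun i j => congrFun (congrFun (H1 _ s2) i) j
  have C := fun i j => congrFun (congrFun (H1 _ s3) i) j
  have D := fun i j => congrFun (congrFun (H2 _ s1) i) j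
  have E := fun i j => congrFun (congrFun (H2 _ s2) i) j
  clear H1 H2
  have a1 := A (.inl 0) (.inr 0)
  have a2 := A (.inl 1) (.inr 0)
  have a3 := A (.inr 0) (.inr 0)
  have a4 := A (.inr 1) (.inr 0)
  have a5 := A (.inl 0) (.inr 1)
  have b1 := B (.inl 0) (.inr 1)
  have b2 := B (.inl 1) (.inr 1)
  have b3 := B (.inr 0) (.inr 1)
  have b4 := B (.inr 1) (.inr 1)
  have b5 := B (.inl 1) (.inr 0)
  have c1 := C (.inl 0) (.inr 1)
  have d1 := D (.inl 0) (.inl 0)
  have d2 := D (.inl 1) (.inl 0)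
  have e1 := E (.inl 0) (.inl 1)
  have e2 := E (.inl 1) (.inl 1)
  clear A B C D E
  simp [upper, lower, Matrix.mul_apply, Fin.sum_univ_two, Matrix.one_apply] at a1 a2 a3 a4 a5 b1 b2 b3 b4 b5 c1 d1 d2 e1 e2
  have a1' : g (.inl 0) (.inl 0) = g (.inr 0) (.inr 0) := by linear_combination a1
  have b2' : g (.inl 1) (.inl 1) = g (.inr 1) (.inr 1) := by linear_combination b2
  have c1' : g (.inl 0) (.inl 0) = g (.inr 1) (.inr 1) := by linear_combination c1
  ext i j
  rcases i with i | i <;> rcases j with j | j <;> fin_cases i <;> fin_cases j <;>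
    simp [← a1', b2', ← c1', a2, a3, a4, a5, b1, b3, b4, b5, d1, d2, e1, e2]

theorem trace_upper (S : Matrix (Fin 2) (Fin 2) F) (hS : Sᵀ = S) : (upper S hS).1.trace = 4 := by
  simp [upper, Matrix.trace]
  norm_num

theorem trace_lower (S : Matrix (Fin 2) (Fin 2) F) (hS : Sᵀ = S) : (lower S hS).1.trace = 4 := by
  simp [lower, Matrix.trace]
  norm_num

/-- Two symplectic matrices with the same image under `rho` differ by a scalar. -/
theorem eq_smul_of_rho_eq (h2 : (2 : F) ≠ 0) (g g' : Matrix.symplecticGroup (Fin 2) F)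
    (h : rho h2 g = rho h2 g') : ∃ c : F, g.1 = c • g'.1 := by
  have h1 : (g'⁻¹).1 * g'.1 = 1 := congrArg Subtype.val (inv_mul_cancel g')
  have h1' : g'.1 * (g'⁻¹).1 = 1 := congrArg Subtype.val (mul_inv_cancel g')
  have H : ∀ v, cl v * ((g'⁻¹).1 * g.1) = ((g'⁻¹).1 * g.1) * cl v := by
    intro v
    have e1 := cl_rho_mulVec h2 g v
    have e2 := cl_rho_mulVec h2 g' v
    rw [h] at e1
    set X := cl (((rho h2 g' : Matrix.GeneralLinearGroup I5 F) : Matrix I5 I5 F) *ᵥ v)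
    calc cl v * ((g'⁻¹).1 * g.1) = (g'⁻¹).1 * (g'.1 * cl v) * ((g'⁻¹).1 * g.1) := by
          rw [← Matrix.mul_assoc (g'⁻¹).1, h1, Matrix.one_mul]
      _ = (g'⁻¹).1 * X * (g'.1 * (g'⁻¹).1) * g.1 := by
          rw [← e2]; simp only [Matrix.mul_assoc]
      _ = (g'⁻¹).1 * (X * g.1) := by rw [h1', Matrix.mul_one, Matrix.mul_assoc]
      _ = _ := by rw [e1, Matrix.mul_assoc]
  have := eq_smul_one_of_commute h2 _ H
  refine ⟨((g'⁻¹).1 * g.1) (.inl 0) (.inl 0), ?_⟩
  calc g.1 = g'.1 * ((g'⁻¹).1 * g.1) := by rw [← Matrix.mul_assoc, h1', Matrix.one_mul]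
    _ = _ := by
      rw [this, Matrix.mul_smul, Matrix.mul_one]
      simp

theorem commute_of_rho_commute (h2 : (2 : F) ≠ 0) (g h : Matrix.symplecticGroup (Fin 2) F)
    (hρ : rho h2 (g * h) = rho h2 (h * g)) (ht : h.1.trace ≠ 0) : g.1 * h.1 = h.1 * g.1 := by
  obtain ⟨c, hc⟩ := eq_smul_of_rho_eq h2 _ _ hρ
  change g.1 * h.1 = c • (h.1 * g.1) at hc
  have h1 : (g⁻¹).1 * g.1 = 1 := congrArg Subtype.val (inv_mul_cancel g)
  have h1' : g.1 * (g⁻¹).1 = 1 := congrArg Subtype.val (mul_inv_cancel g)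
  have e1 : g.1 * h.1 * (g⁻¹).1 = c • h.1 := by
    rw [hc, Matrix.smul_mul, Matrix.mul_assoc, h1', Matrix.mul_one]
  have e2 := congrArg Matrix.trace e1
  rw [Matrix.trace_mul_comm, ← Matrix.mul_assoc, h1, Matrix.one_mul, Matrix.trace_smul,
    smul_eq_mul] at e2
  have e3 : c = 1 := by
    have : (c - 1) * h.1.trace = 0 := by linear_combination -e2
    rcases mul_eq_zero.1 this with h | h
    · linear_combination h
    · exact absurd h ht
  rw [hc, e3, one_smul]

/-- if `rho g` commutes with the image of `rho` then `g` is central. -/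
theorem mem_center_of_rho (h2 : (2 : F) ≠ 0) (g : Matrix.symplecticGroup (Fin 2) F)
    (hρ : ∀ h, rho h2 g * rho h2 h = rho h2 h * rho h2 g) :
    g ∈ Subgroup.center (Matrix.symplecticGroup (Fin 2) F) := by
  have h4 : (4 : F) ≠ 0 := by
    have : (4 : F) = 2 * 2 := by norm_num
    rw [this]; exact mul_ne_zero h2 h2
  have hs := eq_smul_one_of_commute_unip g.1
    (fun S hS => commute_of_rho_commute h2 g _ (by rw [map_mul, map_mul, hρ])
      (by rw [trace_upper]; exact h4))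
    (fun S hS => commute_of_rho_commute h2 g _ (by rw [map_mul, map_mul, hρ])
      (by rw [trace_lower]; exact h4))
  rw [Subgroup.mem_center_iff]
  intro h
  apply Subtype.ext
  change h.1 * g.1 = g.1 * h.1
  rw [hs]
  simp

/-! ### The Clifford group -/

/-- tuples `(T, g, μ, ε)` with `cl (T v) g = ε g cl v` and `g J gᵀ = μ J`. -/
def cliffordSubgroup (F : Type*) [Field F] :
    Subgroup (Cfsg.isometryGroup F (Cfsg.quadFormOdd 2 F) × (Matrix.GeneralLinearGroup I4 F × (Fˣ × Fˣ))) where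
  carrier := {x | (∀ v, cl (((x.1 : Matrix.GeneralLinearGroup I5 F) : Matrix I5 I5 F) *ᵥ v) *
      (x.2.1 : Matrix I4 I4 F) = (x.2.2.2 : F) • ((x.2.1 : Matrix I4 I4 F) * cl v)) ∧
      (x.2.1 : Matrix I4 I4 F) * Matrix.J (Fin 2) F * (x.2.1 : Matrix I4 I4 F)ᵀ =
        (x.2.2.1 : F) • Matrix.J (Fin 2) F}
  mul_mem' {x y} hx hy := by
    refine ⟨fun v => ?_, ?_⟩
    · have e := hx.1 (((y.1 : Matrix.GeneralLinearGroup I5 F) : Matrix I5 I5 F) *ᵥ v)
      have e' := hy.1 v
      rw [Matrix.mulVec_mulVec] at e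
      change cl ((((x.1 : Matrix.GeneralLinearGroup I5 F) : Matrix I5 I5 F) *
        ((y.1 : Matrix.GeneralLinearGroup I5 F) : Matrix I5 I5 F)) *ᵥ v) *
        ((x.2.1 : Matrix I4 I4 F) * (y.2.1 : Matrix I4 I4 F)) =
        ((x.2.2.2 : F) * (y.2.2.2 : F)) • (((x.2.1 : Matrix I4 I4 F) * (y.2.1 : Matrix I4 I4 F)) * cl v)
      rw [← Matrix.mul_assoc, e, Matrix.smul_mul, Matrix.mul_assoc, e', Matrix.mul_smul, smul_smul,
        Matrix.mul_assoc]
    · change ((x.2.1 : Matrix I4 I4 F) * (y.2.1 : Matrix I4 I4 F)) * Matrix.J (Fin 2) F *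
        ((x.2.1 : Matrix I4 I4 F) * (y.2.1 : Matrix I4 I4 F))ᵀ = ((x.2.2.1 : F) * (y.2.2.1 : F)) • _
      rw [Matrix.transpose_mul]
      calc _ = (x.2.1 : Matrix I4 I4 F) * ((y.2.1 : Matrix I4 I4 F) * Matrix.J (Fin 2) F *
            (y.2.1 : Matrix I4 I4 F)ᵀ) * (x.2.1 : Matrix I4 I4 F)ᵀ := by
            simp only [Matrix.mul_assoc]
        _ = _ := by
            rw [hy.2, Matrix.mul_smul, Matrix.smul_mul, hx.2, smul_smul, mul_comm]
  one_mem' := by
    refine ⟨fun v => ?_, ?_⟩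
    · change cl ((1 : Matrix I5 I5 F) *ᵥ v) * 1 = (1 : F) • (1 * cl v)
      rw [Matrix.one_mulVec, Matrix.one_mul, Matrix.mul_one, one_smul]
    · change (1 : Matrix I4 I4 F) * _ * (1 : Matrix I4 I4 F)ᵀ = (1 : F) • _
      rw [Matrix.transpose_one, Matrix.one_mul, Matrix.mul_one, one_smul]
  inv_mem' {x} hx := by
    have h1 : (x.2.1 : Matrix I4 I4 F) * ((x.2.1⁻¹ : Matrix.GeneralLinearGroup I4 F) : Matrix I4 I4 F) = 1 :=
      Units.mul_inv x.2.1
    have h2 : ((x.2.1⁻¹ : Matrix.GeneralLinearGroup I4 F) : Matrix I4 I4 F) * (x.2.1 : Matrix I4 I4 F) = 1 :=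
      Units.inv_mul x.2.1
    refine ⟨fun v => ?_, ?_⟩
    · change cl ((((x.1⁻¹ : Cfsg.isometryGroup F (Cfsg.quadFormOdd 2 F)) : Matrix.GeneralLinearGroup I5 F) :
        Matrix I5 I5 F) *ᵥ v) * ((x.2.1⁻¹ : Matrix.GeneralLinearGroup I4 F) : Matrix I4 I4 F)
        = ((x.2.2.2⁻¹ : Fˣ) : F) • (((x.2.1⁻¹ : Matrix.GeneralLinearGroup I4 F) : Matrix I4 I4 F) * cl v)
      set w := (((x.1⁻¹ : Cfsg.isometryGroup F (Cfsg.quadFormOdd 2 F)) : Matrix.GeneralLinearGroup I5 F) :
        Matrix I5 I5 F) *ᵥ v with hw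
      have e := hx.1 w
      have e0 : ((x.1 : Matrix.GeneralLinearGroup I5 F) : Matrix I5 I5 F) *ᵥ w = v := by
        rw [hw, Matrix.mulVec_mulVec]
        have : ((x.1 : Matrix.GeneralLinearGroup I5 F) : Matrix I5 I5 F) *
          (((x.1⁻¹ : Cfsg.isometryGroup F (Cfsg.quadFormOdd 2 F)) : Matrix.GeneralLinearGroup I5 F) :
          Matrix I5 I5 F) = 1 := Units.mul_inv x.1.1
        rw [this, Matrix.one_mulVec]
      rw [e0] at e
      have e1 : (x.2.1 : Matrix I4 I4 F) * cl w = ((x.2.2.2⁻¹ : Fˣ) : F) • (cl v * (x.2.1 : Matrix I4 I4 F)) := by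
        rw [e, smul_smul, Units.inv_mul, one_smul]
      calc cl w * ((x.2.1⁻¹ : Matrix.GeneralLinearGroup I4 F) : Matrix I4 I4 F)
          = ((x.2.1⁻¹ : Matrix.GeneralLinearGroup I4 F) : Matrix I4 I4 F) *
            ((x.2.1 : Matrix I4 I4 F) * cl w) * ((x.2.1⁻¹ : Matrix.GeneralLinearGroup I4 F) : Matrix I4 I4 F) := by
            rw [← Matrix.mul_assoc, h2, Matrix.one_mul]
        _ = _ := by
            rw [e1, Matrix.mul_smul, Matrix.smul_mul, Matrix.mul_assoc, Matrix.mul_assoc, h1, Matrix.mul_one]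
    · change ((x.2.1⁻¹ : Matrix.GeneralLinearGroup I4 F) : Matrix I4 I4 F) * Matrix.J (Fin 2) F *
        ((x.2.1⁻¹ : Matrix.GeneralLinearGroup I4 F) : Matrix I4 I4 F)ᵀ = ((x.2.2.1⁻¹ : Fˣ) : F) • _
      have e1 : Matrix.J (Fin 2) F = ((x.2.2.1⁻¹ : Fˣ) : F) • ((x.2.1 : Matrix I4 I4 F) * Matrix.J (Fin 2) F *
        (x.2.1 : Matrix I4 I4 F)ᵀ) := by
        rw [hx.2, smul_smul, Units.inv_mul, one_smul]
      conv_lhs => rw [e1]
      rw [Matrix.mul_smul, Matrix.smul_mul]
      congr 1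
      calc _ = (((x.2.1⁻¹ : Matrix.GeneralLinearGroup I4 F) : Matrix I4 I4 F) * (x.2.1 : Matrix I4 I4 F)) *
            Matrix.J (Fin 2) F * ((x.2.1 : Matrix I4 I4 F)ᵀ *
            ((x.2.1⁻¹ : Matrix.GeneralLinearGroup I4 F) : Matrix I4 I4 F)ᵀ) := by
            simp only [Matrix.mul_assoc]
        _ = _ := by
            rw [h2, ← Matrix.transpose_mul, h2, Matrix.transpose_one, Matrix.mul_one, Matrix.one_mul]

end Cfsg.Agent.LieClassical.CliffordFive
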