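import Mathlib

set_option autoImplicit false

namespace Cfsg.Agent.LieClassical.Grun

open Subgroup

/-- A perfect group has no nontrivial homomorphism to a commutative image: if `⁅x, g⁆` is central
for all `g`, then `x` is central (Grün's lemma). -/
theorem mem_center_of_forall_commutator_mem {G : Type*} [Group G] (hG : commutator G = ⊤) (x : G)
    (hx : ∀ g : G, x * g * x⁻¹ * g⁻¹ ∈ Subgroup.center G) : x ∈ Subgroup.center G := by
  -- the map g ↦ [x,g] is a homomorphism into the centre
  let f : G →* Subgroup.center G :=
    { toFun := fun g => ⟨x * g * x⁻¹ * g⁻¹, hx g⟩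
      map_one' := by
        apply Subtype.ext; simp
      map_mul' := by
        intro g h
        apply Subtype.ext
        show x * (g * h) * x⁻¹ * (g * h)⁻¹ = x * g * x⁻¹ * g⁻¹ * (x * h * x⁻¹ * h⁻¹)
        have hc := Subgroup.mem_center_iff.mp (hx h)
        -- g * [x,h] = [x,h] * g
        have h1 : x * g * x⁻¹ * g⁻¹ * (x * h * x⁻¹ * h⁻¹)
            = x * g * x⁻¹ * ((g⁻¹ * (x * h * x⁻¹ * h⁻¹))) := by group
        rw [h1, hc g⁻¹]
        group }
  have hf : ∀ g, f g = 1 := by
    intro g
    have hg : g ∈ commutator G := by rw [hG]; exact Subgroup.mem_top g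
    have hle : commutator G ≤ f.ker := by
      rw [commutator_def, Subgroup.commutator_le]
      intro a _ b _
      rw [MonoidHom.mem_ker, map_commutatorElement, commutatorElement_eq_one_iff_mul_comm]
      exact Subtype.ext ((Subgroup.mem_center_iff.mp (f a).2 _).symm)
    exact (MonoidHom.mem_ker).mp (hle hg)
  rw [Subgroup.mem_center_iff]
  intro g
  have h := congrArg Subtype.val (hf g)
  have h' : x * g * x⁻¹ * g⁻¹ = 1 := h
  have : x * g = g * x := by
    have := mul_inv_eq_one.mp h'
    have := mul_inv_eq_iff_eq_mul.mp this
    exact this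
  exact this.symm

/-- If `G` is perfect and `φ : G →* H` is surjective with central kernel then
`G / Z(G) ≃* H / Z(H)`. -/
theorem quotient_center_equiv {G H : Type*} [Group G] [Group H] (hG : commutator G = ⊤)
    (φ : G →* H) (hs : Function.Surjective φ) (hk : φ.ker ≤ Subgroup.center G) :
    Nonempty (G ⧸ Subgroup.center G ≃* H ⧸ Subgroup.center H) := by
  have hcomap : Subgroup.center G = (Subgroup.center H).comap φ := by
    ext x
    rw [Subgroup.mem_comap]
    constructor
    · intro hx
      rw [Subgroup.mem_center_iff] at hx ⊢
      intro h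
      obtain ⟨g, rfl⟩ := hs h
      rw [← map_mul, hx g, map_mul]
    · intro hx
      apply mem_center_of_forall_commutator_mem hG
      intro g
      apply hk
      rw [MonoidHom.mem_ker]
      rw [Subgroup.mem_center_iff] at hx
      rw [map_mul, map_mul, map_mul, map_inv, map_inv, ← hx (φ g)]
      group
  let ψ : G →* H ⧸ Subgroup.center H := (QuotientGroup.mk' (Subgroup.center H)).comp φ
  have hψs : Function.Surjective ψ := (QuotientGroup.mk'_surjective _).comp hs
  have hψk : ψ.ker = Subgroup.center G := by
    rw [hcomap]
    ext x
    rw [MonoidHom.mem_ker, Subgroup.mem_comap]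
    exact QuotientGroup.eq_one_iff _
  exact ⟨(QuotientGroup.quotientMulEquivOfEq hψk.symm).trans
    (QuotientGroup.quotientKerEquivOfSurjective ψ hψs)⟩

/-- Isomorphic groups have isomorphic central quotients of their commutator subgroups. -/
theorem commutator_quotient_center_congr {G H : Type*} [Group G] [Group H] (e : G ≃* H) :
    Nonempty (commutator G ≃* commutator H) := by
  have h : (commutator G).map (e : G →* H) = commutator H := by
    rw [commutator_def, commutator_def, Subgroup.map_commutator]
    congr 1
    · exact Subgroup.map_top_of_surjective _ e.surjective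
    · exact Subgroup.map_top_of_surjective _ e.surjective
  exact ⟨(e.subgroupMap (commutator G)).trans (MulEquiv.subgroupCongr h)⟩

end Cfsg.Agent.LieClassical.Grun
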