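import Mathlib

set_option autoImplicit false

/-!
Generation of orthogonal groups by reflections, in every characteristic (and over every field,
`F_2` included), for quadratic spaces `H ⊥ H ⊥ W` with `W` a plane; with a step lemma for `H ⊥ W`.
-/

namespace Cfsg.Agent.LieClassical.ReflGen

open QuadraticMap

variable {F V : Type*} [Field F] [AddCommGroup V] [Module F V]

/-- The isometry group of a function `Q : V → F`, as a subgroup of the group of linear
automorphisms. -/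
def orth (Q : V → F) : Subgroup (V ≃ₗ[F] V) where
  carrier := {g | ∀ v, Q (g v) = Q v}
  mul_mem' {a b} ha hb := by
    intro v
    show Q (a (b v)) = Q v
    rw [ha, hb]
  one_mem' := fun v => rfl
  inv_mem' {a} ha := by
    intro v
    have h := ha (a⁻¹ v)
    rw [← h]
    have h2 : a (a⁻¹ v) = v := by
      show (a * a⁻¹) v = v
      rw [mul_inv_cancel]; rfl
    rw [h2]

theorem mem_orth_iff {Q : V → F} {g : V ≃ₗ[F] V} : g ∈ orth Q ↔ ∀ v, Q (g v) = Q v := Iff.rfl

variable (Q : QuadraticForm F V)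

theorem orth_polar (g : orth (Q : V → F)) (x y : V) :
    polar Q ((g : V ≃ₗ[F] V) x) ((g : V ≃ₗ[F] V) y) = polar Q x y := by
  unfold polar
  rw [← map_add, g.2, g.2, g.2]

theorem polar_self' (x : V) (h : Q x = 0) : polar Q x x = 0 := by
  rw [QuadraticMap.polar_self, h]; simp

/-- The reflection `x ↦ x - Q(a)⁻¹ B(a,x) a` as a linear map. -/
noncomputable def reflLin (a : V) : V →ₗ[F] V :=
  LinearMap.id - ((Q a)⁻¹ • (polarBilin Q a)).smulRight a

theorem reflLin_apply (a x : V) : reflLin Q a x = x - ((Q a)⁻¹ * polar Q a x) • a := by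
  simp [reflLin]

theorem polar_sub_right' (x y z : V) : polar Q x (y - z) = polar Q x y - polar Q x z :=
  QuadraticMap.polar_sub_right Q x y z

theorem polar_smul_right' (c : F) (x y : V) : polar Q x (c • y) = c * polar Q x y := by
  rw [QuadraticMap.polar_smul_right, smul_eq_mul]

theorem polar_smul_left' (c : F) (x y : V) : polar Q (c • x) y = c * polar Q x y := by
  rw [QuadraticMap.polar_smul_left, smul_eq_mul]

theorem Q_smul (c : F) (x : V) : Q (c • x) = c * c * Q x := by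
  rw [QuadraticMap.map_smul, smul_eq_mul]

theorem Q_add (x y : V) : Q (x + y) = Q x + Q y + polar Q x y := by
  unfold polar; ring

theorem Q_sub (x y : V) : Q (x - y) = Q x + Q y - polar Q x y := by
  have h := Q_add Q x (-y)
  rw [← sub_eq_add_neg, QuadraticMap.polar_neg_right, QuadraticMap.map_neg] at h
  rw [h]; ring

theorem polar_self_two (x : V) : polar Q x x = 2 * Q x := by
  rw [QuadraticMap.polar_self, two_nsmul, two_mul]

theorem reflLin_reflLin {a : V} (ha : Q a ≠ 0) (x : V) : reflLin Q a (reflLin Q a x) = x := by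
  rw [reflLin_apply, reflLin_apply, polar_sub_right', polar_smul_right', polar_self_two,
    sub_sub, ← add_smul]
  have : (Q a)⁻¹ * polar Q a x +
      (Q a)⁻¹ * (polar Q a x - (Q a)⁻¹ * polar Q a x * (2 * Q a)) = 0 := by
    field_simp
    ring
  rw [this, zero_smul, sub_zero]

theorem Q_reflLin {a : V} (ha : Q a ≠ 0) (x : V) : Q (reflLin Q a x) = Q x := by
  rw [reflLin_apply, Q_sub, polar_smul_right', Q_smul, QuadraticMap.polar_comm Q x a]
  field_simp
  ring

/-- The reflection as an element of the isometry group. -/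
noncomputable def refl (a : V) (ha : Q a ≠ 0) : orth (Q : V → F) :=
  ⟨LinearEquiv.ofInvolutive (reflLin Q a) (reflLin_reflLin Q ha), Q_reflLin Q ha⟩

theorem refl_apply (a : V) (ha : Q a ≠ 0) (x : V) :
    (refl Q a ha : V ≃ₗ[F] V) x = x - ((Q a)⁻¹ * polar Q a x) • a := reflLin_apply Q a x

theorem refl_mul_self (a : V) (ha : Q a ≠ 0) : refl Q a ha * refl Q a ha = 1 := by
  apply Subtype.ext
  apply LinearEquiv.ext
  intro x
  exact reflLin_reflLin Q ha x

/-- The set of all reflections. -/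
def reflSet : Set (orth (Q : V → F)) := {g | ∃ (a : V) (ha : Q a ≠ 0), g = refl Q a ha}

/-- The group generated by all reflections. -/
def reflGroup : Subgroup (orth (Q : V → F)) := Subgroup.closure (reflSet Q)

theorem refl_mem (a : V) (ha : Q a ≠ 0) : refl Q a ha ∈ reflGroup Q :=
  Subgroup.subset_closure ⟨a, ha, rfl⟩

/-- The reflection in `x - y` moves `x` to `y` when `Q x = Q y` and `Q (x - y) ≠ 0`. -/
theorem refl_sub_apply (x y : V) (hxy : Q x = Q y) (h : Q (x - y) ≠ 0) :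
    (refl Q (x - y) h : V ≃ₗ[F] V) x = y := by
  rw [refl_apply]
  have h1 : polar Q (x - y) x = Q (x - y) := by
    rw [QuadraticMap.polar_sub_left, polar_self_two, Q_sub, hxy, QuadraticMap.polar_comm Q y x]
    ring
  rw [h1, inv_mul_cancel₀ h, one_smul]
  abel

/-- A reflection fixes what is orthogonal to its centre. -/
theorem refl_apply_of_polar_eq_zero (a : V) (ha : Q a ≠ 0) (x : V) (hx : polar Q a x = 0) :
    (refl Q a ha : V ≃ₗ[F] V) x = x := by
  rw [refl_apply, hx]; simp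

/-- The Siegel (Eichler) transformation `x ↦ x + B(x,u) w - B(x,w) u - Q(w) B(x,u) u`. -/
def siegelFun (u w x : V) : V :=
  x + polar Q x u • w - polar Q x w • u - (Q w * polar Q x u) • u

/-- The reflection group contains the Siegel transformation of `(u, w)`. -/
def HasSiegel (u w : V) : Prop :=
  ∃ h ∈ reflGroup Q, ∀ x, ((h : orth (Q : V → F)) : V ≃ₗ[F] V) x = siegelFun Q u w x

theorem hasSiegel_of_ne {u w : V} (hu : Q u = 0) (huw : polar Q u w = 0) (hw : Q w ≠ 0) :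
    HasSiegel Q u w := by
  have hQ : Q (w + Q w • u) = Q w := by
    rw [Q_add, Q_smul, hu, polar_smul_right', QuadraticMap.polar_comm Q w u, huw]; ring
  have h1 : Q (w + Q w • u) ≠ 0 := by rw [hQ]; exact hw
  refine ⟨refl Q w hw * refl Q (w + Q w • u) h1,
    mul_mem (refl_mem Q _ _) (refl_mem Q _ _), ?_⟩
  intro x
  show (refl Q w hw : V ≃ₗ[F] V) ((refl Q (w + Q w • u) h1 : V ≃ₗ[F] V) x) = _
  rw [refl_apply, refl_apply, hQ, siegelFun]
  rw [QuadraticMap.polar_add_left, polar_smul_left', QuadraticMap.polar_sub_right Q,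
    polar_smul_right', QuadraticMap.polar_add_right, polar_smul_right', polar_self_two,
    QuadraticMap.polar_comm Q w u, huw, QuadraticMap.polar_comm Q x u,
    QuadraticMap.polar_comm Q x w]
  set p := polar Q w x
  set r := polar Q u x
  have e1 : (Q w)⁻¹ * (p + Q w * r) = (Q w)⁻¹ * p + r := by field_simp
  rw [e1]
  have e2 : (Q w)⁻¹ * (p - ((Q w)⁻¹ * p + r) * (2 * Q w + Q w * 0)) = -((Q w)⁻¹ * p + r + r) := by
    field_simp; ring
  rw [e2]
  have e3 : ((Q w)⁻¹ * p + r) * Q w = p + r * Q w := by field_simp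
  rw [smul_add, smul_smul, e3]
  module

theorem siegelFun_comp {u w₁ w₂ : V} (hu : Q u = 0) (h1 : polar Q u w₁ = 0)
    (h2 : polar Q u w₂ = 0) (x : V) :
    siegelFun Q u w₁ (siegelFun Q u w₂ x) = siegelFun Q u (w₁ + w₂) x := by
  have hB : polar Q (siegelFun Q u w₂ x) u = polar Q x u := by
    unfold siegelFun
    simp only [QuadraticMap.polar_sub_left, QuadraticMap.polar_add_left, polar_smul_left',
      polar_self_two, hu, QuadraticMap.polar_comm Q w₂ u, h2]
    ring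
  have hB1 : polar Q (siegelFun Q u w₂ x) w₁ = polar Q x w₁ + polar Q x u * polar Q w₂ w₁ := by
    unfold siegelFun
    simp only [QuadraticMap.polar_sub_left, QuadraticMap.polar_add_left, polar_smul_left',
      h1]
    ring
  rw [siegelFun, hB, hB1]
  unfold siegelFun
  rw [Q_add Q w₁ w₂, QuadraticMap.polar_add_right, QuadraticMap.polar_comm Q w₂ w₁]
  module

theorem HasSiegel.add {u w₁ w₂ : V} (hu : Q u = 0) (h1 : polar Q u w₁ = 0)
    (h2 : polar Q u w₂ = 0) (H1 : HasSiegel Q u w₁) (H2 : HasSiegel Q u w₂) :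
    HasSiegel Q u (w₁ + w₂) := by
  obtain ⟨a, ha, ha'⟩ := H1
  obtain ⟨b, hb, hb'⟩ := H2
  refine ⟨a * b, mul_mem ha hb, fun x => ?_⟩
  show (a : V ≃ₗ[F] V) ((b : V ≃ₗ[F] V) x) = _
  rw [hb', ha', siegelFun_comp Q hu h1 h2]

/-- The reflection group contains the Siegel transformation of `(u, w)` as soon as there is a
non-singular vector orthogonal to `u` and `w`. -/
theorem hasSiegel_of_exists {u w : V} (hu : Q u = 0) (huw : polar Q u w = 0)
    (h : ∃ w', polar Q u w' = 0 ∧ polar Q w w' = 0 ∧ Q w' ≠ 0) : HasSiegel Q u w := by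
  by_cases hw : Q w = 0
  · obtain ⟨w', hw1, hw2, hw3⟩ := h
    have e : w = (w - w') + w' := by abel
    rw [e]
    apply HasSiegel.add Q hu
    · rw [QuadraticMap.polar_sub_right, huw, hw1, sub_zero]
    · exact hw1
    · apply hasSiegel_of_ne Q hu
      · rw [QuadraticMap.polar_sub_right, huw, hw1, sub_zero]
      · rw [Q_sub, hw, hw2]; simpa using hw3
    · exact hasSiegel_of_ne Q hu hw1 hw3
  · exact hasSiegel_of_ne Q hu huw hw

/-- The pointwise fixer of a set of vectors in the isometry group. -/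
def fixer (C : Set V) : Subgroup (orth (Q : V → F)) where
  carrier := {g | ∀ c ∈ C, (g : V ≃ₗ[F] V) c = c}
  mul_mem' {a b} ha hb := by
    intro c hc
    show (a : V ≃ₗ[F] V) ((b : V ≃ₗ[F] V) c) = c
    rw [hb c hc, ha c hc]
  one_mem' := fun c _ => rfl
  inv_mem' {a} ha := by
    intro c hc
    have h := ha c hc
    show (a : V ≃ₗ[F] V)⁻¹ c = c
    conv_lhs => rw [← h]
    show ((a : V ≃ₗ[F] V)⁻¹ * (a : V ≃ₗ[F] V)) c = c
    rw [inv_mul_cancel]; rfl

theorem mem_fixer_iff {C : Set V} {g : orth (Q : V → F)} :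
    g ∈ fixer Q C ↔ ∀ c ∈ C, (g : V ≃ₗ[F] V) c = c := Iff.rfl

/-- `w` is orthogonal to `C` and to `e`, `f`. -/
def InW (C : Set V) (e f w : V) : Prop :=
  (∀ c ∈ C, polar Q c w = 0) ∧ polar Q e w = 0 ∧ polar Q f w = 0

theorem siegel_fixes {u w c : V} (hu : polar Q c u = 0) (hw : polar Q c w = 0) :
    siegelFun Q u w c = c := by
  unfold siegelFun
  rw [hu, hw]; simp

theorem HasSiegel.fix {C : Set V} {u w : V} (h : HasSiegel Q u w)
    (hu : ∀ c ∈ C, polar Q c u = 0) (hw : ∀ c ∈ C, polar Q c w = 0) :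
    ∃ h ∈ reflGroup Q ⊓ fixer Q C, ∀ x, ((h : orth (Q : V → F)) : V ≃ₗ[F] V) x
      = siegelFun Q u w x := by
  obtain ⟨a, ha, hax⟩ := h
  refine ⟨a, ⟨ha, ?_⟩, hax⟩
  intro c hc
  rw [hax]
  exact siegel_fixes Q (hu c hc) (hw c hc)

/-- The component of `u` orthogonal to the hyperbolic pair. -/
theorem inW_comp {C : Set V} {e f u : V} (he : Q e = 0) (hf : Q f = 0) (hef : polar Q e f = 1)
    (hCe : ∀ c ∈ C, polar Q c e = 0) (hCf : ∀ c ∈ C, polar Q c f = 0)
    (hu : ∀ c ∈ C, polar Q c u = 0) :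
    InW Q C e f (u - polar Q u f • e - polar Q u e • f) := by
  have hfe : polar Q f e = 1 := by rw [QuadraticMap.polar_comm]; exact hef
  refine ⟨fun c hc => ?_, ?_, ?_⟩
  · rw [polar_sub_right', polar_sub_right', polar_smul_right', polar_smul_right', hu c hc,
      hCe c hc, hCf c hc]; ring
  · rw [polar_sub_right', polar_sub_right', polar_smul_right', polar_smul_right',
      polar_self_two, he, hef, QuadraticMap.polar_comm Q u e]; ring
  · rw [polar_sub_right', polar_sub_right', polar_smul_right', polar_smul_right',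
      polar_self_two, hf, hfe, QuadraticMap.polar_comm Q u f]; ring

section Step

variable {Q}
variable {C : Set V} {e f : V} (he : Q e = 0) (hf : Q f = 0) (hef : polar Q e f = 1)
    (hCe : ∀ c ∈ C, polar Q c e = 0) (hCf : ∀ c ∈ C, polar Q c f = 0)
    (hSe : ∀ w, InW Q C e f w → HasSiegel Q e w) (hSf : ∀ w, InW Q C e f w → HasSiegel Q f w)
include he hf hef hCe hCf

include hSf in
theorem step_a {u : V} (hu : ∀ c ∈ C, polar Q c u = 0) (hu0 : Q u = 0) (huf : polar Q u f ≠ 0) :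
    ∃ h ∈ reflGroup Q ⊓ fixer Q C, ((h : orth (Q : V → F)) : V ≃ₗ[F] V) u
      = polar Q u f • e := by
  set α := polar Q u f with hα
  set β := polar Q u e with hβ
  have hW := inW_comp Q he hf hef hCe hCf hu
  rw [← hα, ← hβ] at hW
  set w₀ := u - α • e - β • f with hw₀
  have hW' : InW Q C e f (-(α⁻¹ • w₀)) := by
    refine ⟨fun c hc => ?_, ?_, ?_⟩
    · rw [QuadraticMap.polar_neg_right, polar_smul_right', hW.1 c hc]; simp
    · rw [QuadraticMap.polar_neg_right, polar_smul_right', hW.2.1]; simp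
    · rw [QuadraticMap.polar_neg_right, polar_smul_right', hW.2.2]; simp
  obtain ⟨h, hh, hx⟩ := (hSf _ hW').fix Q hCf hW'.1
  refine ⟨h, hh, ?_⟩
  have h1 := hx u
  have key : ∃ γ : F, ((h : orth (Q : V → F)) : V ≃ₗ[F] V) u = α • e + γ • f := by
    refine ⟨β - polar Q u (-(α⁻¹ • w₀)) - Q (-(α⁻¹ • w₀)) * α, ?_⟩
    rw [h1, siegelFun, ← hα]
    have : u = w₀ + α • e + β • f := by rw [hw₀]; abel
    conv_lhs => rw [this]
    have h3 : α • -(α⁻¹ • w₀) = -w₀ := by
      rw [smul_neg, smul_smul, mul_inv_cancel₀ huf, one_smul]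
    rw [← this, h3]
    conv_lhs =>
      arg 1; arg 1; arg 1; rw [this]
    module
  obtain ⟨γ, hγ⟩ := key
  have h2 : Q (((h : orth (Q : V → F)) : V ≃ₗ[F] V) u) = 0 := by
    rw [(h.2 : ∀ v, Q ((h : V ≃ₗ[F] V) v) = Q v), hu0]
  rw [hγ, Q_add, Q_smul, Q_smul, he, hf, polar_smul_left', polar_smul_right', hef] at h2
  have h3 : γ = 0 := by
    have h4 : α * γ = 0 := by linear_combination h2
    exact (mul_eq_zero.mp h4).resolve_left huf
  rw [hγ, h3, zero_smul, add_zero]

include hSe in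
theorem step_b {u : V} (hu : ∀ c ∈ C, polar Q c u = 0) (hu0 : Q u = 0) (hune : u ≠ 0)
    (hnd : ∀ w, InW Q C e f w → w ≠ 0 → ∃ w', InW Q C e f w' ∧ polar Q w w' ≠ 0)
    (hns : ∃ w, InW Q C e f w ∧ Q w ≠ 0) :
    ∃ h ∈ reflGroup Q ⊓ fixer Q C, polar Q (((h : orth (Q : V → F)) : V ≃ₗ[F] V) u) f ≠ 0 := by
  have hfe : polar Q f e = 1 := by rw [QuadraticMap.polar_comm]; exact hef
  by_cases hα : polar Q u f = 0
  swap
  · exact ⟨1, one_mem _, hα⟩
  -- α = 0
  have hW := inW_comp Q he hf hef hCe hCf hu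
  rw [hα, zero_smul, sub_zero] at hW
  set β := polar Q u e with hβ
  set w₀ := u - β • f with hw₀
  have hu' : u = w₀ + β • f := by rw [hw₀]; abel
  by_cases hβ0 : β = 0
  · -- u = w₀ ≠ 0
    rw [hβ0, zero_smul, add_zero] at hu'
    have hw0 : w₀ ≠ 0 := by rw [← hu']; exact hune
    obtain ⟨w', hw', hne⟩ := hnd w₀ hW hw0
    obtain ⟨h, hh, hx⟩ := (hSe _ hw').fix Q hCe hw'.1
    refine ⟨h, hh, ?_⟩
    rw [hx, siegelFun, ← hβ, hβ0]
    simp only [zero_smul, add_zero, mul_zero, sub_zero, QuadraticMap.polar_sub_left,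
      polar_smul_left', hα, hef]
    rw [hu']
    simpa using hne
  · -- β ≠ 0 : first move to β f, then by a nonsingular vector
    obtain ⟨w1, hw1, hw1n⟩ := hns
    have hQw0 : Q w₀ = 0 := by
      have := hu0
      rw [hu', Q_add, Q_smul, hf, polar_smul_right', QuadraticMap.polar_comm Q w₀ f, hW.2.2] at this
      linear_combination this
    have hW' : InW Q C e f (-(β⁻¹ • w₀) + w1) := by
      refine ⟨fun c hc => ?_, ?_, ?_⟩
      · rw [QuadraticMap.polar_add_right, QuadraticMap.polar_neg_right, polar_smul_right',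
          hW.1 c hc, hw1.1 c hc]; simp
      · rw [QuadraticMap.polar_add_right, QuadraticMap.polar_neg_right, polar_smul_right',
          hW.2.1, hw1.2.1]; simp
      · rw [QuadraticMap.polar_add_right, QuadraticMap.polar_neg_right, polar_smul_right',
          hW.2.2, hw1.2.2]; simp
    obtain ⟨h, hh, hx⟩ := (hSe _ hW').fix Q hCe hW'.1
    refine ⟨h, hh, ?_⟩
    rw [hx, siegelFun, ← hβ]
    have hfw0 : polar Q w₀ f = 0 := by rw [QuadraticMap.polar_comm]; exact hW.2.2
    have hfw1 : polar Q w1 f = 0 := by rw [QuadraticMap.polar_comm]; exact hw1.2.2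
    have hww : polar Q w₀ w₀ = 0 := by rw [polar_self_two, hQw0]; ring
    have e1 : polar Q u (-(β⁻¹ • w₀) + w1) = polar Q w₀ w1 := by
      rw [hu']
      simp only [QuadraticMap.polar_add_left, QuadraticMap.polar_add_right, polar_smul_left',
        polar_smul_right', QuadraticMap.polar_neg_right, hW.2.2, hw1.2.2, hww]
      ring
    have e2 : Q (-(β⁻¹ • w₀) + w1) = Q w1 - β⁻¹ * polar Q w₀ w1 := by
      rw [Q_add, QuadraticMap.map_neg, Q_smul, hQw0, QuadraticMap.polar_neg_left,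
        polar_smul_left']
      ring
    rw [e1, e2]
    simp only [QuadraticMap.polar_sub_left, QuadraticMap.polar_add_left,
      polar_smul_left', hα, hef, QuadraticMap.polar_neg_left, hfw0, hfw1]
    have e3 : 0 + β * (-(β⁻¹ * 0) + 0) - polar Q w₀ w1 * 1
        - (Q w1 - β⁻¹ * polar Q w₀ w1) * β * 1 = -(Q w1 * β) := by
      field_simp
      ring
    rw [e3]
    exact neg_ne_zero.mpr (mul_ne_zero hw1n hβ0)

/-- Scaling of a hyperbolic pair. -/
theorem step_c (t : F) (ht : t ≠ 0) :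
    ∃ h ∈ reflGroup Q ⊓ fixer Q C, ((h : orth (Q : V → F)) : V ≃ₗ[F] V) e = t • e ∧
      ((h : orth (Q : V → F)) : V ≃ₗ[F] V) f = t⁻¹ • f ∧
      (∀ x, polar Q e x = 0 → polar Q f x = 0 → ((h : orth (Q : V → F)) : V ≃ₗ[F] V) x = x) := by
  have hfe : polar Q f e = 1 := by rw [QuadraticMap.polar_comm]; exact hef
  have hQ : ∀ s : F, Q (e - s • f) = -s := by
    intro s
    rw [Q_sub, he, Q_smul, hf, polar_smul_right', hef]; ring
  have h1 : Q (e - (1:F) • f) ≠ 0 := by rw [hQ]; simp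
  have h2 : Q (e - t • f) ≠ 0 := by rw [hQ]; simpa using ht
  have hpe : ∀ s : F, polar Q (e - s • f) e = -s := by
    intro s
    rw [QuadraticMap.polar_sub_left, polar_smul_left', polar_self_two, he, hfe]; ring
  have hpf : ∀ s : F, polar Q (e - s • f) f = 1 := by
    intro s
    rw [QuadraticMap.polar_sub_left, polar_smul_left', polar_self_two, hf, hef]; ring
  have hre : ∀ (s : F) (hs : Q (e - s • f) ≠ 0),
      (refl Q (e - s • f) hs : V ≃ₗ[F] V) e = s • f := by
    intro s hs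
    rw [refl_apply, hQ, hpe]
    have hs' : s ≠ 0 := by rw [hQ] at hs; simpa using hs
    rw [inv_mul_cancel₀ (neg_ne_zero.mpr hs'), one_smul]; abel
  have hrf : ∀ (s : F) (hs : Q (e - s • f) ≠ 0),
      (refl Q (e - s • f) hs : V ≃ₗ[F] V) f = s⁻¹ • e := by
    intro s hs
    rw [refl_apply, hQ, hpf]
    have hs' : s ≠ 0 := by rw [hQ] at hs; simpa using hs
    rw [mul_one, smul_sub, smul_smul, inv_neg, neg_mul, inv_mul_cancel₀ hs']
    module
  have hrx : ∀ (s : F) (hs : Q (e - s • f) ≠ 0) (x : V), polar Q e x = 0 → polar Q f x = 0 →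
      (refl Q (e - s • f) hs : V ≃ₗ[F] V) x = x := by
    intro s hs x hx1 hx2
    apply refl_apply_of_polar_eq_zero
    rw [QuadraticMap.polar_sub_left, polar_smul_left', hx1, hx2]; ring
  have hrc : ∀ (s : F) (hs : Q (e - s • f) ≠ 0), refl Q (e - s • f) hs ∈ fixer Q C := by
    intro s hs c hc
    apply hrx
    · rw [QuadraticMap.polar_comm]; exact hCe c hc
    · rw [QuadraticMap.polar_comm]; exact hCf c hc
  refine ⟨refl Q (e - (1:F) • f) h1 * refl Q (e - t • f) h2,
    mul_mem ⟨refl_mem Q _ _, hrc _ _⟩ ⟨refl_mem Q _ _, hrc _ _⟩, ?_, ?_, ?_⟩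
  · show (refl Q (e - (1:F) • f) h1 : V ≃ₗ[F] V) ((refl Q (e - t • f) h2 : V ≃ₗ[F] V) e) = _
    rw [hre, map_smul, hrf, inv_one, one_smul]
  · show (refl Q (e - (1:F) • f) h1 : V ≃ₗ[F] V) ((refl Q (e - t • f) h2 : V ≃ₗ[F] V) f) = _
    rw [hrf, map_smul, hre, one_smul]
  · intro x hx1 hx2
    show (refl Q (e - (1:F) • f) h1 : V ≃ₗ[F] V) ((refl Q (e - t • f) h2 : V ≃ₗ[F] V) x) = _
    rw [hrx t h2 x hx1 hx2, hrx 1 h1 x hx1 hx2]

include hSe hSf in
/-- The step lemma: an isometry `g` fixing `C` pointwise can be corrected, by a product of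
reflections fixing `C` pointwise, to one that also fixes the hyperbolic pair `e, f`. -/
theorem step
    (hnd : ∀ w, InW Q C e f w → w ≠ 0 → ∃ w', InW Q C e f w' ∧ polar Q w w' ≠ 0)
    (hns : ∃ w, InW Q C e f w ∧ Q w ≠ 0)
    (g : orth (Q : V → F)) (hg : g ∈ fixer Q C) :
    ∃ h ∈ reflGroup Q ⊓ fixer Q C, h * g ∈ fixer Q (C ∪ {e, f}) := by
  have hfe : polar Q f e = 1 := by rw [QuadraticMap.polar_comm]; exact hef
  have he0 : e ≠ 0 := by
    rintro rfl
    rw [QuadraticMap.polar_zero_left] at hef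
    exact zero_ne_one hef
  -- every isometry fixing C maps vectors orthogonal to C to such vectors
  have hperp : ∀ (k : orth (Q : V → F)), k ∈ fixer Q C → ∀ x, (∀ c ∈ C, polar Q c x = 0) →
      ∀ c ∈ C, polar Q c ((k : V ≃ₗ[F] V) x) = 0 := by
    intro k hk x hx c hc
    have := orth_polar Q k c x
    rw [hk c hc] at this
    rw [this]; exact hx c hc
  -- step 1: make B(g e, f) ≠ 0
  obtain ⟨h1, hh1, hh1f⟩ := step_b he hf hef hCe hCf hSe (u := (g : V ≃ₗ[F] V) e)
    (hperp g hg e hCe) (by rw [g.2, he]) (by simpa using he0) hnd hns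
  -- step 2: g e ↦ α e
  obtain ⟨h2, hh2, hh2e⟩ := step_a he hf hef hCe hCf hSf
    (u := (h1 : V ≃ₗ[F] V) ((g : V ≃ₗ[F] V) e))
    (hperp h1 hh1.2 _ (hperp g hg e hCe)) (by rw [h1.2, g.2, he]) hh1f
  set α := polar Q ((h1 : V ≃ₗ[F] V) ((g : V ≃ₗ[F] V) e)) f with hα
  obtain ⟨h3, hh3, hh3e, hh3f, -⟩ := step_c he hf hef hCe hCf α⁻¹ (inv_ne_zero hh1f)
  -- now k = h3 h2 h1 g fixes e
  set k : orth (Q : V → F) := h3 * h2 * h1 * g with hk
  have hkC : k ∈ fixer Q C := mul_mem (mul_mem (mul_mem hh3.2 hh2.2) hh1.2) hg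
  have hke : (k : V ≃ₗ[F] V) e = e := by
    show (h3 : V ≃ₗ[F] V) ((h2 : V ≃ₗ[F] V) ((h1 : V ≃ₗ[F] V) ((g : V ≃ₗ[F] V) e))) = e
    rw [hh2e, map_smul, hh3e, smul_smul, mul_inv_cancel₀ hh1f, one_smul]
  -- k f = f + w + γ e
  have hkf : polar Q ((k : V ≃ₗ[F] V) f) e = 1 := by
    have := orth_polar Q k f e
    rw [hke] at this
    rw [this, hfe]
  have hfC := hperp k hkC f hCf
  have hW := inW_comp Q he hf hef hCe hCf hfC
  rw [hkf, one_smul] at hW
  set γ := polar Q ((k : V ≃ₗ[F] V) f) f with hγ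
  set w := (k : V ≃ₗ[F] V) f - γ • e - f with hw
  have hW' : InW Q C e f (-w) := by
    refine ⟨fun c hc => ?_, ?_, ?_⟩
    · rw [QuadraticMap.polar_neg_right, hW.1 c hc]; simp
    · rw [QuadraticMap.polar_neg_right, hW.2.1]; simp
    · rw [QuadraticMap.polar_neg_right, hW.2.2]; simp
  obtain ⟨h4, hh4, hx⟩ := (hSe _ hW').fix Q hCe hW'.1
  have h4e : (h4 : V ≃ₗ[F] V) e = e := by
    rw [hx, siegelFun, polar_self_two, he, QuadraticMap.polar_neg_right, hW.2.1]
    simp
  have h4f : (h4 : V ≃ₗ[F] V) ((k : V ≃ₗ[F] V) f) = f := by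
    have key : ∃ δ : F, (h4 : V ≃ₗ[F] V) ((k : V ≃ₗ[F] V) f) = f + δ • e := by
      refine ⟨γ - polar Q ((k : V ≃ₗ[F] V) f) (-w) - Q (-w), ?_⟩
      rw [hx, siegelFun, hkf]
      have : (k : V ≃ₗ[F] V) f = w + γ • e + f := by rw [hw]; abel
      conv_lhs =>
        arg 1; arg 1; arg 1; rw [this]
      module
    obtain ⟨δ, hδ⟩ := key
    have h5 : Q ((h4 : V ≃ₗ[F] V) ((k : V ≃ₗ[F] V) f)) = 0 := by rw [h4.2, k.2, hf]
    rw [hδ, Q_add, Q_smul, hf, he, polar_smul_right', hfe] at h5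
    have h6 : δ = 0 := by linear_combination h5
    rw [hδ, h6, zero_smul, add_zero]
  refine ⟨h4 * (h3 * h2 * h1), mul_mem hh4 (mul_mem (mul_mem hh3 hh2) hh1), ?_⟩
  have heq : h4 * (h3 * h2 * h1) * g = h4 * k := by rw [hk]; group
  rw [heq]
  rintro c (hc | hc)
  · show (h4 : V ≃ₗ[F] V) ((k : V ≃ₗ[F] V) c) = c
    rw [hkC c hc, hh4.2 c hc]
  · rcases hc with rfl | hc
    · show (h4 : V ≃ₗ[F] V) ((k : V ≃ₗ[F] V) c) = c
      rw [hke, h4e]
    · rw [Set.mem_singleton_iff] at hc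
      subst hc
      exact h4f

end Step

/-! ### Two hyperbolic planes and a plane -/

theorem polar_zero_of_span {S : Set V} (hS : Submodule.span F S = ⊤) {x : V}
    (hx : ∀ s ∈ S, polar Q x s = 0) (y : V) : polar Q x y = 0 := by
  have hy : y ∈ Submodule.span F S := by rw [hS]; trivial
  induction hy using Submodule.span_induction with
  | mem s hs => exact hx s hs
  | zero => rw [QuadraticMap.polar_zero_right]
  | add a b _ _ ha hb => rw [QuadraticMap.polar_add_right, ha, hb, add_zero]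
  | smul c a _ ha => rw [polar_smul_right', ha, mul_zero]

theorem eq_one_of_fixer {S : Set V} (hS : Submodule.span F S = ⊤) {g : orth (Q : V → F)}
    (hg : g ∈ fixer Q S) : g = 1 := by
  apply Subtype.ext
  apply LinearEquiv.toLinearMap_injective
  apply LinearMap.ext_on hS
  intro s hs
  exact hg s hs

/-- The last step, hyperbolic case. -/
theorem fixer_le_of_hyperbolic {C : Set V} {e f : V} (he : Q e = 0) (hf : Q f = 0)
    (hef : polar Q e f = 1)
    (hCe : ∀ c ∈ C, polar Q c e = 0) (hCf : ∀ c ∈ C, polar Q c f = 0)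
    (hnd : ∀ x, (∀ y, polar Q x y = 0) → x = 0)
    (hspan : Submodule.span F (C ∪ {e, f}) = ⊤) : fixer Q C ≤ reflGroup Q := by
  intro g hg
  have hfe : polar Q f e = 1 := by rw [QuadraticMap.polar_comm]; exact hef
  -- decomposition of vectors orthogonal to `C`
  have hdec : ∀ u, (∀ c ∈ C, polar Q c u = 0) → u = polar Q u f • e + polar Q u e • f := by
    intro u hu
    have hW := inW_comp Q he hf hef hCe hCf hu
    have h0 : u - polar Q u f • e - polar Q u e • f = 0 := by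
      apply hnd
      apply polar_zero_of_span Q hspan
      rintro s (hs | hs | hs)
      · rw [QuadraticMap.polar_comm]; exact hW.1 s hs
      · rw [hs, QuadraticMap.polar_comm]; exact hW.2.1
      · rw [Set.mem_singleton_iff.mp hs, QuadraticMap.polar_comm]; exact hW.2.2
    rw [sub_sub] at h0
    exact sub_eq_zero.mp h0
  have hperp : ∀ (k : orth (Q : V → F)), k ∈ fixer Q C → ∀ x, (∀ c ∈ C, polar Q c x = 0) →
      ∀ c ∈ C, polar Q c ((k : V ≃ₗ[F] V) x) = 0 := by
    intro k hk x hx c hc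
    have := orth_polar Q k c x
    rw [hk c hc] at this
    rw [this]; exact hx c hc
  -- step 1: WLOG `B(g e, e) = 0`
  have h1 : ∃ h ∈ reflGroup Q ⊓ fixer Q C,
      polar Q (((h * g : orth (Q : V → F)) : V ≃ₗ[F] V) e) e = 0 := by
    by_cases h : polar Q ((g : V ≃ₗ[F] V) e) e = 0
    · exact ⟨1, one_mem _, by rw [one_mul]; exact h⟩
    · have hQ : Q ((g : V ≃ₗ[F] V) e - e) ≠ 0 := by
        rw [Q_sub, g.2, he]; simpa using h
      refine ⟨refl Q _ hQ, ⟨refl_mem Q _ _, ?_⟩, ?_⟩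
      · intro c hc
        apply refl_apply_of_polar_eq_zero
        rw [QuadraticMap.polar_comm, QuadraticMap.polar_sub_right, hperp g hg e hCe c hc,
          hCe c hc, sub_zero]
      · show polar Q ((refl Q _ hQ : V ≃ₗ[F] V) ((g : V ≃ₗ[F] V) e)) e = 0
        rw [refl_sub_apply Q _ _ (g.2 e) hQ, polar_self_two, he, mul_zero]
  obtain ⟨h, hh, hhe⟩ := h1
  set k : orth (Q : V → F) := h * g with hk
  have hkC : k ∈ fixer Q C := mul_mem hh.2 hg
  have hke := hdec _ (hperp k hkC e hCe)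
  rw [hhe, zero_smul, add_zero] at hke
  set α := polar Q ((k : V ≃ₗ[F] V) e) f with hα
  have hα0 : α ≠ 0 := by
    intro h0
    rw [h0, zero_smul] at hke
    have : e = 0 := by
      have := (k : V ≃ₗ[F] V).map_eq_zero_iff.mp hke
      exact this
    rw [this, QuadraticMap.polar_zero_left] at hef
    exact zero_ne_one hef
  obtain ⟨h3, hh3, hh3e, -, -⟩ := step_c he hf hef hCe hCf α⁻¹ (inv_ne_zero hα0)
  set k' : orth (Q : V → F) := h3 * k with hk'
  have hk'C : k' ∈ fixer Q C := mul_mem hh3.2 hkC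
  have hk'e : (k' : V ≃ₗ[F] V) e = e := by
    show (h3 : V ≃ₗ[F] V) ((k : V ≃ₗ[F] V) e) = e
    rw [hke, map_smul, hh3e, smul_smul, mul_inv_cancel₀ hα0, one_smul]
  have hk'f : (k' : V ≃ₗ[F] V) f = f := by
    have h4 := hdec _ (hperp k' hk'C f hCf)
    have h5 : polar Q ((k' : V ≃ₗ[F] V) f) e = 1 := by
      have := orth_polar Q k' f e
      rw [hk'e] at this
      rw [this, hfe]
    rw [h5, one_smul] at h4
    have h6 : Q ((k' : V ≃ₗ[F] V) f) = 0 := by rw [k'.2, hf]
    rw [h4, Q_add, Q_smul, hf, he, polar_smul_left', hef] at h6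
    have h7 : polar Q ((k' : V ≃ₗ[F] V) f) f = 0 := by linear_combination h6
    rw [h4, h7, zero_smul, zero_add]
  have hk'1 : k' = 1 := by
    apply eq_one_of_fixer Q hspan
    rintro c (hc | hc | hc)
    · exact hk'C c hc
    · rw [hc]; exact hk'e
    · rw [Set.mem_singleton_iff.mp hc]; exact hk'f
  have hg' : g = (h3 * h)⁻¹ := by
    have h8 : h3 * h * g = 1 := by rw [mul_assoc, ← hk, ← hk', hk'1]
    exact eq_inv_of_mul_eq_one_right h8
  rw [hg']
  exact inv_mem (mul_mem hh3.1 hh.1)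

/-- The last step, anisotropic case. -/
theorem fixer_le_of_anisotropic {C : Set V} {z₁ z₂ : V}
    (hC1 : ∀ c ∈ C, polar Q c z₁ = 0) (hC2 : ∀ c ∈ C, polar Q c z₂ = 0)
    (han : ∀ x, (∀ c ∈ C, polar Q c x = 0) → Q x = 0 → x = 0)
    (hspan : Submodule.span F (C ∪ {z₁, z₂}) = ⊤) : fixer Q C ≤ reflGroup Q := by
  intro g hg
  have hperp : ∀ (k : orth (Q : V → F)), k ∈ fixer Q C → ∀ x, (∀ c ∈ C, polar Q c x = 0) →
      ∀ c ∈ C, polar Q c ((k : V ≃ₗ[F] V) x) = 0 := by
    intro k hk x hx c hc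
    have := orth_polar Q k c x
    rw [hk c hc] at this
    rw [this]; exact hx c hc
  -- step 1: WLOG `g z₁ = z₁`
  have h1 : ∃ h ∈ reflGroup Q ⊓ fixer Q C,
      ((h * g : orth (Q : V → F)) : V ≃ₗ[F] V) z₁ = z₁ := by
    by_cases h : (g : V ≃ₗ[F] V) z₁ = z₁
    · exact ⟨1, one_mem _, by rw [one_mul]; exact h⟩
    · have hQ : Q ((g : V ≃ₗ[F] V) z₁ - z₁) ≠ 0 := by
        intro h0
        apply h
        have := han _ (fun c hc => by
          rw [QuadraticMap.polar_sub_right, hperp g hg z₁ hC1 c hc, hC1 c hc, sub_zero]) h0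
        exact sub_eq_zero.mp this
      refine ⟨refl Q _ hQ, ⟨refl_mem Q _ _, ?_⟩, ?_⟩
      · intro c hc
        apply refl_apply_of_polar_eq_zero
        rw [QuadraticMap.polar_comm, QuadraticMap.polar_sub_right, hperp g hg z₁ hC1 c hc,
          hC1 c hc, sub_zero]
      · show (refl Q _ hQ : V ≃ₗ[F] V) ((g : V ≃ₗ[F] V) z₁) = z₁
        rw [refl_sub_apply Q _ _ (g.2 z₁) hQ]
  obtain ⟨h, hh, hhe⟩ := h1
  set k : orth (Q : V → F) := h * g with hk
  have hkC : k ∈ fixer Q C := mul_mem hh.2 hg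
  -- step 2 : now `z₂`
  have h2 : ∃ h' ∈ reflGroup Q ⊓ fixer Q C,
      ((h' * k : orth (Q : V → F)) : V ≃ₗ[F] V) z₁ = z₁ ∧
      ((h' * k : orth (Q : V → F)) : V ≃ₗ[F] V) z₂ = z₂ := by
    by_cases h : (k : V ≃ₗ[F] V) z₂ = z₂
    · exact ⟨1, one_mem _, by rw [one_mul]; exact hhe, by rw [one_mul]; exact h⟩
    · have hQ : Q ((k : V ≃ₗ[F] V) z₂ - z₂) ≠ 0 := by
        intro h0
        apply h
        have := han _ (fun c hc => by
          rw [QuadraticMap.polar_sub_right, hperp k hkC z₂ hC2 c hc, hC2 c hc, sub_zero]) h0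
        exact sub_eq_zero.mp this
      refine ⟨refl Q _ hQ, ⟨refl_mem Q _ _, ?_⟩, ?_, ?_⟩
      · intro c hc
        apply refl_apply_of_polar_eq_zero
        rw [QuadraticMap.polar_comm, QuadraticMap.polar_sub_right, hperp k hkC z₂ hC2 c hc,
          hC2 c hc, sub_zero]
      · show (refl Q _ hQ : V ≃ₗ[F] V) ((k : V ≃ₗ[F] V) z₁) = z₁
        rw [hhe]
        apply refl_apply_of_polar_eq_zero
        have := orth_polar Q k z₂ z₁
        rw [hhe] at this
        rw [QuadraticMap.polar_sub_left, this, sub_self]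
      · show (refl Q _ hQ : V ≃ₗ[F] V) ((k : V ≃ₗ[F] V) z₂) = z₂
        rw [refl_sub_apply Q _ _ (k.2 z₂) hQ]
  obtain ⟨h', hh', h'1, h'2⟩ := h2
  have hk'1 : h' * k = 1 := by
    apply eq_one_of_fixer Q hspan
    rintro c (hc | hc | hc)
    · exact (mul_mem hh'.2 hkC : h' * k ∈ fixer Q C) c hc
    · rw [hc]; exact h'1
    · rw [Set.mem_singleton_iff.mp hc]; exact h'2
  have hg' : g = (h' * h)⁻¹ := by
    have h8 : h' * h * g = 1 := by rw [mul_assoc, ← hk, hk'1]
    exact eq_inv_of_mul_eq_one_right h8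
  rw [hg']
  exact inv_mem (mul_mem hh'.1 hh.1)

/-- `O(H ⊥ H ⊥ W)` is generated by reflections, provided the fixer of the two hyperbolic planes
is, and `W` has a non-singular vector. Any characteristic, any field. -/
theorem reflGroup_eq_top {e₁ f₁ e₂ f₂ : V} (he₁ : Q e₁ = 0) (hf₁ : Q f₁ = 0)
    (hef₁ : polar Q e₁ f₁ = 1) (he₂ : Q e₂ = 0) (hf₂ : Q f₂ = 0) (hef₂ : polar Q e₂ f₂ = 1)
    (hee : polar Q e₁ e₂ = 0) (heff : polar Q e₁ f₂ = 0) (hfe : polar Q f₁ e₂ = 0)
    (hff : polar Q f₁ f₂ = 0)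
    (hnd : ∀ x, (∀ y, polar Q x y = 0) → x = 0)
    (hns : ∃ w, polar Q e₁ w = 0 ∧ polar Q f₁ w = 0 ∧ polar Q e₂ w = 0 ∧ polar Q f₂ w = 0 ∧
      Q w ≠ 0)
    (hC : fixer Q ({e₁, f₁} ∪ {e₂, f₂}) ≤ reflGroup Q) : reflGroup Q = ⊤ := by
  obtain ⟨w₁, hw1, hw2, hw3, hw4, hw5⟩ := hns
  rw [eq_top_iff]
  intro g _
  have he₂e₁ : polar Q e₂ e₁ = 0 := by rw [QuadraticMap.polar_comm]; exact hee
  have he₂f₁ : polar Q e₂ f₁ = 0 := by rw [QuadraticMap.polar_comm]; exact hfe
  have hf₂e₁ : polar Q f₂ e₁ = 0 := by rw [QuadraticMap.polar_comm]; exact heff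
  have hf₂f₁ : polar Q f₂ f₁ = 0 := by rw [QuadraticMap.polar_comm]; exact hff
  have hfe₁ : polar Q f₁ e₁ = 1 := by rw [QuadraticMap.polar_comm]; exact hef₁
  have hfe₂ : polar Q f₂ e₂ = 1 := by rw [QuadraticMap.polar_comm]; exact hef₂
  have hQ2 : Q (e₂ + f₂) = 1 := by rw [Q_add, he₂, hf₂, hef₂]; ring
  have hQ1 : Q (e₁ + f₁) = 1 := by rw [Q_add, he₁, hf₁, hef₁]; ring
  -- Siegel transformations on `e₁`, `f₁`
  have hex : ∀ w, polar Q e₁ w = 0 → polar Q f₁ w = 0 →
      ∃ w', polar Q e₁ w' = 0 ∧ polar Q f₁ w' = 0 ∧ polar Q w w' = 0 ∧ Q w' ≠ 0 := by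
    intro w hwe hwf
    by_cases hx : polar Q w f₂ = 0
    · by_cases hy : polar Q w e₂ = 0
      · refine ⟨e₂ + f₂, ?_, ?_, ?_, ?_⟩
        · rw [QuadraticMap.polar_add_right, hee, heff, add_zero]
        · rw [QuadraticMap.polar_add_right, hfe, hff, add_zero]
        · rw [QuadraticMap.polar_add_right, hx, hy, add_zero]
        · rw [hQ2]; exact one_ne_zero
      · refine ⟨w₁ - (polar Q w w₁ / polar Q w e₂) • e₂, ?_, ?_, ?_, ?_⟩
        · rw [polar_sub_right', polar_smul_right', hee, hw1]; ring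
        · rw [polar_sub_right', polar_smul_right', hfe, hw2]; ring
        · rw [polar_sub_right', polar_smul_right', div_mul_cancel₀ _ hy, sub_self]
        · rw [Q_sub, Q_smul, he₂, polar_smul_right', QuadraticMap.polar_comm Q w₁ e₂, hw3]
          simpa using hw5
    · refine ⟨w₁ - (polar Q w w₁ / polar Q w f₂) • f₂, ?_, ?_, ?_, ?_⟩
      · rw [polar_sub_right', polar_smul_right', heff, hw1]; ring
      · rw [polar_sub_right', polar_smul_right', hff, hw2]; ring
      · rw [polar_sub_right', polar_smul_right', div_mul_cancel₀ _ hx, sub_self]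
      · rw [Q_sub, Q_smul, hf₂, polar_smul_right', QuadraticMap.polar_comm Q w₁ f₂, hw4]
        simpa using hw5
  have hS₁e : ∀ w, InW Q ∅ e₁ f₁ w → HasSiegel Q e₁ w := by
    intro w hw
    obtain ⟨w', h1, h2, h3, h4⟩ := hex w hw.2.1 hw.2.2
    exact hasSiegel_of_exists Q he₁ hw.2.1 ⟨w', h1, h3, h4⟩
  have hS₁f : ∀ w, InW Q ∅ e₁ f₁ w → HasSiegel Q f₁ w := by
    intro w hw
    obtain ⟨w', h1, h2, h3, h4⟩ := hex w hw.2.1 hw.2.2
    exact hasSiegel_of_exists Q hf₁ hw.2.2 ⟨w', h2, h3, h4⟩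
  have hnd₁ : ∀ w, InW Q ∅ e₁ f₁ w → w ≠ 0 → ∃ w', InW Q ∅ e₁ f₁ w' ∧ polar Q w w' ≠ 0 := by
    intro w hw hw0
    by_contra hcon
    push Not at hcon
    apply hw0
    apply hnd
    intro y
    have h1 := hcon _ (inW_comp Q (C := ∅) he₁ hf₁ hef₁ (by simp) (by simp) (u := y) (by simp))
    rw [polar_sub_right', polar_sub_right', polar_smul_right', polar_smul_right',
      QuadraticMap.polar_comm Q w e₁, QuadraticMap.polar_comm Q w f₁, hw.2.1, hw.2.2] at h1
    linear_combination h1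
  obtain ⟨h, hh, hhg⟩ := step he₁ hf₁ hef₁ (C := ∅) (by simp) (by simp) hS₁e hS₁f hnd₁
    ⟨w₁, ⟨by simp, hw1, hw2⟩, hw5⟩ g (by intro c hc; exact absurd hc (by simp))
  rw [Set.empty_union] at hhg
  -- second pair
  have hCe : ∀ c ∈ ({e₁, f₁} : Set V), polar Q c e₂ = 0 := by
    rintro c (rfl | hc)
    · exact hee
    · rw [Set.mem_singleton_iff.mp hc]; exact hfe
  have hCf : ∀ c ∈ ({e₁, f₁} : Set V), polar Q c f₂ = 0 := by
    rintro c (rfl | hc)
    · exact heff
    · rw [Set.mem_singleton_iff.mp hc]; exact hff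
  have hperp1 : ∀ w, InW Q {e₁, f₁} e₂ f₂ w → polar Q w (e₁ + f₁) = 0 := by
    intro w hw
    rw [QuadraticMap.polar_comm, QuadraticMap.polar_add_left, hw.1 e₁ (by simp),
      hw.1 f₁ (by simp), add_zero]
  have hS₂e : ∀ w, InW Q {e₁, f₁} e₂ f₂ w → HasSiegel Q e₂ w := by
    intro w hw
    refine hasSiegel_of_exists Q he₂ hw.2.1 ⟨e₁ + f₁, ?_, hperp1 w hw, ?_⟩
    · rw [QuadraticMap.polar_add_right, he₂e₁, he₂f₁, add_zero]
    · rw [hQ1]; exact one_ne_zero
  have hS₂f : ∀ w, InW Q {e₁, f₁} e₂ f₂ w → HasSiegel Q f₂ w := by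
    intro w hw
    refine hasSiegel_of_exists Q hf₂ hw.2.2 ⟨e₁ + f₁, ?_, hperp1 w hw, ?_⟩
    · rw [QuadraticMap.polar_add_right, hf₂e₁, hf₂f₁, add_zero]
    · rw [hQ1]; exact one_ne_zero
  have hnd₂ : ∀ w, InW Q {e₁, f₁} e₂ f₂ w → w ≠ 0 →
      ∃ w', InW Q {e₁, f₁} e₂ f₂ w' ∧ polar Q w w' ≠ 0 := by
    intro w hw hw0
    by_contra hcon
    push Not at hcon
    apply hw0
    apply hnd
    intro y
    have hwe₁ : polar Q e₁ w = 0 := hw.1 e₁ (by simp)
    have hwf₁ : polar Q f₁ w = 0 := hw.1 f₁ (by simp)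
    set y' := y - polar Q y f₁ • e₁ - polar Q y e₁ • f₁ with hy'
    have h0 := inW_comp Q (C := ∅) he₁ hf₁ hef₁ (by simp) (by simp) (u := y) (by simp)
    rw [← hy'] at h0
    have h1 := hcon _ (inW_comp Q (C := {e₁, f₁}) he₂ hf₂ hef₂ hCe hCf (u := y') (by
      rintro c (rfl | hc)
      · exact h0.2.1
      · rw [Set.mem_singleton_iff.mp hc]; exact h0.2.2))
    rw [polar_sub_right', polar_sub_right', polar_smul_right', polar_smul_right',
      QuadraticMap.polar_comm Q w e₂, QuadraticMap.polar_comm Q w f₂, hw.2.1, hw.2.2, hy',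
      polar_sub_right', polar_sub_right', polar_smul_right', polar_smul_right',
      QuadraticMap.polar_comm Q w e₁, QuadraticMap.polar_comm Q w f₁, hwe₁, hwf₁] at h1
    linear_combination h1
  obtain ⟨k, hk, hkg⟩ := step he₂ hf₂ hef₂ hCe hCf hS₂e hS₂f hnd₂
    ⟨w₁, ⟨by
      rintro c (rfl | hc)
      · exact hw1
      · rw [Set.mem_singleton_iff.mp hc]; exact hw2, hw3, hw4⟩, hw5⟩ (h * g) hhg
  have h9 := hC hkg
  have h10 : g = (k * h)⁻¹ * (k * (h * g)) := by group
  rw [h10]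
  exact mul_mem (inv_mem (mul_mem hk.1 hh.1)) h9

end Cfsg.Agent.LieClassical.ReflGen
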