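import Cfsg.Agent.LieClassical.OrthForms
import Cfsg.Agent.LieClassical.ReflGen

set_option autoImplicit false

/-!
The isometry group of the minus type form in dimension 6 is generated by reflections.
-/

namespace Cfsg.Agent.LieClassical.KleinMinusGen

open QuadraticMap Cfsg.Agent.LieClassical.OrthForms Cfsg.Agent.LieClassical.ReflGen

variable {F : Type*} [Field F]

/-- The index type. -/
abbrev I6 := (Fin 2 ⊕ Fin 2) ⊕ Fin 2

/-- The standard basis vectors. -/
abbrev bv (i : I6) : I6 → F := Pi.single i 1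

theorem span_bv : Submodule.span F (Set.range (bv : I6 → I6 → F)) = ⊤ := by
  have := (Pi.basisFun F I6).span_eq
  rw [← this]
  congr 1
  ext v
  simp [bv]

theorem Q_apply (a b : F) (v : I6 → F) : minusForm 2 F a b v =
    v (.inl (.inl 0)) * v (.inl (.inr 0)) + v (.inl (.inl 1)) * v (.inl (.inr 1))
      + (v (.inr 0) ^ 2 + a * v (.inr 0) * v (.inr 1) + b * v (.inr 1) ^ 2) := by
  rw [coe_minusForm, quadFormMinus_apply, Fin.sum_univ_two]

theorem polar_apply (a b : F) (u v : I6 → F) : polar (minusForm 2 F a b) u v =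
    (u (.inl (.inl 0)) * v (.inl (.inr 0)) + v (.inl (.inl 0)) * u (.inl (.inr 0)))
    + (u (.inl (.inl 1)) * v (.inl (.inr 1)) + v (.inl (.inl 1)) * u (.inl (.inr 1)))
      + (2 * u (.inr 0) * v (.inr 0) + a * (u (.inr 0) * v (.inr 1) + u (.inr 1) * v (.inr 0)) +
        2 * b * u (.inr 1) * v (.inr 1)) := by
  rw [polar_minusForm, Fin.sum_univ_two]

theorem reflGroup_minus [Finite F] (a b : F)
    (hab : ∀ z₁ z₂ : F, z₁ ^ 2 + a * z₁ * z₂ + b * z₂ ^ 2 = 0 → z₁ = 0 ∧ z₂ = 0) :
    reflGroup (minusForm 2 F a b) = ⊤ := by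
  have hnd := nondeg_minusForm 2 F a b hab
  have hb : ∀ i : Fin 2 ⊕ Fin 2, minusForm 2 F a b (bv (.inl i)) = 0 := by
    intro i
    rcases i with i | i <;> fin_cases i <;> simp [Q_apply, bv]
  have hspan : Submodule.span F (({bv (.inl (.inl 0)), bv (.inl (.inr 0))} ∪
      {bv (.inl (.inl 1)), bv (.inl (.inr 1))}) ∪
      {bv (.inr 0), bv (.inr 1)} : Set (I6 → F)) = ⊤ := by
    rw [← span_bv]
    congr 1
    ext v
    constructor
    · rintro (((h | h) | (h | h)) | (h | h)) <;> exact ⟨_, h.symm⟩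
    · rintro ⟨i, rfl⟩
      rcases i with (i | i) | i <;> fin_cases i <;> simp
  refine ReflGen.reflGroup_eq_top (minusForm 2 F a b) (e₁ := bv (.inl (.inl 0)))
    (f₁ := bv (.inl (.inr 0))) (e₂ := bv (.inl (.inl 1))) (f₂ := bv (.inl (.inr 1)))
    (hb _) (hb _) ?_ (hb _) (hb _) ?_ ?_ ?_ ?_ ?_ hnd ?_ ?_
  any_goals simp [polar_apply, bv]
  · refine ⟨bv (.inr 0), ?_⟩
    simp [Q_apply, bv]
  · refine fixer_le_of_anisotropic (minusForm 2 F a b) (z₁ := bv (.inr 0)) (z₂ := bv (.inr 1))
      ?_ ?_ ?_ ?_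
    · rintro c (h | h | h | h) <;> (subst h; simp [polar_apply, bv])
    · rintro c (h | h | h | h) <;> (subst h; simp [polar_apply, bv])
    · intro x hx hQ
      have h1 := hx (bv (.inl (.inl 0))) (by simp)
      have h2 := hx (bv (.inl (.inr 0))) (by simp)
      have h3 := hx (bv (.inl (.inl 1))) (by simp)
      have h4 := hx (bv (.inl (.inr 1))) (by simp)
      simp [polar_apply, bv] at h1 h2 h3 h4
      rw [Q_apply, h1, h2, h3, h4] at hQ
      have h5 := hab (x (.inr 0)) (x (.inr 1)) (by linear_combination hQ)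
      funext i
      rcases i with (i | i) | i <;> fin_cases i
      · exact h2
      · exact h4
      · exact h1
      · exact h3
      · exact h5.1
      · exact h5.2
    · have := hspan
      simpa [Set.union_comm, Set.insert_union] using this

end Cfsg.Agent.LieClassical.KleinMinusGen
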