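import Cfsg.Agent.LieClassical.ReflGen
import Cfsg.Agent.LieClassical.Grun
import Cfsg.Prelude.Def_Classical

set_option autoImplicit false

/-!
An abstract form of the argument identifying `Ω` of a quadratic space of matrices `S v` with
`S v * T v = -Q v` with a matrix group acting by `X ↦ g X gᵀ`.
-/

namespace Cfsg.Agent.LieClassical.SixModel

open QuadraticMap Matrix Cfsg.Agent.LieClassical.ReflGen

section Model

variable {F V K : Type*} [Field F] [AddCommGroup V] [Module F V] [Field K]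
  {n : Type*} [Fintype n] [DecidableEq n]
  {Q : QuadraticForm F V} {ι : F →+* K} {S T : V → Matrix n n K}

/-- The hypotheses on the pair `S`, `T`. -/
structure IsPair (Q : QuadraticForm F V) (ι : F →+* K) (S T : V → Matrix n n K) : Prop where
  Sadd : ∀ x y, S (x + y) = S x + S y
  Ssmul : ∀ (c : F) x, S (c • x) = ι c • S x
  Tadd : ∀ x y, T (x + y) = T x + T y
  Tsmul : ∀ (c : F) x, T (c • x) = ι c • T x
  Sinj : Function.Injective S
  ST : ∀ x, S x * T x = (-ι (Q x)) • (1 : Matrix n n K)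
  TS : ∀ x, T x * S x = (-ι (Q x)) • (1 : Matrix n n K)
  Str : ∀ x, (S x)ᵀ = -S x
  Ttr : ∀ x, (T x)ᵀ = -T x

variable (P : IsPair Q ι S T)
include P

theorem ST_polar (x y : V) : S x * T y + S y * T x = (-ι (polar Q x y)) • (1 : Matrix n n K) := by
  have h := P.ST (x + y)
  rw [P.Sadd, P.Tadd, Matrix.add_mul, Matrix.mul_add, Matrix.mul_add, P.ST x, P.ST y,
    Q_add, map_add, map_add] at h
  have h2 : S x * T y + S y * T x = (-ι (Q x)) • (1 : Matrix n n K) + S x * T y
      + (S y * T x + (-ι (Q y)) • (1 : Matrix n n K)) - (-ι (Q x)) • (1 : Matrix n n K)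
      - (-ι (Q y)) • (1 : Matrix n n K) := by abel
  rw [h2, h]
  module

theorem TS_polar (x y : V) : T x * S y + T y * S x = (-ι (polar Q x y)) • (1 : Matrix n n K) := by
  have h := P.TS (x + y)
  rw [P.Sadd, P.Tadd, Matrix.add_mul, Matrix.mul_add, Matrix.mul_add, P.TS x, P.TS y,
    Q_add, map_add, map_add] at h
  have h2 : T x * S y + T y * S x = (-ι (Q x)) • (1 : Matrix n n K) + T x * S y
      + (T y * S x + (-ι (Q y)) • (1 : Matrix n n K)) - (-ι (Q x)) • (1 : Matrix n n K)
      - (-ι (Q y)) • (1 : Matrix n n K) := by abel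
  rw [h2, h]
  module

theorem S_sub (x y : V) : S (x - y) = S x - S y := by
  have h := P.Sadd (x - y) y
  rw [sub_add_cancel] at h
  rw [h]; abel

theorem T_sub (x y : V) : T (x - y) = T x - T y := by
  have h := P.Tadd (x - y) y
  rw [sub_add_cancel] at h
  rw [h]; abel

theorem S_refl {a : V} (ha : Q a ≠ 0) (x : V) :
    S ((refl Q a ha : V ≃ₗ[F] V) x) = (ι (Q a))⁻¹ • (S a * T x * S a) := by
  have hι : ι (Q a) ≠ 0 := (map_ne_zero ι).mpr ha
  rw [refl_apply, S_sub P, P.Ssmul, map_mul, map_inv₀]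
  have h1 : S a * T x = (-ι (polar Q a x)) • (1 : Matrix n n K) - S x * T a := by
    rw [← ST_polar P a x]; abel
  rw [h1, Matrix.sub_mul, Matrix.mul_assoc, P.TS, Matrix.smul_mul, Matrix.one_mul,
    Matrix.mul_smul, Matrix.mul_one, smul_sub, smul_smul, smul_smul]
  have h2 : (ι (Q a))⁻¹ * -ι (Q a) = -1 := by field_simp
  rw [h2]
  module

theorem T_refl {a : V} (ha : Q a ≠ 0) (x : V) :
    T ((refl Q a ha : V ≃ₗ[F] V) x) = (ι (Q a))⁻¹ • (T a * S x * T a) := by
  have hι : ι (Q a) ≠ 0 := (map_ne_zero ι).mpr ha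
  rw [refl_apply, T_sub P, P.Tsmul, map_mul, map_inv₀]
  have h1 : T a * S x = (-ι (polar Q a x)) • (1 : Matrix n n K) - T x * S a := by
    rw [← TS_polar P a x]; abel
  rw [h1, Matrix.sub_mul, Matrix.mul_assoc, P.ST, Matrix.smul_mul, Matrix.one_mul,
    Matrix.mul_smul, Matrix.mul_one, smul_sub, smul_smul, smul_smul]
  have h2 : (ι (Q a))⁻¹ * -ι (Q a) = -1 := by field_simp
  rw [h2]
  module

/-- The hypotheses on the group. -/
structure IsAction {G : Type*} [Group G] (Q : QuadraticForm F V) (ι : F →+* K)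
    (S T : V → Matrix n n K) (ρ : G →* Matrix n n K) (φ : G →* orth (Q : V → F)) : Prop where
  hS : ∀ g x, S ((φ g : V ≃ₗ[F] V) x) = ρ g * S x * (ρ g)ᵀ
  hT : ∀ g x, T ((φ g : V ≃ₗ[F] V) x) = (ρ g⁻¹)ᵀ * T x * ρ g⁻¹
  h1 : ∀ a, Q a ≠ 0 → ∀ g, ∃ g', ρ g' = (ι (Q a))⁻¹ • (S a * (ρ g⁻¹)ᵀ * T a)
  h2 : ∀ a b, Q a ≠ 0 → Q b ≠ 0 →
    ∃ g', ρ g' = (ι (Q a) * ι (Q b))⁻¹ • (S a * T b * (S a * T b))

variable {G : Type*} [Group G] {ρ : G →* Matrix n n K} {φ : G →* orth (Q : V → F)}
  (A : IsAction Q ι S T ρ φ)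
include A

theorem refl_conj_mem {a : V} (ha : Q a ≠ 0) (g : G) :
    refl Q a ha * φ g * (refl Q a ha)⁻¹ ∈ φ.range := by
  have hι : ι (Q a) ≠ 0 := (map_ne_zero ι).mpr ha
  obtain ⟨g', hg'⟩ := A.h1 a ha g
  refine ⟨g', ?_⟩
  have hinv : (refl Q a ha)⁻¹ = refl Q a ha := inv_eq_of_mul_eq_one_left (refl_mul_self Q a ha)
  rw [hinv]
  apply Subtype.ext
  apply LinearEquiv.ext
  intro x
  apply P.Sinj
  show S ((φ g' : V ≃ₗ[F] V) x) = S ((refl Q a ha : V ≃ₗ[F] V) ((φ g : V ≃ₗ[F] V)
    ((refl Q a ha : V ≃ₗ[F] V) x)))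
  rw [A.hS, hg', S_refl P, A.hT, T_refl P]
  simp only [Matrix.transpose_smul, Matrix.transpose_mul, Matrix.transpose_transpose, P.Str,
    P.Ttr, Matrix.smul_mul, Matrix.mul_smul, Matrix.neg_mul, Matrix.mul_neg, neg_neg,
    Matrix.mul_assoc]

theorem refl_sq_mem {a b : V} (ha : Q a ≠ 0) (hb : Q b ≠ 0) :
    (refl Q a ha * refl Q b hb) * (refl Q a ha * refl Q b hb) ∈ φ.range := by
  obtain ⟨g', hg'⟩ := A.h2 a b ha hb
  refine ⟨g', ?_⟩
  apply Subtype.ext
  apply LinearEquiv.ext
  intro x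
  apply P.Sinj
  show S ((φ g' : V ≃ₗ[F] V) x) = S ((refl Q a ha : V ≃ₗ[F] V) ((refl Q b hb : V ≃ₗ[F] V)
    ((refl Q a ha : V ≃ₗ[F] V) ((refl Q b hb : V ≃ₗ[F] V) x))))
  rw [A.hS, hg', S_refl P, T_refl P, S_refl P, T_refl P]
  simp only [Matrix.transpose_smul, Matrix.transpose_mul, P.Str,
    P.Ttr, Matrix.smul_mul, Matrix.mul_smul, Matrix.neg_mul, Matrix.mul_neg, neg_neg,
    Matrix.mul_assoc, smul_smul]
  congr 1
  rw [mul_inv]
  ring

omit P A [Fintype n] [DecidableEq n] in
theorem comm_of_closure {A : Type*} [Group A] {s : Set A} (hs : Subgroup.closure s = ⊤)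
    (h : ∀ x ∈ s, ∀ y ∈ s, x * y = y * x) (x y : A) : x * y = y * x := by
  have h1 : ∀ y ∈ s, y ∈ Subgroup.center A := by
    intro y hy
    have h2 : Subgroup.closure s ≤ Subgroup.centralizer {y} := by
      rw [Subgroup.closure_le]
      intro x hx
      rw [SetLike.mem_coe, Subgroup.mem_centralizer_iff]
      intro z hz
      rw [Set.mem_singleton_iff.mp hz]
      exact (h x hx y hy).symm
    rw [Subgroup.mem_center_iff]
    intro g
    have h3 : g ∈ Subgroup.centralizer {y} := h2 (by rw [hs]; trivial)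
    exact (Subgroup.mem_centralizer_iff.mp h3 y rfl).symm
  have h4 : Subgroup.closure s ≤ Subgroup.center A := by
    rw [Subgroup.closure_le]; exact h1
  have h5 : y ∈ Subgroup.center A := h4 (by rw [hs]; trivial)
  exact Subgroup.mem_center_iff.mp h5 x

/-- If reflections generate, then the commutator subgroup lies in the image of `G`. -/
theorem commutator_le_range (hgen : reflGroup Q = ⊤) :
    commutator (orth (Q : V → F)) ≤ φ.range := by
  have hnorm : φ.range.Normal := by
    rw [← Subgroup.normalizer_eq_top_iff, eq_top_iff, ← hgen, reflGroup, Subgroup.closure_le]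
    rintro r ⟨a, ha, rfl⟩
    rw [SetLike.mem_coe, Subgroup.mem_normalizer_iff]
    have hinv : (refl Q a ha)⁻¹ = refl Q a ha := inv_eq_of_mul_eq_one_left (refl_mul_self Q a ha)
    have h1 : ∀ h ∈ φ.range, refl Q a ha * h * (refl Q a ha)⁻¹ ∈ φ.range := by
      rintro _ ⟨g, rfl⟩
      exact refl_conj_mem P A ha g
    intro h
    refine ⟨h1 h, fun h2 => ?_⟩
    have h3 := h1 _ h2
    rw [hinv] at h3
    have h4 : refl Q a ha * (refl Q a ha * h * refl Q a ha) * refl Q a ha = h := by
      have := refl_mul_self Q a ha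
      calc _ = (refl Q a ha * refl Q a ha) * h * (refl Q a ha * refl Q a ha) := by group
        _ = h := by rw [this]; simp
    rwa [h4] at h3
  let π := QuotientGroup.mk' φ.range
  have hπ : Function.Surjective π := QuotientGroup.mk'_surjective _
  have hcl : Subgroup.closure (π '' reflSet Q) = ⊤ := by
    rw [← MonoidHom.map_closure]
    show (reflGroup Q).map π = ⊤
    rw [hgen]
    exact Subgroup.map_top_of_surjective π hπ
  have hcomm : ∀ x ∈ π '' reflSet Q, ∀ y ∈ π '' reflSet Q, x * y = y * x := by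
    rintro _ ⟨_, ⟨a, ha, rfl⟩, rfl⟩ _ ⟨_, ⟨b, hb, rfl⟩, rfl⟩
    rw [← map_mul, ← map_mul]
    apply QuotientGroup.eq.mpr
    have hinva : (refl Q a ha)⁻¹ = refl Q a ha := inv_eq_of_mul_eq_one_left (refl_mul_self Q a ha)
    have hinvb : (refl Q b hb)⁻¹ = refl Q b hb := inv_eq_of_mul_eq_one_left (refl_mul_self Q b hb)
    rw [_root_.mul_inv_rev, hinva, hinvb]
    exact refl_sq_mem P A hb ha
  rw [commutator_def, Subgroup.commutator_le]
  intro x _ y _
  rw [← QuotientGroup.eq_one_iff]
  change π _ = 1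
  rw [map_commutatorElement, commutatorElement_eq_one_iff_mul_comm]
  exact comm_of_closure hcl hcomm _ _

/-- The main abstract theorem. -/
theorem omega_quotient_equiv (hgen : reflGroup Q = ⊤) (hG : commutator G = ⊤)
    (hker : φ.ker ≤ Subgroup.center G) :
    Nonempty (commutator (orth (Q : V → F)) ⧸ Subgroup.center (commutator (orth (Q : V → F)))
      ≃* G ⧸ Subgroup.center G) := by
  have hrange : φ.range = commutator (orth (Q : V → F)) := by
    apply le_antisymm _ (commutator_le_range P A hgen)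
    rw [MonoidHom.range_eq_map, ← hG, commutator_def, commutator_def, Subgroup.map_commutator]
    exact Subgroup.commutator_mono le_top le_top
  have hmem : ∀ g, φ g ∈ commutator (orth (Q : V → F)) := by
    intro g; rw [← hrange]; exact ⟨g, rfl⟩
  let ψ : G →* commutator (orth (Q : V → F)) := φ.codRestrict _ hmem
  have hψ : Function.Surjective ψ := by
    rintro ⟨x, hx⟩
    rw [← hrange] at hx
    obtain ⟨g, hg⟩ := hx
    exact ⟨g, Subtype.ext hg⟩
  have hk : ψ.ker ≤ Subgroup.center G := by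
    intro g hg
    apply hker
    rw [MonoidHom.mem_ker] at hg ⊢
    exact congrArg Subtype.val hg
  obtain ⟨e⟩ := Grun.quotient_center_equiv hG ψ hψ hk
  exact ⟨e.symm⟩

end Model

/-- The isometry group of the Prelude is the isometry group here. -/
noncomputable def isometryEquiv {ι : Type} [Fintype ι] [DecidableEq ι] {F : Type*} [Field F]
    (Q : (ι → F) → F) : Cfsg.isometryGroup F Q ≃* orth Q where
  toFun g := ⟨(LinearMap.GeneralLinearGroup.generalLinearEquiv F (ι → F))
    (Matrix.GeneralLinearGroup.toLin (g : GL ι F)), fun v => g.2 v v⟩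
  invFun g := ⟨Matrix.GeneralLinearGroup.toLin.symm
    ((LinearMap.GeneralLinearGroup.generalLinearEquiv F (ι → F)).symm (g : _ ≃ₗ[F] _)), by
      intro u v
      have h := g.2 u
      have h2 : ((Units.coeHom (Matrix ι ι F)) (Matrix.GeneralLinearGroup.toLin.symm
        ((LinearMap.GeneralLinearGroup.generalLinearEquiv F (ι → F)).symm (g : _ ≃ₗ[F] _)))) *ᵥ u
        = (g : (ι → F) ≃ₗ[F] (ι → F)) u := by
        show (LinearMap.toMatrix' _) *ᵥ u = _
        rw [LinearMap.toMatrix'_mulVec]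
        rfl
      show Q _ = Q _
      rw [h2]
      exact h⟩
  left_inv g := by
    apply Subtype.ext
    simp
  right_inv g := by
    apply Subtype.ext
    simp
  map_mul' g h := by
    apply Subtype.ext
    simp

/-- Central quotients of commutator subgroups of isomorphic groups are isomorphic. -/
theorem commutator_center_congr {G H : Type*} [Group G] [Group H] (e : G ≃* H) :
    Nonempty (commutator G ⧸ Subgroup.center (commutator G) ≃*
      commutator H ⧸ Subgroup.center (commutator H)) := by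
  obtain ⟨f⟩ := Grun.commutator_quotient_center_congr e
  refine ⟨QuotientGroup.congr _ _ f ?_⟩
  ext x
  rw [Subgroup.mem_map]
  constructor
  · rintro ⟨y, hy, rfl⟩
    rw [Subgroup.mem_center_iff] at hy ⊢
    intro z
    obtain ⟨z, rfl⟩ := f.surjective z
    show f z * f y = f y * f z
    rw [← map_mul, hy z, map_mul]
  · intro hx
    refine ⟨f.symm x, ?_, f.apply_symm_apply x⟩
    rw [Subgroup.mem_center_iff] at hx ⊢
    intro z
    apply f.injective
    rw [map_mul, map_mul, f.apply_symm_apply]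
    exact hx (f z)

end Cfsg.Agent.LieClassical.SixModel
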