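import Cfsg.Agent.LieClassical.KleinSix
import Cfsg.Agent.LieClassical.SixModel
import Cfsg.Agent.LieClassical.SLGen

set_option autoImplicit false

/-!
`PΩ⁺₆(F) ≅ PSL₄(F)` over every field.
-/

namespace Cfsg.Agent.LieClassical.KleinPlus

open QuadraticMap Matrix Cfsg.Agent.LieClassical.ReflGen Cfsg.Agent.LieClassical.KleinSix
  Cfsg.Agent.LieClassical.SixModel

variable {F : Type*} [Field F]

/-- The hyperbolic quadratic form in dimension 6. -/
def plusForm (F : Type*) [Field F] : QuadraticForm F (Fin 3 ⊕ Fin 3 → F) :=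
  linMulLin (LinearMap.proj (Sum.inl 0)) (LinearMap.proj (Sum.inr 0))
    + linMulLin (LinearMap.proj (Sum.inl 1)) (LinearMap.proj (Sum.inr 1))
    + linMulLin (LinearMap.proj (Sum.inl 2)) (LinearMap.proj (Sum.inr 2))

theorem plusForm_apply (v : Fin 3 ⊕ Fin 3 → F) : plusForm F v = pf v := rfl

theorem coe_plusForm : (plusForm F : (Fin 3 ⊕ Fin 3 → F) → F) = Cfsg.quadFormPlus 3 F := by
  funext v
  rw [plusForm_apply, quadFormPlus_eq_pf]

theorem polar_plusForm (u v : Fin 3 ⊕ Fin 3 → F) : polar (plusForm F) u v =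
    u (.inl 0) * v (.inr 0) + u (.inr 0) * v (.inl 0) + u (.inl 1) * v (.inr 1)
      + u (.inr 1) * v (.inl 1) + u (.inl 2) * v (.inr 2) + u (.inr 2) * v (.inl 2) := by
  simp only [polar, plusForm_apply, pf, Pi.add_apply]
  ring

/-- The standard basis vectors. -/
abbrev bv (i : Fin 3 ⊕ Fin 3) : Fin 3 ⊕ Fin 3 → F := Pi.single i 1

theorem span_bv : Submodule.span F (Set.range (bv : Fin 3 ⊕ Fin 3 → Fin 3 ⊕ Fin 3 → F)) = ⊤ := by
  have := (Pi.basisFun F (Fin 3 ⊕ Fin 3)).span_eq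
  rw [← this]
  congr 1
  ext v
  simp [bv]

theorem reflGroup_plus : reflGroup (plusForm F) = ⊤ := by
  have hnd : ∀ x : Fin 3 ⊕ Fin 3 → F, (∀ y, polar (plusForm F) x y = 0) → x = 0 := by
    intro x hx
    funext i
    rcases i with i | i <;> fin_cases i
    · simpa [polar_plusForm, bv] using hx (bv (.inr 0))
    · simpa [polar_plusForm, bv] using hx (bv (.inr 1))
    · simpa [polar_plusForm, bv] using hx (bv (.inr 2))
    · simpa [polar_plusForm, bv] using hx (bv (.inl 0))
    · simpa [polar_plusForm, bv] using hx (bv (.inl 1))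
    · simpa [polar_plusForm, bv] using hx (bv (.inl 2))
  have hb : ∀ i : Fin 3 ⊕ Fin 3, plusForm F (bv i) = 0 := by
    intro i
    rcases i with i | i <;> fin_cases i <;> simp [plusForm_apply, pf, bv]
  have hspan : Submodule.span F (({bv (.inl 0), bv (.inr 0)} ∪ {bv (.inl 1), bv (.inr 1)}) ∪
      {bv (.inl 2), bv (.inr 2)} : Set (Fin 3 ⊕ Fin 3 → F)) = ⊤ := by
    rw [← span_bv]
    congr 1
    ext v
    constructor
    · rintro (((h | h) | (h | h)) | (h | h)) <;> exact ⟨_, h.symm⟩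
    · rintro ⟨i, rfl⟩
      rcases i with i | i <;> fin_cases i <;> simp
  refine ReflGen.reflGroup_eq_top (plusForm F) (e₁ := bv (.inl 0)) (f₁ := bv (.inr 0))
    (e₂ := bv (.inl 1)) (f₂ := bv (.inr 1)) (hb _) (hb _) ?_ (hb _) (hb _) ?_ ?_ ?_ ?_ ?_ hnd ?_ ?_
  any_goals simp [polar_plusForm, bv]
  · refine ⟨bv (.inl 2) + bv (.inr 2), ?_⟩
    simp [plusForm_apply, pf, bv]
  · refine fixer_le_of_hyperbolic (plusForm F) (e := bv (.inl 2)) (f := bv (.inr 2)) (hb _) (hb _)
      ?_ ?_ ?_ hnd ?_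
    · simp [polar_plusForm, bv]
    · rintro c (h | h | h | h) <;> (subst h; simp [polar_plusForm, bv])
    · rintro c (h | h | h | h) <;> (subst h; simp [polar_plusForm, bv])
    · have := hspan
      simpa [Set.union_comm, Set.insert_union] using this

/-- `g ∈ SL₄(F)` as an isometry. -/
noncomputable def phi : Matrix.SpecialLinearGroup (Fin 4) F →*
    orth (plusForm F : (Fin 3 ⊕ Fin 3 → F) → F) where
  toFun g := ⟨LinearEquiv.ofLinearMap
      { toFun := act (g : Matrix (Fin 4) (Fin 4) F)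
        map_add' := act_add _
        map_smul' := act_smul _ }
      { toFun := act ((g⁻¹ : Matrix.SpecialLinearGroup (Fin 4) F) : Matrix (Fin 4) (Fin 4) F)
        map_add' := act_add _
        map_smul' := act_smul _ }
      (by
        apply LinearMap.ext
        intro x
        show act _ (act _ x) = x
        rw [← act_mul, ← Matrix.SpecialLinearGroup.coe_mul, mul_inv_cancel,
          Matrix.SpecialLinearGroup.coe_one, act_one])
      (by
        apply LinearMap.ext
        intro x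
        show act _ (act _ x) = x
        rw [← act_mul, ← Matrix.SpecialLinearGroup.coe_mul, inv_mul_cancel,
          Matrix.SpecialLinearGroup.coe_one, act_one]), by
      intro v
      show pf (act _ v) = pf v
      rw [pf_act, g.2, one_mul]⟩
  map_one' := by
    apply Subtype.ext
    apply LinearEquiv.ext
    intro x
    show act _ x = x
    rw [Matrix.SpecialLinearGroup.coe_one, act_one]
  map_mul' g h := by
    apply Subtype.ext
    apply LinearEquiv.ext
    intro x
    show act _ x = act _ (act _ x)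
    rw [Matrix.SpecialLinearGroup.coe_mul, act_mul]

theorem phi_apply (g : Matrix.SpecialLinearGroup (Fin 4) F) (x : Fin 3 ⊕ Fin 3 → F) :
    (phi g : (Fin 3 ⊕ Fin 3 → F) ≃ₗ[F] (Fin 3 ⊕ Fin 3 → F)) x
      = act (g : Matrix (Fin 4) (Fin 4) F) x := rfl

theorem isPair : IsPair (plusForm F) (RingHom.id F) (sk : (Fin 3 ⊕ Fin 3 → F) → _)
    (fun v => sk (hodge v)) where
  Sadd := sk_add
  Ssmul := sk_smul
  Tadd x y := by rw [hodge_add, sk_add]
  Tsmul c x := by rw [hodge_smul, sk_smul]; rfl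
  Sinj := sk_injective
  ST x := sk_mul_hodge x
  TS x := hodge_mul_sk x
  Str := transpose_sk
  Ttr x := transpose_sk _

/-- `SL₄` to matrices. -/
def rho : Matrix.SpecialLinearGroup (Fin 4) F →* Matrix (Fin 4) (Fin 4) F where
  toFun g := (g : Matrix (Fin 4) (Fin 4) F)
  map_one' := Matrix.SpecialLinearGroup.coe_one
  map_mul' := Matrix.SpecialLinearGroup.coe_mul

/-- `T` of the action, for matrices of determinant 1. -/
theorem sk_hodge_act {g h : Matrix (Fin 4) (Fin 4) F} (hg : g.det = 1) (hgh : g * h = 1)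
    (v : Fin 3 ⊕ Fin 3 → F) : sk (hodge (act g v)) = hᵀ * sk (hodge v) * h := by
  have h1 := hodge_act g v
  rw [hg, one_smul] at h1
  have h2 : hᵀ * gᵀ = 1 := by rw [← Matrix.transpose_mul, hgh, Matrix.transpose_one]
  calc sk (hodge (act g v)) = (hᵀ * gᵀ) * sk (hodge (act g v)) * (g * h) := by
        rw [h2, hgh, Matrix.one_mul, Matrix.mul_one]
    _ = hᵀ * (gᵀ * sk (hodge (act g v)) * g) * h := by simp only [Matrix.mul_assoc]
    _ = hᵀ * sk (hodge v) * h := by rw [h1]

theorem det_one (a : Fin 3 ⊕ Fin 3 → F) (ha : pf a ≠ 0) {h : Matrix (Fin 4) (Fin 4) F}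
    (hh : h.det = 1) : ((pf a)⁻¹ • (sk a * hᵀ * sk (hodge a))).det = 1 := by
  rw [Matrix.det_smul, Matrix.det_mul, Matrix.det_mul, det_sk, det_sk, pf_hodge,
    Matrix.det_transpose, hh, Fintype.card_fin]
  field_simp

theorem det_two (a b : Fin 3 ⊕ Fin 3 → F) (ha : pf a ≠ 0) (hb : pf b ≠ 0) :
    ((pf a * pf b)⁻¹ • (sk a * sk (hodge b) * (sk a * sk (hodge b)))).det = 1 := by
  rw [Matrix.det_smul, Matrix.det_mul, Matrix.det_mul, det_sk, det_sk, pf_hodge,
    Fintype.card_fin]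
  field_simp

theorem isAction : IsAction (plusForm F) (RingHom.id F) (sk : (Fin 3 ⊕ Fin 3 → F) → _)
    (fun v => sk (hodge v)) rho phi where
  hS g x := sk_act _ x
  hT g x := by
    apply sk_hodge_act g.2
    show (g : Matrix (Fin 4) (Fin 4) F) * ((g⁻¹ : Matrix.SpecialLinearGroup (Fin 4) F) :
      Matrix (Fin 4) (Fin 4) F) = 1
    rw [← Matrix.SpecialLinearGroup.coe_mul, mul_inv_cancel, Matrix.SpecialLinearGroup.coe_one]
  h1 a ha g := ⟨⟨_, det_one a ha (h := rho g⁻¹) (g⁻¹).2⟩, rfl⟩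
  h2 a b ha hb := ⟨⟨_, det_two a b ha hb⟩, rfl⟩

theorem ker_le : (phi (F := F)).ker ≤ Subgroup.center _ := by
  intro g hg
  have h1 : ∀ v : Fin 3 ⊕ Fin 3 → F, act (g : Matrix (Fin 4) (Fin 4) F) v = v := by
    intro v
    have h2 := congrArg (fun k : orth (plusForm F : (Fin 3 ⊕ Fin 3 → F) → F) =>
      (k : (Fin 3 ⊕ Fin 3 → F) ≃ₗ[F] (Fin 3 ⊕ Fin 3 → F)) v) (MonoidHom.mem_ker.mp hg)
    exact h2
  obtain ⟨c, hc⟩ := scalar_of_act_eq g.2 h1
  rw [Subgroup.mem_center_iff]
  intro h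
  apply Subtype.ext
  show (h : Matrix (Fin 4) (Fin 4) F) * (g : Matrix (Fin 4) (Fin 4) F)
    = (g : Matrix (Fin 4) (Fin 4) F) * (h : Matrix (Fin 4) (Fin 4) F)
  rw [hc]
  exact ((Matrix.scalar_commute c (fun r => Commute.all _ _) _).symm).eq

theorem nonempty_equiv : Nonempty (Cfsg.POmega F (Cfsg.quadFormPlus 3 F) ≃*
    Matrix.ProjectiveSpecialLinearGroup (Fin 4) F) := by
  obtain ⟨e₁⟩ := omega_quotient_equiv isPair isAction (reflGroup_plus (F := F))
    (SLGen.commutator_eq_top (by simp)) ker_le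
  have e₀ := isometryEquiv (Cfsg.quadFormPlus 3 F)
  rw [← coe_plusForm] at e₀ ⊢
  obtain ⟨e₂⟩ := commutator_center_congr e₀
  exact ⟨e₂.trans e₁⟩

end Cfsg.Agent.LieClassical.KleinPlus
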