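import Cfsg.Prelude.Def_Classical

set_option autoImplicit false

/-!
The Klein correspondence: alternating `4 × 4` matrices, the Pfaffian as the hyperbolic quadratic form
in dimension 6, and the action `X ↦ g X gᵀ` of `4 × 4` matrices (any commutative ring).
-/

namespace Cfsg.Agent.LieClassical.KleinSix

open Matrix

variable {R : Type*} [CommRing R]

/-- The alternating matrix with coordinates `v = (x₁₂, x₁₃, x₁₄ ; x₃₄, -x₂₄, x₂₃)`. -/
def sk (v : Fin 3 ⊕ Fin 3 → R) : Matrix (Fin 4) (Fin 4) R :=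
  !![0, v (.inl 0), v (.inl 1), v (.inl 2);
     -v (.inl 0), 0, v (.inr 2), -v (.inr 1);
     -v (.inl 1), -v (.inr 2), 0, v (.inr 0);
     -v (.inl 2), v (.inr 1), -v (.inr 0), 0]

/-- The coordinates of an alternating matrix. -/
def unsk (X : Matrix (Fin 4) (Fin 4) R) : Fin 3 ⊕ Fin 3 → R :=
  Sum.elim ![X 0 1, X 0 2, X 0 3] ![X 2 3, -X 1 3, X 1 2]

/-- The Pfaffian. -/
def pf (v : Fin 3 ⊕ Fin 3 → R) : R :=
  v (.inl 0) * v (.inr 0) + v (.inl 1) * v (.inr 1) + v (.inl 2) * v (.inr 2)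

/-- The Hodge star. -/
def hodge (v : Fin 3 ⊕ Fin 3 → R) : Fin 3 ⊕ Fin 3 → R := fun i => v i.swap

theorem quadFormPlus_eq_pf {F : Type*} [Field F] (v : Fin 3 ⊕ Fin 3 → F) :
    Cfsg.quadFormPlus 3 F v = pf v := by
  simp [Cfsg.quadFormPlus, pf, Fin.sum_univ_succ]
  ring

@[simp] theorem unsk_sk (v : Fin 3 ⊕ Fin 3 → R) : unsk (sk v) = v := by
  funext i
  rcases i with i | i <;> fin_cases i <;> simp [unsk, sk]

theorem sk_injective : Function.Injective (sk : (Fin 3 ⊕ Fin 3 → R) → Matrix (Fin 4) (Fin 4) R) :=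
  fun u v h => by rw [← unsk_sk u, h, unsk_sk]

theorem sk_unsk {X : Matrix (Fin 4) (Fin 4) R} (h0 : ∀ i, X i i = 0)
    (h : ∀ i j, X j i = -X i j) : sk (unsk X) = X := by
  ext i j
  fin_cases i <;> fin_cases j <;>
    simp [unsk, sk, h0, h 0 1, h 0 2, h 0 3, h 1 2, h 1 3, h 2 3]

theorem sk_add (u v : Fin 3 ⊕ Fin 3 → R) : sk (u + v) = sk u + sk v := by
  ext i j
  fin_cases i <;> fin_cases j <;> simp [sk, add_comm]

theorem sk_smul (c : R) (v : Fin 3 ⊕ Fin 3 → R) : sk (c • v) = c • sk v := by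
  ext i j
  fin_cases i <;> fin_cases j <;> simp [sk]

theorem unsk_add (X Y : Matrix (Fin 4) (Fin 4) R) : unsk (X + Y) = unsk X + unsk Y := by
  funext i
  rcases i with i | i <;> fin_cases i <;> simp [unsk] <;> ring

theorem unsk_smul (c : R) (X : Matrix (Fin 4) (Fin 4) R) : unsk (c • X) = c • unsk X := by
  funext i
  rcases i with i | i <;> fin_cases i <;> simp [unsk]

theorem hodge_add (u v : Fin 3 ⊕ Fin 3 → R) : hodge (u + v) = hodge u + hodge v := rfl

theorem hodge_smul (c : R) (v : Fin 3 ⊕ Fin 3 → R) : hodge (c • v) = c • hodge v := rfl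

omit [CommRing R] in
@[simp] theorem hodge_hodge (v : Fin 3 ⊕ Fin 3 → R) : hodge (hodge v) = v := by
  funext i; simp [hodge]

theorem pf_hodge (v : Fin 3 ⊕ Fin 3 → R) : pf (hodge v) = pf v := by
  simp [hodge, pf]; ring

theorem transpose_sk (v : Fin 3 ⊕ Fin 3 → R) : (sk v)ᵀ = -sk v := by
  ext i j
  fin_cases i <;> fin_cases j <;> simp [sk]

theorem sk_mul_hodge (v : Fin 3 ⊕ Fin 3 → R) :
    sk v * sk (hodge v) = (-pf v) • (1 : Matrix (Fin 4) (Fin 4) R) := by
  ext i j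
  fin_cases i <;> fin_cases j <;>
    simp [sk, hodge, pf, Matrix.mul_apply, Fin.sum_univ_four] <;> ring

theorem hodge_mul_sk (v : Fin 3 ⊕ Fin 3 → R) :
    sk (hodge v) * sk v = (-pf v) • (1 : Matrix (Fin 4) (Fin 4) R) := by
  have h := sk_mul_hodge (hodge v)
  rwa [hodge_hodge, pf_hodge] at h

theorem det_fin_four' (A : Matrix (Fin 4) (Fin 4) R) : A.det =
    A 0 0 * (A 1 1 * (A 2 2 * A 3 3 - A 2 3 * A 3 2) - A 1 2 * (A 2 1 * A 3 3 - A 2 3 * A 3 1)
      + A 1 3 * (A 2 1 * A 3 2 - A 2 2 * A 3 1))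
    - A 0 1 * (A 1 0 * (A 2 2 * A 3 3 - A 2 3 * A 3 2) - A 1 2 * (A 2 0 * A 3 3 - A 2 3 * A 3 0)
      + A 1 3 * (A 2 0 * A 3 2 - A 2 2 * A 3 0))
    + A 0 2 * (A 1 0 * (A 2 1 * A 3 3 - A 2 3 * A 3 1) - A 1 1 * (A 2 0 * A 3 3 - A 2 3 * A 3 0)
      + A 1 3 * (A 2 0 * A 3 1 - A 2 1 * A 3 0))
    - A 0 3 * (A 1 0 * (A 2 1 * A 3 2 - A 2 2 * A 3 1) - A 1 1 * (A 2 0 * A 3 2 - A 2 2 * A 3 0)
      + A 1 2 * (A 2 0 * A 3 1 - A 2 1 * A 3 0)) := by
  rw [Matrix.det_succ_row_zero]
  simp only [Fin.sum_univ_four, Matrix.det_fin_three, Matrix.submatrix_apply]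
  simp [Fin.succAbove, Fin.succ, Fin.castSucc, Fin.castAdd, Fin.castLE, Fin.lt_def]
  ring

theorem det_sk (v : Fin 3 ⊕ Fin 3 → R) : (sk v).det = pf v ^ 2 := by
  rw [det_fin_four']
  simp [sk, pf]
  ring

/-- The action of matrices on coordinates of alternating matrices. -/
def act (g : Matrix (Fin 4) (Fin 4) R) (v : Fin 3 ⊕ Fin 3 → R) : Fin 3 ⊕ Fin 3 → R :=
  unsk (g * sk v * gᵀ)

theorem sk_act (g : Matrix (Fin 4) (Fin 4) R) (v : Fin 3 ⊕ Fin 3 → R) :
    sk (act g v) = g * sk v * gᵀ := by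
  apply sk_unsk
  · intro i
    simp [Matrix.mul_apply, sk, Fin.sum_univ_four]
    ring
  · intro i j
    have h : (g * sk v * gᵀ)ᵀ = -(g * sk v * gᵀ) := by
      rw [Matrix.transpose_mul, Matrix.transpose_mul, Matrix.transpose_transpose, transpose_sk,
        Matrix.neg_mul, Matrix.mul_neg, Matrix.mul_assoc]
    exact congrFun (congrFun h i) j

theorem act_add (g : Matrix (Fin 4) (Fin 4) R) (u v : Fin 3 ⊕ Fin 3 → R) :
    act g (u + v) = act g u + act g v := by
  apply sk_injective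
  rw [sk_act, sk_add, sk_add, sk_act, sk_act, Matrix.mul_add, Matrix.add_mul]

theorem act_smul (g : Matrix (Fin 4) (Fin 4) R) (c : R) (v : Fin 3 ⊕ Fin 3 → R) :
    act g (c • v) = c • act g v := by
  apply sk_injective
  rw [sk_act, sk_smul, sk_smul, sk_act, Matrix.mul_smul, Matrix.smul_mul]

theorem act_mul (g h : Matrix (Fin 4) (Fin 4) R) (v : Fin 3 ⊕ Fin 3 → R) :
    act (g * h) v = act g (act h v) := by
  apply sk_injective
  rw [sk_act, sk_act, sk_act, Matrix.transpose_mul]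
  simp only [Matrix.mul_assoc]

theorem act_one (v : Fin 3 ⊕ Fin 3 → R) : act 1 v = v := by
  apply sk_injective
  rw [sk_act]; simp

set_option maxHeartbeats 4000000 in
theorem pf_act (g : Matrix (Fin 4) (Fin 4) R) (v : Fin 3 ⊕ Fin 3 → R) :
    pf (act g v) = g.det * pf v := by
  rw [det_fin_four']
  simp only [act, unsk, pf, Matrix.mul_apply, Fin.sum_univ_four, Matrix.transpose_apply,
    Sum.elim_inl, Sum.elim_inr]
  simp only [sk, Matrix.cons_val, Matrix.of_apply, Matrix.cons_val', Matrix.cons_val_zero,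
    Matrix.cons_val_one, mul_zero, zero_add, add_zero]
  ring

set_option maxHeartbeats 4000000 in
theorem hodge_act (g : Matrix (Fin 4) (Fin 4) R) (v : Fin 3 ⊕ Fin 3 → R) :
    gᵀ * sk (hodge (act g v)) * g = g.det • sk (hodge v) := by
  have h : unsk (gᵀ * sk (hodge (act g v)) * g) = g.det • hodge v := by
    rw [det_fin_four']
    funext i
    rcases i with i | i <;> fin_cases i <;>
    · simp only [unsk, Matrix.mul_apply, Fin.sum_univ_four, Matrix.transpose_apply,
        Sum.elim_inl, Sum.elim_inr, Pi.smul_apply, smul_eq_mul]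
      simp [sk, hodge, act, unsk, Matrix.mul_apply, Fin.sum_univ_four]
      ring
  have h2 : act gᵀ (hodge (act g v)) = g.det • hodge v := by
    unfold act at h ⊢
    rw [Matrix.transpose_transpose]; exact h
  rw [← sk_smul, ← h2, sk_act, Matrix.transpose_transpose]

/-- The basis bivector `e_i ∧ e_j`, as a coordinate vector. -/
def biv (i j : Fin 4) : Fin 3 ⊕ Fin 3 → R := unsk (Matrix.single i j 1 - Matrix.single j i 1)

theorem sk_biv (i j : Fin 4) :
    sk (biv i j : Fin 3 ⊕ Fin 3 → R) = Matrix.single i j 1 - Matrix.single j i 1 := by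
  apply sk_unsk
  · intro k
    simp only [Matrix.sub_apply, Matrix.single_apply]
    by_cases h1 : i = k <;> by_cases h2 : j = k <;> simp [h1, h2]
  · intro k l
    simp only [Matrix.sub_apply, Matrix.single_apply, neg_sub]
    simp only [and_comm (a := i = l), and_comm (a := j = l)]

/-- A matrix whose action on alternating matrices (and on the dual ones) is trivial is scalar. -/
theorem scalar_of_act_eq {g : Matrix (Fin 4) (Fin 4) R} (hg : g.det = 1)
    (h : ∀ v : Fin 3 ⊕ Fin 3 → R, act g v = v) : ∃ c : R, g = Matrix.scalar (Fin 4) c := by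
  have h1 : ∀ v : Fin 3 ⊕ Fin 3 → R, g * sk v * gᵀ = sk v := by
    intro v; rw [← sk_act, h]
  have h2 : ∀ v : Fin 3 ⊕ Fin 3 → R, gᵀ * sk v * g = sk v := by
    intro v
    have := hodge_act g (hodge v)
    rwa [h, hodge_hodge, hg, one_smul] at this
  have h3 : ∀ u v : Fin 3 ⊕ Fin 3 → R, Commute (sk u * sk v) g := by
    intro u v
    show sk u * sk v * g = g * (sk u * sk v)
    calc sk u * sk v * g = (g * sk u * gᵀ) * sk v * g := by rw [h1]
      _ = g * (sk u * (gᵀ * sk v * g)) := by simp only [Matrix.mul_assoc]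
      _ = g * (sk u * sk v) := by rw [h2]
  have h4 : ∀ i l : Fin 4, i ≠ l → Commute (Matrix.single i l 1) g := by
    intro i l hil
    obtain ⟨j, hji, hjl⟩ : ∃ j : Fin 4, j ≠ i ∧ j ≠ l := by
      revert i l
      decide
    have h5 : (Matrix.single i l 1 : Matrix (Fin 4) (Fin 4) R)
        = sk (biv i j) * sk (biv j l) := by
      rw [sk_biv, sk_biv, Matrix.sub_mul, Matrix.mul_sub, Matrix.mul_sub,
        Matrix.single_mul_single_same, Matrix.single_mul_single_of_ne _ _ _ _ hjl,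
        Matrix.single_mul_single_of_ne _ _ _ _ hji.symm,
        Matrix.single_mul_single_of_ne _ _ _ _ hil]
      simp
    rw [h5]
    exact h3 _ _
  obtain ⟨c, hc⟩ := Matrix.mem_range_scalar_of_commute_single (M := g) (fun {i j} hij => h4 i j hij)
  exact ⟨c, hc.symm⟩

end Cfsg.Agent.LieClassical.KleinSix
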