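import Mathlib
import Cfsg.Prelude.Def_Classical
import Cfsg.Prelude.Def_ClassicalGeometry
import Cfsg.Agent.ClassicalGeometry.Reflection
import Cfsg.Agent.ClassicalGeometry.CartanDieudonne
import Cfsg.Agent.ClassicalGeometry.SpinorSign
import Cfsg.Agent.LieClassical.CliffordFive

/-!
# The image of `Sp₄` in `O₅` is the commutator subgroup
-/

set_option autoImplicit false

namespace Cfsg.Agent.LieClassical.OmegaFive

open Matrix QuadraticMap
open Cfsg.Agent.LieClassical.CliffordFive Cfsg.Agent.ClassicalGeometry.Reflection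
  Cfsg.Agent.ClassicalGeometry.CartanDieudonne Cfsg.Agent.ClassicalGeometry.SpinorSign

variable {F : Type*} [Field F]

theorem polar_Q5 (v w : I5 → F) : polar (⇑(Q5 F)) v w =
    2 * v (.inl ()) * w (.inl ()) + (v (.inr (.inl 0)) * w (.inr (.inr 0)) + v (.inr (.inr 0)) * w (.inr (.inl 0))
      + v (.inr (.inl 1)) * w (.inr (.inr 1)) + v (.inr (.inr 1)) * w (.inr (.inl 1))) :=
  polar_quadFormOdd_two v w

theorem eq_zero_of_polar (h2 : (2 : F) ≠ 0) (v : I5 → F)
    (h : ∀ w, polar (⇑(Q5 F)) v w = 0) : v = 0 := by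
  have h0 := h (Pi.single (.inl ()) 1)
  have h1 := h (Pi.single (.inr (.inl 0)) 1)
  have h2' := h (Pi.single (.inr (.inl 1)) 1)
  have h3 := h (Pi.single (.inr (.inr 0)) 1)
  have h4 := h (Pi.single (.inr (.inr 1)) 1)
  clear h
  simp [polar_Q5] at h0 h1 h2' h3 h4
  have h0 : v (.inl ()) = 0 := h0.resolve_left h2
  funext k
  rcases k with k | k | k
  · exact h0
  · fin_cases k
    · exact h3
    · exact h4
  · fin_cases k
    · exact h1
    · exact h2'

theorem nondegenerate_Q5 (h2 : (2 : F) ≠ 0) : (polarBilin (Q5 F)).Nondegenerate := by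
  refine ⟨fun v hv => eq_zero_of_polar h2 v hv, fun v hv => eq_zero_of_polar h2 v fun w => ?_⟩
  rw [polar_comm]
  exact hv w

/-- the isometry group `O₅` -/
abbrev O (F : Type*) [Field F] : Subgroup (Matrix.GeneralLinearGroup I5 F) :=
  Cfsg.isometryGroup F (Cfsg.quadFormOdd 2 F)

/-- reflections as elements of `O₅` -/
def rf (v : I5 → F) (hv : Q5 F v ≠ 0) : O F := reflIso (Q5 F) v hv

theorem rf_mul_self (v : I5 → F) (hv : Q5 F v ≠ 0) : rf v hv * rf v hv = 1 :=
  reflIso_mul_self (Q5 F) v hv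

theorem exists_rf_conj (h2 : (2 : F) ≠ 0) {v w : I5 → F} (hv : Q5 F v ≠ 0) (hw : Q5 F w ≠ 0)
    (h : IsSquare (Q5 F v * Q5 F w)) :
    ∃ (u : I5 → F) (hu : Q5 F u ≠ 0), rf w hw = rf u hu * rf v hv * rf u hu :=
  exists_conj_reflIso_of_isSquare h2 (Q5 F) hv hw h

theorem O_induction (h2 : (2 : F) ≠ 0) (p : O F → Prop) (h1 : p 1)
    (hmul : ∀ (v : I5 → F) (hv : Q5 F v ≠ 0) (g : O F), p g → p (rf v hv * g)) (g : O F) : p g :=
  isometry_induction h2 (Q5 F) (nondegenerate_Q5 h2) p h1 hmul g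

/-- The Clifford matrix of an anisotropic vector as an element of `GL₄`. -/
def clGL (v : I5 → F) (hv : Q5 F v ≠ 0) : Matrix.GeneralLinearGroup I4 F :=
  ⟨cl v, (Q5 F v)⁻¹ • cl v, by
    rw [Matrix.mul_smul, cl_mul_self, smul_smul, inv_mul_cancel₀ hv, one_smul], by
    rw [Matrix.smul_mul, cl_mul_self, smul_smul, inv_mul_cancel₀ hv, one_smul]⟩

theorem cl_mul_add (v w : I5 → F) :
    cl v * cl w + cl w * cl v = polar (⇑(Q5 F)) v w • (1 : Matrix I4 I4 F) := by
  have h := cl_mul_self (v + w)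
  rw [cl_add, Matrix.mul_add, Matrix.add_mul, Matrix.add_mul, cl_mul_self, cl_mul_self] at h
  have h' : Q5 F (v + w) = Q5 F v + Q5 F w + polar (⇑(Q5 F)) v w := by
    rw [polar]; ring
  rw [h', add_smul, add_smul] at h
  have : cl v * cl w + cl w * cl v = (Q5 F v • (1 : Matrix I4 I4 F) + cl w * cl v + (cl v * cl w + Q5 F w • 1))
      - Q5 F v • 1 - Q5 F w • 1 := by abel
  rw [this, h]
  abel

theorem clGL_mem (v : I5 → F) (hv : Q5 F v ≠ 0) :
    (rf v hv, clGL v hv, Units.mk0 (Q5 F v) hv, (-1 : Fˣ)) ∈ cliffordSubgroup F := by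
  refine ⟨fun w => ?_, ?_⟩
  · change cl (Cfsg.reflectionMatrix (⇑(Q5 F)) v *ᵥ w) * cl v = ((-1 : Fˣ) : F) • (cl v * cl w)
    rw [reflectionMatrix_mulVec, sub_eq_add_neg, ← neg_smul, cl_add, cl_smul, Matrix.add_mul,
      Matrix.smul_mul, cl_mul_self, smul_smul, Units.val_neg, Units.val_one, neg_one_smul]
    have h := cl_mul_add v w
    have e : cl w * cl v = polar (⇑(Q5 F)) v w • (1 : Matrix I4 I4 F) - cl v * cl w := by
      rw [← h]; abel
    have e' : -((Q5 F v)⁻¹ * polar (⇑(Q5 F)) v w) * Q5 F v = - polar (⇑(Q5 F)) v w := by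
      field_simp
    rw [e, e', neg_smul]
    abel
  · change cl v * Matrix.J (Fin 2) F * (cl v)ᵀ = Q5 F v • Matrix.J (Fin 2) F
    rw [Matrix.mul_assoc, ← cl_mul_J, ← Matrix.mul_assoc, cl_mul_self, Matrix.smul_mul,
      Matrix.one_mul]

/-- Every isometry comes from a similitude. -/
theorem exists_mem_clifford (h2 : (2 : F) ≠ 0) (T : Cfsg.isometryGroup F (Cfsg.quadFormOdd 2 F)) :
    ∃ x ∈ cliffordSubgroup F, x.1 = T := by
  refine O_induction h2
    (fun T => ∃ x ∈ cliffordSubgroup F, x.1 = T) ⟨1, Subgroup.one_mem _, rfl⟩ ?_ T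
  rintro v hv g ⟨x, hx, rfl⟩
  exact ⟨_, Subgroup.mul_mem _ (clGL_mem v hv) hx, rfl⟩

/-- The commutator subgroup of `O₅` is contained in the image of `Sp₄`. -/
theorem commutator_le_range (h2 : (2 : F) ≠ 0) :
    commutator (Cfsg.isometryGroup F (Cfsg.quadFormOdd 2 F)) ≤ (rho h2).range := by
  set f : cliffordSubgroup F →* Cfsg.isometryGroup F (Cfsg.quadFormOdd 2 F) :=
    (MonoidHom.fst _ _).comp (cliffordSubgroup F).subtype with hf
  have hsurj : Function.Surjective f := by
    intro T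
    obtain ⟨x, hx, hT⟩ := exists_mem_clifford h2 T
    exact ⟨⟨x, hx⟩, hT⟩
  set p : cliffordSubgroup F →* Fˣ × Fˣ :=
    (MonoidHom.snd _ _).comp ((MonoidHom.snd _ _).comp (cliffordSubgroup F).subtype) with hp
  have hcomm : commutator (cliffordSubgroup F) ≤ p.ker := Abelianization.commutator_subset_ker p
  have hmap : (commutator (cliffordSubgroup F)).map f =
      commutator (Cfsg.isometryGroup F (Cfsg.quadFormOdd 2 F)) := by
    rw [commutator_def, commutator_def, Subgroup.map_commutator,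
      ← MonoidHom.range_eq_map, MonoidHom.range_eq_top.2 hsurj]
  rw [← hmap]
  rintro _ ⟨x, hx, rfl⟩
  have hx' := hcomm hx
  rw [MonoidHom.mem_ker] at hx'
  have hμ : x.1.2.2.1 = 1 := congrArg Prod.fst hx'
  have hε : x.1.2.2.2 = 1 := congrArg Prod.snd hx'
  have h1 := x.2.1
  have h2' := x.2.2
  rw [hε, Units.val_one] at h1
  rw [hμ, Units.val_one, one_smul] at h2'
  refine ⟨⟨(x.1.2.1 : Matrix I4 I4 F), SymplecticGroup.mem_iff.2 h2'⟩, ?_⟩
  apply rho_eq_of
  intro v
  have := h1 v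
  rw [one_smul] at this
  exact this

theorem rho_mem_clifford (h2 : (2 : F) ≠ 0) (g : Matrix.symplecticGroup (Fin 2) F) :
    (rho h2 g, (⟨g.1, (g⁻¹).1, congrArg Subtype.val (mul_inv_cancel g),
      congrArg Subtype.val (inv_mul_cancel g)⟩ : Matrix.GeneralLinearGroup I4 F), (1 : Fˣ), (1 : Fˣ))
      ∈ cliffordSubgroup F := by
  refine ⟨fun v => ?_, ?_⟩
  · change cl (((rho h2 g : Matrix.GeneralLinearGroup I5 F) : Matrix I5 I5 F) *ᵥ v) * g.1 =
      (1 : F) • (g.1 * cl v)
    rw [one_smul, cl_rho_mulVec]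
  · change g.1 * Matrix.J (Fin 2) F * g.1ᵀ = (1 : F) • Matrix.J (Fin 2) F
    rw [one_smul]
    exact SymplecticGroup.mem_iff.1 g.2

/-- vectors of norm one and `d` -/
def vec (a b c : F) : I5 → F := fun k =>
  match k with
  | .inl _ => a
  | .inr (.inl 0) => b
  | .inr (.inl 1) => 0
  | .inr (.inr 0) => c
  | .inr (.inr 1) => 0

theorem Q5_vec (a b c : F) : Q5 F (vec a b c) = a ^ 2 + b * c := by
  rw [Q5_apply]
  simp [vec]

theorem range_le_commutator [Finite F] (h2 : (2 : F) ≠ 0) :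
    (rho h2).range ≤ commutator (Cfsg.isometryGroup F (Cfsg.quadFormOdd 2 F)) := by
  classical
  have := Fintype.ofFinite F
  have hchar : ringChar F ≠ 2 := by
    intro h
    apply h2
    have := ringChar.Nat.cast_ringChar (R := F)
    rw [h] at this
    exact_mod_cast this
  obtain ⟨d, hd⟩ := FiniteField.exists_nonsquare hchar
  have hd0 : d ≠ 0 := by
    rintro rfl
    exact hd ⟨0, by simp⟩
  have hs0 : Q5 F (vec 1 0 0) ≠ 0 := by rw [Q5_vec]; simp
  have ht0 : Q5 F (vec 0 1 d) ≠ 0 := by rw [Q5_vec]; simpa using hd0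
  set s : Abelianization (O F) := Abelianization.of (rf (vec 1 0 0) hs0) with hs
  set t : Abelianization (O F) := Abelianization.of (rf (vec 0 1 d) ht0) with ht
  have hss : s * s = 1 := by
    rw [hs, ← map_mul, rf_mul_self, map_one]
  have htt : t * t = 1 := by
    rw [ht, ← map_mul, rf_mul_self, map_one]
  -- reflections with norms in the same square class
  have hconj : ∀ (v w : I5 → F) (hv : Q5 F v ≠ 0) (hw : Q5 F w ≠ 0), IsSquare (Q5 F v * Q5 F w) →
      Abelianization.of (rf w hw) = Abelianization.of (rf v hv) := by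
    intro v w hv hw h
    obtain ⟨u, hu, e⟩ := exists_rf_conj h2 hv hw h
    rw [e, map_mul, map_mul, mul_right_comm, ← map_mul, rf_mul_self, map_one, one_mul]
  have key : ∀ T : O F, ∃ k l : ℕ, ∃ x ∈ cliffordSubgroup F, x.1 = T ∧ x.2.2.2 = (-1) ^ (k + l) ∧
      (∃ c : F, (x.2.2.1 : F) = c ^ 2 * d ^ l) ∧ Abelianization.of T = s ^ k * t ^ l := by
    refine O_induction h2 _ ?_ ?_
    · refine ⟨0, 0, 1, Subgroup.one_mem _, rfl, ?_, ⟨1, ?_⟩, ?_⟩
      · change (1 : Fˣ) = _
        simp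
      · change ((1 : Fˣ) : F) = _
        simp
      · rw [pow_zero, pow_zero, mul_one, map_one]
    · rintro v hv g ⟨k, l, x, hx, rfl, hε, ⟨c, hc⟩, hab⟩
      by_cases hsq : IsSquare (Q5 F v)
      · obtain ⟨r, hr⟩ := hsq
        refine ⟨k + 1, l, _, Subgroup.mul_mem _ (clGL_mem v hv) hx, rfl, ?_, ⟨r * c, ?_⟩, ?_⟩
        · change (-1 : Fˣ) * x.2.2.2 = _
          rw [hε, ← pow_succ']
          congr 1
          ring
        · change Q5 F v * (x.2.2.1 : F) = _
          rw [hc, hr]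
          ring
        · have e := hconj (vec 1 0 0) v hs0 hv ⟨r, by rw [Q5_vec, hr]; ring⟩
          rw [map_mul, e, hab, ← mul_assoc, pow_succ']
      · have hsq' : IsSquare (d * Q5 F v) := by
          have h3 := (FiniteField.isSquare_iff hchar (mul_ne_zero hd0 hv)).2
          apply h3
          have h4 := FiniteField.pow_dichotomy hchar hd0
          have h5 := FiniteField.pow_dichotomy hchar hv
          have h4' : d ^ (Fintype.card F / 2) = -1 := by
            rcases h4 with h | h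
            · exact absurd ((FiniteField.isSquare_iff hchar hd0).2 h) hd
            · exact h
          have h5' : (Q5 F v) ^ (Fintype.card F / 2) = -1 := by
            rcases h5 with h | h
            · exact absurd ((FiniteField.isSquare_iff hchar hv).2 h) hsq
            · exact h
          rw [mul_pow, h4', h5']; ring
        obtain ⟨r, hr⟩ := hsq'
        refine ⟨k, l + 1, _, Subgroup.mul_mem _ (clGL_mem v hv) hx, rfl, ?_, ⟨r * c / d, ?_⟩, ?_⟩
        · change (-1 : Fˣ) * x.2.2.2 = _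
          rw [hε, ← pow_succ']
          congr 1
        · change Q5 F v * (x.2.2.1 : F) = _
          have hr' : Q5 F v = r * r / d := by
            field_simp
            linear_combination hr
          rw [hc, hr']
          field_simp
          ring
        · have e := hconj (vec 0 1 d) v ht0 hv ⟨r, by rw [Q5_vec, ← hr]; ring⟩
          rw [map_mul, e, hab, mul_left_comm, pow_succ']
  rintro _ ⟨g, rfl⟩
  obtain ⟨k, l, x, hx, hxT, hε, ⟨c, hc⟩, hab⟩ := key (rho h2 g)
  have hy := Subgroup.mul_mem _ (Subgroup.inv_mem _ (rho_mem_clifford h2 g)) hx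
  set G0 : Matrix.GeneralLinearGroup I4 F := (⟨g.1, (g⁻¹).1, congrArg Subtype.val (mul_inv_cancel g),
      congrArg Subtype.val (inv_mul_cancel g)⟩ : Matrix.GeneralLinearGroup I4 F) with hG0
  have hy1 : ∀ v, cl v * ((G0⁻¹ * x.2.1 : Matrix.GeneralLinearGroup I4 F) : Matrix I4 I4 F) =
      (x.2.2.2 : F) • (((G0⁻¹ * x.2.1 : Matrix.GeneralLinearGroup I4 F) : Matrix I4 I4 F) * cl v) := by
    intro v
    have := hy.1 v
    have e1 : ((rho h2 g, G0, (1 : Fˣ), (1 : Fˣ))⁻¹ * x).1 = 1 := by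
      change (rho h2 g)⁻¹ * x.1 = 1
      rw [hxT, inv_mul_cancel]
    rw [e1] at this
    change cl ((1 : Matrix I5 I5 F) *ᵥ v) * ((G0⁻¹ * x.2.1 : Matrix.GeneralLinearGroup I4 F) : Matrix I4 I4 F) =
      ((1⁻¹ * x.2.2.2 : Fˣ) : F) • (((G0⁻¹ * x.2.1 : Matrix.GeneralLinearGroup I4 F) : Matrix I4 I4 F) * cl v) at this
    rw [Matrix.one_mulVec, inv_one, one_mul] at this
    exact this
  have hy2 : ((G0⁻¹ * x.2.1 : Matrix.GeneralLinearGroup I4 F) : Matrix I4 I4 F) * Matrix.J (Fin 2) F *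
      ((G0⁻¹ * x.2.1 : Matrix.GeneralLinearGroup I4 F) : Matrix I4 I4 F)ᵀ = (x.2.2.1 : F) • Matrix.J (Fin 2) F := by
    have := hy.2
    change ((G0⁻¹ * x.2.1 : Matrix.GeneralLinearGroup I4 F) : Matrix I4 I4 F) * Matrix.J (Fin 2) F *
      ((G0⁻¹ * x.2.1 : Matrix.GeneralLinearGroup I4 F) : Matrix I4 I4 F)ᵀ = ((1⁻¹ * x.2.2.1 : Fˣ) : F) • Matrix.J (Fin 2) F at this
    rw [inv_one, one_mul] at this
    exact this
  set h : Matrix.GeneralLinearGroup I4 F := G0⁻¹ * x.2.1 with hh
  have hne : (h : Matrix I4 I4 F) ≠ 0 := h.ne_zero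
  have heven : Even (k + l) := by
    by_contra hodd
    rw [Nat.not_even_iff_odd] at hodd
    apply hne
    apply eq_zero_of_anticommute h2
    intro v
    rw [hy1 v, hε, hodd.neg_one_pow, Units.val_neg, Units.val_one, neg_one_smul]
  have hcomm : ∀ v, cl v * (h : Matrix I4 I4 F) = (h : Matrix I4 I4 F) * cl v := by
    intro v
    rw [hy1 v, hε, heven.neg_one_pow, Units.val_one, one_smul]
  have hsc := eq_smul_one_of_commute h2 _ hcomm
  set a : F := (h : Matrix I4 I4 F) (.inl 0) (.inl 0) with ha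
  have ha0 : a ≠ 0 := by
    intro h0
    rw [h0, zero_smul] at hsc
    exact hne hsc
  rw [hsc] at hy2
  have hμ : (x.2.2.1 : F) = a ^ 2 := by
    have := congrFun (congrFun hy2 (.inr 0)) (.inl 0)
    simp [Matrix.J] at this
    rw [← this]; ring
  have hl : Even l := by
    by_contra hodd
    rw [Nat.not_even_iff_odd] at hodd
    obtain ⟨m, hm⟩ := hodd
    apply hd
    rw [hμ, hm] at hc
    have hc0 : c ≠ 0 := by
      rintro rfl
      apply ha0
      have : a ^ 2 = 0 := by rw [hc]; ring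
      exact pow_eq_zero_iff (two_ne_zero) |>.1 this
    refine ⟨a / (c * d ^ m), ?_⟩
    field_simp
    rw [hc]
    ring
  have hk : Even k := (Nat.even_add.1 heven).2 hl
  obtain ⟨k', hk'⟩ := hk
  obtain ⟨l', hl'⟩ := hl
  rw [hk', hl', pow_add, pow_add, ← mul_pow, ← mul_pow, hss, htt, one_pow, one_pow, mul_one] at hab
  rw [← Abelianization.ker_of]
  exact hab

/-- The commutator subgroup of `O₅` is the image of `Sp₄`. -/
theorem range_rho [Finite F] (h2 : (2 : F) ≠ 0) :
    (rho h2).range = commutator (Cfsg.isometryGroup F (Cfsg.quadFormOdd 2 F)) :=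
  le_antisymm (range_le_commutator h2) (commutator_le_range h2)

/-- The surjection `Sp₄ → Ω₅`. -/
def rhoOmega [Finite F] (h2 : (2 : F) ≠ 0) :
    Matrix.symplecticGroup (Fin 2) F →* Cfsg.Omega F (Cfsg.quadFormOdd 2 F) :=
  (rho h2).codRestrict _ fun g => range_le_commutator h2 ⟨g, rfl⟩

theorem coe_rhoOmega [Finite F] (h2 : (2 : F) ≠ 0) (g : Matrix.symplecticGroup (Fin 2) F) :
    (rhoOmega h2 g).1 = rho h2 g := rfl

theorem rhoOmega_surjective [Finite F] (h2 : (2 : F) ≠ 0) :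
    Function.Surjective (rhoOmega h2) := by
  rintro ⟨T, hT⟩
  obtain ⟨g, hg⟩ := commutator_le_range h2 hT
  exact ⟨g, Subtype.ext hg⟩

theorem mem_center_iff [Finite F] (h2 : (2 : F) ≠ 0) (g : Matrix.symplecticGroup (Fin 2) F) :
    rhoOmega h2 g ∈ Subgroup.center (Cfsg.Omega F (Cfsg.quadFormOdd 2 F)) ↔
      g ∈ Subgroup.center (Matrix.symplecticGroup (Fin 2) F) := by
  constructor
  · intro h
    rw [Subgroup.mem_center_iff] at h
    apply mem_center_of_rho h2
    intro g'
    exact (congrArg Subtype.val (h (rhoOmega h2 g'))).symm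
  · intro h
    rw [Subgroup.mem_center_iff] at h ⊢
    intro T
    obtain ⟨g', rfl⟩ := rhoOmega_surjective h2 T
    rw [← map_mul, ← map_mul, h g']

/-- `PΩ₅(q) ≅ PSp₄(q)` for finite fields of odd order. -/
theorem nonempty_equiv [Finite F] (h2 : (2 : F) ≠ 0) :
    Nonempty (Cfsg.POmega F (Cfsg.quadFormOdd 2 F) ≃* Cfsg.PSp 2 F) := by
  set ψ : Matrix.symplecticGroup (Fin 2) F →* Cfsg.POmega F (Cfsg.quadFormOdd 2 F) :=
    (QuotientGroup.mk' (Subgroup.center (Cfsg.Omega F (Cfsg.quadFormOdd 2 F)))).comp (rhoOmega h2)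
    with hψ
  have hsurj : Function.Surjective ψ :=
    (QuotientGroup.mk'_surjective _).comp (rhoOmega_surjective h2)
  have hker : ψ.ker = Subgroup.center (Matrix.symplecticGroup (Fin 2) F) := by
    ext g
    rw [MonoidHom.mem_ker, hψ, MonoidHom.comp_apply, QuotientGroup.mk'_apply,
      QuotientGroup.eq_one_iff, mem_center_iff]
  exact ⟨((QuotientGroup.quotientMulEquivOfEq hker.symm).trans
    (QuotientGroup.quotientKerEquivOfSurjective ψ hsurj)).symm⟩

end Cfsg.Agent.LieClassical.OmegaFive
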