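import Mathlib
import Cfsg.Prelude.Def_Classical
import Cfsg.Prelude.Def_ClassicalGeometry
import Cfsg.Agent.ClassicalGeometry.Reflection
import Cfsg.Agent.ClassicalGeometry.GenReflections
import Cfsg.Agent.LieClassical.CliffordFive

/-!
# Half-spin representations of `O₆⁺` in all characteristics

`sk w` and `sks w` are alternating 4 by 4 matrices with `sk w * sks w = -Q w`. Every isometry of
the six-dimensional hyperbolic space is induced by a pair of invertible 4 by 4 matrices.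
-/

set_option autoImplicit false

namespace Cfsg.Agent.LieClassical.SpinSix

open Matrix QuadraticMap
open Cfsg.Agent.LieClassical.CliffordFive Cfsg.Agent.ClassicalGeometry.Reflection

/-- index type of the 6-dimensional space -/
abbrev I6 : Type := Fin 3 ⊕ Fin 3

variable {F : Type*} [Field F]

theorem quadFormPlus_three (v : I6 → F) : Cfsg.quadFormPlus 3 F v =
    v (.inl 0) * v (.inr 0) + v (.inl 1) * v (.inr 1) + v (.inl 2) * v (.inr 2) := by
  change ∑ i : Fin 3, v (.inl i) * v (.inr i) = _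
  rw [Fin.sum_univ_three]

theorem polar_quadFormPlus_three (v w : I6 → F) : polar (Cfsg.quadFormPlus 3 F) v w =
    v (.inl 0) * w (.inr 0) + v (.inr 0) * w (.inl 0) + v (.inl 1) * w (.inr 1)
      + v (.inr 1) * w (.inl 1) + v (.inl 2) * w (.inr 2) + v (.inr 2) * w (.inl 2) := by
  simp only [polar, quadFormPlus_three, Pi.add_apply]
  ring

variable (F) in
/-- `quadFormPlus 3 F` as a `QuadraticForm`. -/
def Q6 : QuadraticForm F (I6 → F) :=
  QuadraticMap.ofPolar (Cfsg.quadFormPlus 3 F)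
    (fun a x => by simp only [quadFormPlus_three, Pi.smul_apply, smul_eq_mul]; ring)
    (fun x x' y => by simp only [polar_quadFormPlus_three, Pi.add_apply]; ring)
    (fun a x y => by simp only [polar_quadFormPlus_three, Pi.smul_apply, smul_eq_mul]; ring)

theorem coe_Q6 : ⇑(Q6 F) = Cfsg.quadFormPlus 3 F := rfl

theorem Q6_apply (v : I6 → F) : Q6 F v =
    v (.inl 0) * v (.inr 0) + v (.inl 1) * v (.inr 1) + v (.inl 2) * v (.inr 2) :=
  quadFormPlus_three v

theorem polar_Q6 (v w : I6 → F) : polar (⇑(Q6 F)) v w =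
    v (.inl 0) * w (.inr 0) + v (.inr 0) * w (.inl 0) + v (.inl 1) * w (.inr 1)
      + v (.inr 1) * w (.inl 1) + v (.inl 2) * w (.inr 2) + v (.inr 2) * w (.inl 2) :=
  polar_quadFormPlus_three v w

theorem eq_zero_of_polar_Q6 (v : I6 → F) (h : ∀ w, polar (⇑(Q6 F)) v w = 0) : v = 0 := by
  have h0 := h (Pi.single (.inl 0) 1)
  have h1 := h (Pi.single (.inl 1) 1)
  have h2 := h (Pi.single (.inl 2) 1)
  have h3 := h (Pi.single (.inr 0) 1)
  have h4 := h (Pi.single (.inr 1) 1)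
  have h5 := h (Pi.single (.inr 2) 1)
  clear h
  simp [polar_Q6] at h0 h1 h2 h3 h4 h5
  funext k
  rcases k with k | k
  · fin_cases k
    · exact h3
    · exact h4
    · exact h5
  · fin_cases k
    · exact h0
    · exact h1
    · exact h2

theorem nondegenerate_Q6 : (polarBilin (Q6 F)).Nondegenerate := by
  refine ⟨fun v hv => eq_zero_of_polar_Q6 v hv, fun v hv => eq_zero_of_polar_Q6 v fun w => ?_⟩
  rw [polar_comm]
  exact hv w

/-- alternating matrix -/
def sk (w : I6 → F) : Matrix I4 I4 F :=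
  Matrix.fromBlocks
    !![0, w (.inl 1); -w (.inl 1), 0]
    !![-w (.inl 2), -w (.inl 0); -w (.inr 0), w (.inr 2)]
    !![w (.inl 2), w (.inr 0); w (.inl 0), -w (.inr 2)]
    !![0, w (.inr 1); -w (.inr 1), 0]

/-- the Pfaffian adjoint of `sk w` -/
def sks (w : I6 → F) : Matrix I4 I4 F :=
  Matrix.fromBlocks
    !![0, w (.inr 1); -w (.inr 1), 0]
    !![-w (.inr 2), -w (.inr 0); -w (.inl 0), w (.inl 2)]
    !![w (.inr 2), w (.inl 0); w (.inr 0), -w (.inl 2)]
    !![0, w (.inl 1); -w (.inl 1), 0]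

theorem sk_def (w : I6 → F) : sk w = Matrix.fromBlocks
    !![0, w (.inl 1); -w (.inl 1), 0]
    !![-w (.inl 2), -w (.inl 0); -w (.inr 0), w (.inr 2)]
    !![w (.inl 2), w (.inr 0); w (.inl 0), -w (.inr 2)]
    !![0, w (.inr 1); -w (.inr 1), 0] := rfl

theorem sks_def (w : I6 → F) : sks w = Matrix.fromBlocks
    !![0, w (.inr 1); -w (.inr 1), 0]
    !![-w (.inr 2), -w (.inr 0); -w (.inl 0), w (.inl 2)]
    !![w (.inr 2), w (.inl 0); w (.inr 0), -w (.inl 2)]
    !![0, w (.inl 1); -w (.inl 1), 0] := rfl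

theorem sk_mul_sks (w : I6 → F) : sk w * sks w = -Q6 F w • (1 : Matrix I4 I4 F) := by
  rw [Q6_apply]
  ext i j
  rcases i with i | i <;> rcases j with j | j <;> fin_cases i <;> fin_cases j <;>
    simp [sk_def, sks_def, Matrix.mul_apply, Fin.sum_univ_two] <;> ring

theorem sks_mul_sk (w : I6 → F) : sks w * sk w = -Q6 F w • (1 : Matrix I4 I4 F) := by
  rw [Q6_apply]
  ext i j
  rcases i with i | i <;> rcases j with j | j <;> fin_cases i <;> fin_cases j <;>
    simp [sk_def, sks_def, Matrix.mul_apply, Fin.sum_univ_two] <;> ring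

theorem sk_add (v w : I6 → F) : sk (v + w) = sk v + sk w := by
  ext i j
  rcases i with i | i <;> rcases j with j | j <;> fin_cases i <;> fin_cases j <;>
    simp [sk_def] <;> ring

theorem sk_smul (c : F) (v : I6 → F) : sk (c • v) = c • sk v := by
  ext i j
  rcases i with i | i <;> rcases j with j | j <;> fin_cases i <;> fin_cases j <;>
    simp [sk_def]

theorem sks_add (v w : I6 → F) : sks (v + w) = sks v + sks w := by
  ext i j
  rcases i with i | i <;> rcases j with j | j <;> fin_cases i <;> fin_cases j <;>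
    simp [sks_def] <;> ring

theorem sks_smul (c : F) (v : I6 → F) : sks (c • v) = c • sks v := by
  ext i j
  rcases i with i | i <;> rcases j with j | j <;> fin_cases i <;> fin_cases j <;>
    simp [sks_def]

theorem sk_mul_sks_add (v w : I6 → F) :
    sk v * sks w + sk w * sks v = -polar (⇑(Q6 F)) v w • (1 : Matrix I4 I4 F) := by
  rw [polar_Q6]
  ext i j
  rcases i with i | i <;> rcases j with j | j <;> fin_cases i <;> fin_cases j <;>
    simp [sk_def, sks_def, Matrix.mul_apply, Fin.sum_univ_two] <;> ring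

theorem sks_mul_sk_add (v w : I6 → F) :
    sks v * sk w + sks w * sk v = -polar (⇑(Q6 F)) v w • (1 : Matrix I4 I4 F) := by
  rw [polar_Q6]
  ext i j
  rcases i with i | i <;> rcases j with j | j <;> fin_cases i <;> fin_cases j <;>
    simp [sk_def, sks_def, Matrix.mul_apply, Fin.sum_univ_two] <;> ring

theorem sk_refl (a w : I6 → F) (ha : Q6 F a ≠ 0) :
    sk (Cfsg.reflectionMatrix (⇑(Q6 F)) a *ᵥ w) * sks a = -(sk a * sks w) := by
  rw [reflectionMatrix_mulVec, sub_eq_add_neg, ← neg_smul, sk_add, sk_smul, Matrix.add_mul,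
    Matrix.smul_mul, sk_mul_sks, smul_smul]
  have h := sk_mul_sks_add a w
  have e : sk w * sks a = -polar (⇑(Q6 F)) a w • (1 : Matrix I4 I4 F) - sk a * sks w := by
    rw [← h]; abel
  have e' : -((Q6 F a)⁻¹ * polar (⇑(Q6 F)) a w) * -Q6 F a = polar (⇑(Q6 F)) a w := by
    field_simp
  rw [e, e', neg_smul]
  abel

theorem sks_refl (a w : I6 → F) (ha : Q6 F a ≠ 0) :
    sks (Cfsg.reflectionMatrix (⇑(Q6 F)) a *ᵥ w) * sk a = -(sks a * sk w) := by
  rw [reflectionMatrix_mulVec, sub_eq_add_neg, ← neg_smul, sks_add, sks_smul, Matrix.add_mul,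
    Matrix.smul_mul, sks_mul_sk, smul_smul]
  have h := sks_mul_sk_add a w
  have e : sks w * sk a = -polar (⇑(Q6 F)) a w • (1 : Matrix I4 I4 F) - sks a * sk w := by
    rw [← h]; abel
  have e' : -((Q6 F a)⁻¹ * polar (⇑(Q6 F)) a w) * -Q6 F a = polar (⇑(Q6 F)) a w := by
    field_simp
  rw [e, e', neg_smul]
  abel

/-- Type 1 relation: `T` preserves the two half-spin spaces. -/
def EvenT (T : Matrix I6 I6 F) : Prop :=
  ∃ (g h g' h' : Matrix I4 I4 F) (ε : F), g * g' = 1 ∧ h * h' = 1 ∧ ε ≠ 0 ∧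
    ∀ w, sk (T *ᵥ w) * h = ε • (g * sk w) ∧ sks (T *ᵥ w) * g = ε • (h * sks w)

/-- Type 2 relation: `T` exchanges the two half-spin spaces. -/
def OddT (T : Matrix I6 I6 F) : Prop :=
  ∃ (g h g' h' : Matrix I4 I4 F) (ε : F), g * g' = 1 ∧ h * h' = 1 ∧ ε ≠ 0 ∧
    ∀ w, sk (T *ᵥ w) * h = ε • (g * sks w) ∧ sks (T *ᵥ w) * g = ε • (h * sk w)

theorem sk_mul_inv (a : I6 → F) (ha : Q6 F a ≠ 0) (h h' : Matrix I4 I4 F) (hh : h * h' = 1) :
    sk a * h * (h' * (-(Q6 F a)⁻¹ • sks a)) = 1 := by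
  calc sk a * h * (h' * (-(Q6 F a)⁻¹ • sks a)) = sk a * (h * h') * (-(Q6 F a)⁻¹ • sks a) := by
        simp only [Matrix.mul_assoc]
    _ = 1 := by
        rw [hh, Matrix.mul_one, Matrix.mul_smul, sk_mul_sks, smul_smul, neg_mul_neg,
          inv_mul_cancel₀ ha, one_smul]

theorem sks_mul_inv (a : I6 → F) (ha : Q6 F a ≠ 0) (h h' : Matrix I4 I4 F) (hh : h * h' = 1) :
    sks a * h * (h' * (-(Q6 F a)⁻¹ • sk a)) = 1 := by
  calc sks a * h * (h' * (-(Q6 F a)⁻¹ • sk a)) = sks a * (h * h') * (-(Q6 F a)⁻¹ • sk a) := by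
        simp only [Matrix.mul_assoc]
    _ = 1 := by
        rw [hh, Matrix.mul_one, Matrix.mul_smul, sks_mul_sk, smul_smul, neg_mul_neg,
          inv_mul_cancel₀ ha, one_smul]

theorem EvenT.refl_mul {T : Matrix I6 I6 F} (hT : EvenT T) (a : I6 → F) (ha : Q6 F a ≠ 0) :
    OddT (Cfsg.reflectionMatrix (⇑(Q6 F)) a * T) := by
  obtain ⟨g, h, g', h', ε, hg, hh, hε, H⟩ := hT
  refine ⟨sk a * h, sks a * g, _, _, -ε, sk_mul_inv a ha h h' hh, sks_mul_inv a ha g g' hg,
    neg_ne_zero.2 hε, fun w => ⟨?_, ?_⟩⟩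
  · rw [← Matrix.mulVec_mulVec, ← Matrix.mul_assoc, sk_refl a _ ha, Matrix.neg_mul,
      Matrix.mul_assoc, (H w).2, Matrix.mul_smul, neg_smul, Matrix.mul_assoc]
  · rw [← Matrix.mulVec_mulVec, ← Matrix.mul_assoc, sks_refl a _ ha, Matrix.neg_mul,
      Matrix.mul_assoc, (H w).1, Matrix.mul_smul, neg_smul, Matrix.mul_assoc]

theorem OddT.refl_mul {T : Matrix I6 I6 F} (hT : OddT T) (a : I6 → F) (ha : Q6 F a ≠ 0) :
    EvenT (Cfsg.reflectionMatrix (⇑(Q6 F)) a * T) := by
  obtain ⟨g, h, g', h', ε, hg, hh, hε, H⟩ := hT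
  refine ⟨sk a * h, sks a * g, _, _, -ε, sk_mul_inv a ha h h' hh, sks_mul_inv a ha g g' hg,
    neg_ne_zero.2 hε, fun w => ⟨?_, ?_⟩⟩
  · rw [← Matrix.mulVec_mulVec, ← Matrix.mul_assoc, sk_refl a _ ha, Matrix.neg_mul,
      Matrix.mul_assoc, (H w).2, Matrix.mul_smul, neg_smul, Matrix.mul_assoc]
  · rw [← Matrix.mulVec_mulVec, ← Matrix.mul_assoc, sks_refl a _ ha, Matrix.neg_mul,
      Matrix.mul_assoc, (H w).1, Matrix.mul_smul, neg_smul, Matrix.mul_assoc]

theorem even_one : EvenT (1 : Matrix I6 I6 F) :=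
  ⟨1, 1, 1, 1, 1, by simp, by simp, one_ne_zero, fun w => by simp⟩

/-- Every isometry of the six-dimensional hyperbolic space is of one of the two types. -/
theorem even_or_odd (T : Cfsg.isometryGroup F (⇑(Q6 F))) :
    EvenT ((T : Matrix.GeneralLinearGroup I6 F) : Matrix I6 I6 F) ∨
    OddT ((T : Matrix.GeneralLinearGroup I6 F) : Matrix I6 I6 F) := by
  have hcl := Cfsg.Agent.ClassicalGeometry.GenReflections.closure_reflections_eq_top (Q6 F)
    nondegenerate_Q6 (Or.inr (by simp))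
  have hT : T ∈ Subgroup.closure {g : Cfsg.isometryGroup F (⇑(Q6 F)) | ∃ v : I6 → F, Q6 F v ≠ 0 ∧
    ((g : Matrix.GeneralLinearGroup I6 F) : Matrix I6 I6 F) = Cfsg.reflectionMatrix (⇑(Q6 F)) v} := by
    rw [hcl]; exact Subgroup.mem_top _
  induction hT using Subgroup.closure_induction_left with
  | one => exact Or.inl even_one
  | mul_left x hx y hy ih =>
    obtain ⟨v, hv, hx⟩ := hx
    change EvenT (((x : Matrix.GeneralLinearGroup I6 F) : Matrix I6 I6 F) *
      ((y : Matrix.GeneralLinearGroup I6 F) : Matrix I6 I6 F)) ∨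
      OddT (((x : Matrix.GeneralLinearGroup I6 F) : Matrix I6 I6 F) *
      ((y : Matrix.GeneralLinearGroup I6 F) : Matrix I6 I6 F))
    rw [hx]
    rcases ih with h | h
    · exact Or.inr (h.refl_mul v hv)
    · exact Or.inl (h.refl_mul v hv)
  | inv_mul_cancel x hx y hy ih =>
    obtain ⟨v, hv, hx⟩ := hx
    have hx' : x = reflIso (Q6 F) v hv := Subtype.ext (Units.ext hx)
    rw [hx', reflIso_inv]
    change EvenT (Cfsg.reflectionMatrix (⇑(Q6 F)) v *
      ((y : Matrix.GeneralLinearGroup I6 F) : Matrix I6 I6 F)) ∨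
      OddT (Cfsg.reflectionMatrix (⇑(Q6 F)) v *
      ((y : Matrix.GeneralLinearGroup I6 F) : Matrix I6 I6 F))
    rcases ih with h | h
    · exact Or.inr (h.refl_mul v hv)
    · exact Or.inl (h.refl_mul v hv)

end Cfsg.Agent.LieClassical.SpinSix
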