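import Mathlib
import Cfsg.Agent.LieClassical.OrthFourCommon

/-!
The isometry group of the determinant on 2 × 2 matrices.
-/

set_option autoImplicit false

namespace Cfsg.Agent.LieClassical.OrthFourPlus

open scoped commutatorElement Matrix MatrixGroups
open Cfsg.Agent.LieClassical.OrthFourCommon

variable {F : Type*} [Field F]

abbrev M (F : Type*) := Matrix (Fin 2) (Fin 2) F

/-- the determinant form -/
abbrev dt (F : Type*) [Field F] : M F → F := fun X => X.det

/-- `X ↦ A X B⁻¹` as a linear automorphism -/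
noncomputable def conjLin : GL (Fin 2) F × GL (Fin 2) F →* (M F ≃ₗ[F] M F) where
  toFun p :=
    { toFun := fun X => (p.1 : M F) * X * ((p.2⁻¹ : GL (Fin 2) F) : M F)
      map_add' := fun X Y => by rw [mul_add, add_mul]
      map_smul' := fun c X => by simp
      invFun := fun X => ((p.1⁻¹ : GL (Fin 2) F) : M F) * X * (p.2 : M F)
      left_inv := fun X => by
        simp only [mul_assoc, Units.inv_mul, mul_one]
        rw [← mul_assoc, Units.inv_mul, one_mul]
      right_inv := fun X => by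
        simp only [mul_assoc, Units.mul_inv, mul_one]
        rw [← mul_assoc, Units.mul_inv, one_mul] }
  map_one' := by ext1 X; simp
  map_mul' p q := by
    ext1 X
    simp [mul_assoc, mul_inv_rev]

theorem conjLin_apply (p : GL (Fin 2) F × GL (Fin 2) F) (X : M F) :
    conjLin p X = (p.1 : M F) * X * ((p.2⁻¹ : GL (Fin 2) F) : M F) := rfl

/-- pairs of equal determinant -/
def Gam (F : Type*) [Field F] : Subgroup (GL (Fin 2) F × GL (Fin 2) F) where
  carrier := {p | p.1.det = p.2.det}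
  mul_mem' {p q} hp hq := by
    change (p.1 * q.1).det = (p.2 * q.2).det
    rw [map_mul, map_mul, hp, hq]
  one_mem' := rfl
  inv_mem' {p} hp := by
    change (p.1⁻¹).det = (p.2⁻¹).det
    rw [map_inv, map_inv, hp]

theorem mem_Gam {p : GL (Fin 2) F × GL (Fin 2) F} : p ∈ Gam F ↔ p.1.det = p.2.det := Iff.rfl

/-- the map from pairs to isometries -/
noncomputable def psi : Gam F →* isom (dt F) where
  toFun p := ⟨conjLin p.1, fun X => by
    change ((p.1.1 : M F) * X * ((p.1.2⁻¹ : GL (Fin 2) F) : M F)).det = X.det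
    have h : p.1.1.det = p.1.2.det := p.2
    rw [Matrix.det_mul, Matrix.det_mul, ← Matrix.GeneralLinearGroup.val_det_apply,
      ← Matrix.GeneralLinearGroup.val_det_apply (p.1.2⁻¹), h, map_inv, mul_comm, ← mul_assoc,
      Units.inv_mul, one_mul]⟩
  map_one' := Subtype.ext (map_one _)
  map_mul' p q := Subtype.ext (map_mul _ _ _)

theorem psi_apply (p : Gam F) (X : M F) :
    (psi p).1 X = (p.1.1 : M F) * X * ((p.1.2⁻¹ : GL (Fin 2) F) : M F) := rfl

/-- adjugate as a linear isometry -/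
def tauLin : M F ≃ₗ[F] M F where
  toFun X := X.adjugate
  map_add' X Y := by
    rw [Matrix.adjugate_fin_two, Matrix.adjugate_fin_two, Matrix.adjugate_fin_two]
    ext i j; fin_cases i <;> fin_cases j <;> simp [add_comm]
  map_smul' c X := by
    rw [Matrix.adjugate_fin_two, Matrix.adjugate_fin_two]
    ext i j; fin_cases i <;> fin_cases j <;> simp
  invFun X := X.adjugate
  left_inv X := by
    simp [Matrix.adjugate_adjugate']
  right_inv X := by
    simp [Matrix.adjugate_adjugate']

def tau : isom (dt F) := ⟨tauLin, fun X => by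
  change X.adjugate.det = X.det
  rw [Matrix.det_adjugate]; simp⟩

theorem tau_apply (X : M F) : (tau (F := F)).1 X = X.adjugate := rfl

theorem det_add_eq (g : isom (dt F)) (X Y : M F) : (g.1 X + g.1 Y).det = (X + Y).det := by
  rw [← map_add]; exact g.2 (X + Y)

theorem det_eq (g : isom (dt F)) (X : M F) : (g.1 X).det = X.det := g.2 X

/-- diagonal pair `(A, A)` -/
noncomputable def dg (A : M F) (h : A.det ≠ 0) : Gam F :=
  ⟨(Matrix.GeneralLinearGroup.mkOfDetNeZero A h, Matrix.GeneralLinearGroup.mkOfDetNeZero A h), rfl⟩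

theorem psi_dg_inv_of_mul_eq (A : M F) (h : A.det ≠ 0) (X Y : M F) (hXY : Y * A = A * X) :
    (psi (dg A h)⁻¹).1 Y = X := by
  rw [psi_apply]
  change ((Matrix.GeneralLinearGroup.mkOfDetNeZero A h)⁻¹ : GL (Fin 2) F).1 * Y *
    ((Matrix.GeneralLinearGroup.mkOfDetNeZero A h)⁻¹⁻¹ : GL (Fin 2) F).1 = X
  rw [inv_inv]
  change ((Matrix.GeneralLinearGroup.mkOfDetNeZero A h)⁻¹ : GL (Fin 2) F).1 * Y * A = X
  rw [mul_assoc, hXY, ← mul_assoc]
  change ((Matrix.GeneralLinearGroup.mkOfDetNeZero A h)⁻¹ : GL (Fin 2) F).1 *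
    (Matrix.GeneralLinearGroup.mkOfDetNeZero A h).1 * X = X
  rw [Units.inv_mul, one_mul]

theorem step1 (g : isom (dt F)) : ∃ p : Gam F, (psi p * g).1 1 = 1 := by
  have h1 : (g.1 1).det = 1 := by rw [det_eq, Matrix.det_one]
  have h0 : (g.1 1).det ≠ 0 := by rw [h1]; exact one_ne_zero
  let P := Matrix.GeneralLinearGroup.mkOfDetNeZero (g.1 1) h0
  have hP : P.det = 1 := by
    ext; rw [Matrix.GeneralLinearGroup.val_det_apply]; exact h1
  refine ⟨⟨(P⁻¹, 1), ?_⟩, ?_⟩
  · rw [mem_Gam, map_inv, hP]; simp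
  · change ((P⁻¹ : GL (Fin 2) F) : M F) * (g.1 1) * (((1 : GL (Fin 2) F)⁻¹ : GL (Fin 2) F) : M F) = 1
    rw [inv_one, Units.val_one, mul_one]
    exact Units.inv_mul P

theorem step2 (g : isom (dt F)) (h1 : g.1 1 = 1) :
    ∃ p : Gam F, (psi p * g).1 1 = 1 ∧ (psi p * g).1 !![0, 1; 0, 0] = !![0, 1; 0, 0] := by
  obtain ⟨a, b, c, d, hY⟩ : ∃ a b c d : F, g.1 !![0, 1; 0, 0] = !![a, b; c, d] :=
    ⟨_, _, _, _, Matrix.eta_fin_two _⟩
  have e1 : a * d - b * c = 0 := by
    have := det_eq g !![0, 1; 0, 0]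
    rw [hY, Matrix.det_fin_two_of, Matrix.det_fin_two_of] at this
    linear_combination this
  have e2 : (a + d) = 0 := by
    have := det_add_eq g 1 !![0, 1; 0, 0]
    rw [hY, h1, Matrix.det_fin_two, Matrix.det_fin_two] at this
    simp at this
    linear_combination this - e1
  by_cases hc : c = 0
  · subst hc
    have hb : b ≠ 0 := by
      rintro rfl
      have ha : a = 0 := by
        have : a * a = 0 := by linear_combination -e1 + a * e2
        simpa using this
      have hd : d = 0 := by linear_combination e2 - ha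
      subst ha; subst hd
      have h0 : g.1 !![0, 1; 0, 0] = 0 := by
        rw [hY]; ext i j; fin_cases i <;> fin_cases j <;> rfl
      rw [LinearEquiv.map_eq_zero_iff] at h0
      have := congrFun (congrFun h0 0) 1
      simp at this
    have ha : a = 0 := by
      have : a * a = 0 := by linear_combination -e1 + a * e2
      simpa using this
    have hd : d = 0 := by linear_combination e2 - ha
    subst ha; subst hd
    have hdet : (!![b, 0; 0, 1] : M F).det ≠ 0 := by rw [Matrix.det_fin_two_of]; simpa using hb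
    refine ⟨(dg _ hdet)⁻¹, ?_, ?_⟩
    · change (psi (dg _ hdet)⁻¹).1 (g.1 1) = 1
      rw [h1]
      exact psi_dg_inv_of_mul_eq _ hdet _ _ (by rw [one_mul, mul_one])
    · change (psi (dg _ hdet)⁻¹).1 (g.1 _) = _
      rw [hY]
      refine psi_dg_inv_of_mul_eq _ hdet _ _ ?_
      rw [Matrix.mul_fin_two, Matrix.mul_fin_two]
      ext i j; fin_cases i <;> fin_cases j <;> simp
  · have hdet : (!![a, 1; c, 0] : M F).det ≠ 0 := by rw [Matrix.det_fin_two_of]; simpa using hc
    refine ⟨(dg _ hdet)⁻¹, ?_, ?_⟩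
    · change (psi (dg _ hdet)⁻¹).1 (g.1 1) = 1
      rw [h1]
      exact psi_dg_inv_of_mul_eq _ hdet _ _ (by rw [one_mul, mul_one])
    · change (psi (dg _ hdet)⁻¹).1 (g.1 _) = _
      rw [hY]
      refine psi_dg_inv_of_mul_eq _ hdet _ _ ?_
      rw [Matrix.mul_fin_two, Matrix.mul_fin_two]
      ext i j; fin_cases i <;> fin_cases j <;> simp
      · linear_combination a * e2 - e1
      · linear_combination c * e2

theorem step3 (g : isom (dt F)) (h1 : g.1 1 = 1) (h2 : g.1 !![0, 1; 0, 0] = !![0, 1; 0, 0]) :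
    ∃ p : Gam F, (psi p * g).1 1 = 1 ∧ (psi p * g).1 !![0, 1; 0, 0] = !![0, 1; 0, 0] ∧
      (psi p * g).1 !![0, 0; 1, 0] = !![0, 0; 1, 0] := by
  obtain ⟨a, b, c, d, hY⟩ : ∃ a b c d : F, g.1 !![0, 0; 1, 0] = !![a, b; c, d] :=
    ⟨_, _, _, _, Matrix.eta_fin_two _⟩
  have e1 : a * d - b * c = 0 := by
    have := det_eq g !![0, 0; 1, 0]
    rw [hY, Matrix.det_fin_two_of, Matrix.det_fin_two_of] at this
    linear_combination this
  have e2 : (a + d) = 0 := by
    have := det_add_eq g 1 !![0, 0; 1, 0]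
    rw [hY, h1, Matrix.det_fin_two, Matrix.det_fin_two] at this
    simp at this
    linear_combination this - e1
  have e3 : c = 1 := by
    have := det_add_eq g !![0, 1; 0, 0] !![0, 0; 1, 0]
    rw [hY, h2, Matrix.det_fin_two, Matrix.det_fin_two] at this
    simp at this
    linear_combination e1 - this
  subst e3
  have hdet : (!![1, a; 0, 1] : M F).det ≠ 0 := by rw [Matrix.det_fin_two_of]; simp
  refine ⟨(dg _ hdet)⁻¹, ?_, ?_, ?_⟩
  · change (psi (dg _ hdet)⁻¹).1 (g.1 1) = 1
    rw [h1]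
    exact psi_dg_inv_of_mul_eq _ hdet _ _ (by rw [one_mul, mul_one])
  · change (psi (dg _ hdet)⁻¹).1 (g.1 _) = _
    rw [h2]
    refine psi_dg_inv_of_mul_eq _ hdet _ _ ?_
    rw [Matrix.mul_fin_two, Matrix.mul_fin_two]
    ext i j; fin_cases i <;> fin_cases j <;> simp
  · change (psi (dg _ hdet)⁻¹).1 (g.1 _) = _
    rw [hY]
    refine psi_dg_inv_of_mul_eq _ hdet _ _ ?_
    rw [Matrix.mul_fin_two, Matrix.mul_fin_two]
    ext i j; fin_cases i <;> fin_cases j <;> simp
    · linear_combination a * e2 - e1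
    · exact e2

theorem step4 (g : isom (dt F)) (h1 : g.1 1 = 1) (h2 : g.1 !![0, 1; 0, 0] = !![0, 1; 0, 0])
    (h3 : g.1 !![0, 0; 1, 0] = !![0, 0; 1, 0]) : ∃ p : Gam F, g = psi p ∨ g = psi p * tau := by
  obtain ⟨a, b, c, d, hY⟩ : ∃ a b c d : F, g.1 !![1, 0; 0, 0] = !![a, b; c, d] :=
    ⟨_, _, _, _, Matrix.eta_fin_two _⟩
  have e1 : a * d - b * c = 0 := by
    have := det_eq g !![1, 0; 0, 0]
    rw [hY, Matrix.det_fin_two_of, Matrix.det_fin_two_of] at this
    linear_combination this
  have e2 : (a + d) = 1 := by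
    have := det_add_eq g 1 !![1, 0; 0, 0]
    rw [hY, h1, Matrix.det_fin_two, Matrix.det_fin_two] at this
    simp at this
    linear_combination this - e1
  have e3 : c = 0 := by
    have := det_add_eq g !![0, 1; 0, 0] !![1, 0; 0, 0]
    rw [hY, h2, Matrix.det_fin_two, Matrix.det_fin_two] at this
    simp at this
    linear_combination e1 - this
  have e4 : b = 0 := by
    have := det_add_eq g !![0, 0; 1, 0] !![1, 0; 0, 0]
    rw [hY, h3, Matrix.det_fin_two, Matrix.det_fin_two] at this
    simp at this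
    linear_combination e1 - this
  subst e3; subst e4
  have hX : ∀ x y z w : F, g.1 !![x, y; z, w] = (x - w) • !![a, 0; 0, d] + y • !![0, 1; 0, 0] +
      z • !![0, 0; 1, 0] + w • 1 := by
    intro x y z w
    have hd : (!![x, y; z, w] : M F) = (x - w) • !![1, 0; 0, 0] + y • !![0, 1; 0, 0] +
      z • !![0, 0; 1, 0] + w • 1 := by
      ext i j; fin_cases i <;> fin_cases j <;> simp
    rw [hd, LinearEquiv.map_add, LinearEquiv.map_add, LinearEquiv.map_add, LinearEquiv.map_smul,
      LinearEquiv.map_smul, LinearEquiv.map_smul, LinearEquiv.map_smul, h1, h2, h3, hY]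
  have e5 : a = 0 ∨ d = 0 := by
    have : a * d = 0 := by linear_combination e1
    simpa using this
  rcases e5 with rfl | rfl
  · have hd : d = 1 := by linear_combination e2
    subst hd
    have hdet : (!![1, 0; 0, -1] : M F).det ≠ 0 := by rw [Matrix.det_fin_two_of]; simp
    refine ⟨(dg _ hdet)⁻¹, Or.inr ?_⟩
    refine Subtype.ext (LinearEquiv.ext fun X => ?_)
    change _ = (psi (dg _ hdet)⁻¹).1 ((tau (F := F)).1 X)
    rw [tau_apply]
    obtain ⟨x, y, z, w, rfl⟩ : ∃ x y z w : F, X = !![x, y; z, w] :=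
      ⟨_, _, _, _, Matrix.eta_fin_two _⟩
    rw [hX]
    symm
    refine psi_dg_inv_of_mul_eq _ hdet _ _ ?_
    rw [Matrix.adjugate_fin_two_of]
    ext i j; fin_cases i <;> fin_cases j <;> simp [Matrix.mul_apply, Fin.sum_univ_two]
  · have ha : a = 1 := by linear_combination e2
    subst ha
    refine ⟨1, Or.inl ?_⟩
    rw [map_one]
    refine Subtype.ext (LinearEquiv.ext fun X => ?_)
    change g.1 X = X
    obtain ⟨x, y, z, w, rfl⟩ : ∃ x y z w : F, X = !![x, y; z, w] :=
      ⟨_, _, _, _, Matrix.eta_fin_two _⟩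
    rw [hX]
    ext i j; fin_cases i <;> fin_cases j <;> simp

/-- Every isometry of the determinant is `X ↦ A X B⁻¹` or `X ↦ A adj(X) B⁻¹`. -/
theorem exists_eq (g : isom (dt F)) : ∃ p : Gam F, g = psi p ∨ g = psi p * tau := by
  have key : ∀ (g : isom (dt F)) (q : Gam F), (∃ p : Gam F, psi q * g = psi p ∨ psi q * g = psi p * tau) →
      ∃ p : Gam F, g = psi p ∨ g = psi p * tau := by
    rintro g q ⟨p, hp⟩
    refine ⟨q⁻¹ * p, ?_⟩
    rw [map_mul, map_inv]
    rcases hp with h | h
    · left; rw [← h]; group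
    · right; rw [mul_assoc, ← h]; group
  obtain ⟨p1, h1⟩ := step1 g
  obtain ⟨p2, h2, h2'⟩ := step2 _ h1
  obtain ⟨p3, h3, h3', h3''⟩ := step3 _ h2 h2'
  exact key _ _ (key _ _ (key _ _ (step4 _ h3 h3' h3'')))

/-- pairs of determinant one -/
def Gam0 (F : Type*) [Field F] : Subgroup (Gam F) where
  carrier := {p | p.1.1.det = 1}
  mul_mem' {p q} hp hq := by
    change (p.1.1 * q.1.1).det = 1
    rw [map_mul, hp, hq, one_mul]
  one_mem' := map_one _
  inv_mem' {p} hp := by
    change (p.1.1⁻¹).det = 1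
    rw [map_inv, hp, inv_one]

theorem mem_Gam0 {p : Gam F} : p ∈ Gam0 F ↔ p.1.1.det = 1 := Iff.rfl

instance instNormalGam0 : (Gam0 F).Normal := ⟨fun p hp q => by
  rw [mem_Gam0] at *
  change (q.1.1 * p.1.1 * q.1.1⁻¹).det = 1
  rw [map_mul, map_mul, map_inv, hp, mul_one, mul_inv_cancel]⟩

/-- embedding of `SL × SL` in the pairs -/
def inc : SL(2, F) × SL(2, F) →* Gam F where
  toFun s := ⟨(s.1.toGL, s.2.toGL), by
    rw [mem_Gam]; ext
    rw [Matrix.GeneralLinearGroup.val_det_apply, Matrix.GeneralLinearGroup.val_det_apply]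
    exact s.1.2.trans s.2.2.symm⟩
  map_one' := Subtype.ext (Prod.ext (map_one _) (map_one _))
  map_mul' s t := Subtype.ext (Prod.ext (map_mul _ _ _) (map_mul _ _ _))

/-- the homomorphism from `SL × SL` to the isometries -/
noncomputable def phi : SL(2, F) × SL(2, F) →* isom (dt F) := psi.comp inc

theorem inc_range : (inc (F := F)).range = Gam0 F := by
  ext p
  constructor
  · rintro ⟨s, rfl⟩
    rw [mem_Gam0]; ext
    rw [Matrix.GeneralLinearGroup.val_det_apply]
    exact s.1.2
  · intro hp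
    have h2 : p.1.2.det = 1 := by rw [← mem_Gam.1 p.2]; exact hp
    refine ⟨(⟨p.1.1, ?_⟩, ⟨p.1.2, ?_⟩), ?_⟩
    · rw [← Matrix.GeneralLinearGroup.val_det_apply, mem_Gam0.1 hp]; rfl
    · rw [← Matrix.GeneralLinearGroup.val_det_apply, h2]; rfl
    · refine Subtype.ext (Prod.ext (Units.ext rfl) (Units.ext rfl))

theorem phi_range : (phi (F := F)).range = (Gam0 F).map psi := by
  rw [phi, MonoidHom.range_comp, inc_range]

/-- swapping the two factors -/
def sw (p : Gam F) : Gam F := ⟨(p.1.2, p.1.1), p.2.symm⟩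

theorem tau_conj (p : Gam F) : tau * psi p * tau⁻¹ = psi (sw p) := by
  rw [mul_inv_eq_iff_eq_mul]
  refine Subtype.ext (LinearEquiv.ext fun X => ?_)
  change ((p.1.1 : M F) * X * ((p.1.2⁻¹ : GL (Fin 2) F) : M F)).adjugate =
    (p.1.2 : M F) * X.adjugate * ((p.1.1⁻¹ : GL (Fin 2) F) : M F)
  have hA : (p.1.1 : M F).adjugate = (p.1.1 : M F).det • ((p.1.1⁻¹ : GL (Fin 2) F) : M F) := by
    have h1 := Matrix.adjugate_mul (p.1.1 : M F)
    calc (p.1.1 : M F).adjugate = (p.1.1 : M F).adjugate * (p.1.1 : M F) * ((p.1.1⁻¹ : GL (Fin 2) F) : M F) := by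
          rw [mul_assoc, Units.mul_inv, mul_one]
      _ = _ := by rw [h1, Matrix.smul_mul, one_mul]
  have hB : ((p.1.2⁻¹ : GL (Fin 2) F) : M F).adjugate =
      ((p.1.2⁻¹ : GL (Fin 2) F) : M F).det • (p.1.2 : M F) := by
    have h1 := Matrix.adjugate_mul ((p.1.2⁻¹ : GL (Fin 2) F) : M F)
    calc ((p.1.2⁻¹ : GL (Fin 2) F) : M F).adjugate =
          ((p.1.2⁻¹ : GL (Fin 2) F) : M F).adjugate * ((p.1.2⁻¹ : GL (Fin 2) F) : M F) * (p.1.2 : M F) := by
          rw [mul_assoc, Units.inv_mul, mul_one]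
      _ = _ := by rw [h1, Matrix.smul_mul, one_mul]
  have hdet : ((p.1.2⁻¹ : GL (Fin 2) F) : M F).det * (p.1.1 : M F).det = 1 := by
    rw [← Matrix.GeneralLinearGroup.val_det_apply, ← Matrix.GeneralLinearGroup.val_det_apply,
      mem_Gam.1 p.2, map_inv]
    exact Units.inv_mul _
  rw [Matrix.adjugate_mul_distrib, Matrix.adjugate_mul_distrib, hA, hB]
  rw [Matrix.smul_mul, Matrix.mul_smul, Matrix.mul_smul, smul_smul, hdet, one_smul, mul_assoc]

theorem commutator_le : commutator (isom (dt F)) ≤ (phi (F := F)).range := by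
  rw [phi_range]
  refine commutator_le_map psi (Gam0 F) tau sw tau_conj exists_eq ?_ ?_ ?_
  · intro p q
    rw [mem_Gam0]
    change (⁅p.1.1, q.1.1⁆).det = 1
    rw [map_commutatorElement, commutatorElement_eq_one_iff_mul_comm, mul_comm]
  · intro p hp
    rw [mem_Gam0] at *
    exact (mem_Gam.1 p.2).symm.trans hp
  · intro p
    refine Subgroup.mem_map_of_mem _ ?_
    rw [mem_Gam0]
    change (p.1.2 * p.1.1⁻¹).det = 1
    rw [map_mul, map_inv, mem_Gam.1 p.2, mul_inv_cancel]

theorem exists_comm (a : F) (ha0 : a ≠ 0) (ha1 : a ≠ 1) {i j : Fin 2} (h : i ≠ j) (c : F) :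
    ∃ D : GL (Fin 2) F, ∃ c' : F,
      D * (Matrix.SpecialLinearGroup.transvection h c').toGL =
      (Matrix.SpecialLinearGroup.transvection h c).toGL *
        (Matrix.SpecialLinearGroup.transvection h c').toGL * D := by
  have hdet : (Matrix.diagonal (fun k => if k = i then a else 1) : M F).det ≠ 0 := by
    rw [Matrix.det_diagonal]
    rw [Finset.prod_ne_zero_iff]
    intro k _
    split_ifs
    · exact ha0
    · exact one_ne_zero
  refine ⟨Matrix.GeneralLinearGroup.mkOfDetNeZero _ hdet, c / (a - 1), ?_⟩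
  have ha1' : a - 1 ≠ 0 := sub_ne_zero.2 ha1
  have hc : c + c / (a - 1) = a * (c / (a - 1)) := by field_simp; ring
  refine Units.ext ?_
  rw [← map_mul, ← Matrix.SpecialLinearGroup.transvection_add, hc]
  change (Matrix.diagonal (fun k => if k = i then a else 1) : M F) *
    (Matrix.SpecialLinearGroup.transvection h (c / (a - 1))).1 =
    (Matrix.SpecialLinearGroup.transvection h (a * (c / (a - 1)))).1 *
      (Matrix.diagonal (fun k => if k = i then a else 1) : M F)
  rw [Matrix.SpecialLinearGroup.transvection_coe, Matrix.SpecialLinearGroup.transvection_coe,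
    mul_add, add_mul, mul_one, one_mul]
  congr 1
  ext k l
  rw [Matrix.diagonal_mul, Matrix.mul_diagonal, Matrix.single_apply, Matrix.single_apply]
  by_cases hk : i = k
  · by_cases hl : j = l
    · subst hk; subst hl
      simp [h.symm]
    · simp [hl]
  · simp [hk]

theorem le_commutator (a : F) (ha0 : a ≠ 0) (ha1 : a ≠ 1) :
    (phi (F := F)).range ≤ commutator (isom (dt F)) := by
  have h1 : ∀ A : SL(2, F), phi (A, 1) ∈ commutator (isom (dt F)) := by
    refine Matrix.SL2.transvection_induction _ ?_ ?_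
    · intro i j h c
      obtain ⟨D, c', hD⟩ := exists_comm a ha0 ha1 h c
      have : phi (Matrix.SpecialLinearGroup.transvection h c, 1) =
          ⁅psi ⟨(D, D), rfl⟩, phi (Matrix.SpecialLinearGroup.transvection h c', 1)⁆ := by
        rw [commutatorElement_def, eq_mul_inv_iff_mul_eq, eq_mul_inv_iff_mul_eq]
        change psi (inc _) * psi (inc _) * psi _ = psi _ * psi (inc _)
        rw [← map_mul psi, ← map_mul psi, ← map_mul psi]
        congr 1
        refine Subtype.ext (Prod.ext hD.symm ?_)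
        change (Matrix.SpecialLinearGroup.toGL (1 : SL(2, F))) *
          (Matrix.SpecialLinearGroup.toGL (1 : SL(2, F))) * D = D * (Matrix.SpecialLinearGroup.toGL (1 : SL(2, F)))
        rw [map_one]; simp
      rw [this]
      exact Subgroup.commutator_mem_commutator (Subgroup.mem_top _) (Subgroup.mem_top _)
    · intro A B hA hB
      have : phi (A * B, 1) = phi (A, 1) * phi (B, 1) := by
        rw [← map_mul]; simp
      rw [this]
      exact mul_mem hA hB
  have h2 : ∀ A : SL(2, F), phi (1, A) ∈ commutator (isom (dt F)) := by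
    refine Matrix.SL2.transvection_induction _ ?_ ?_
    · intro i j h c
      obtain ⟨D, c', hD⟩ := exists_comm a ha0 ha1 h c
      have : phi (1, Matrix.SpecialLinearGroup.transvection h c) =
          ⁅psi ⟨(D, D), rfl⟩, phi (1, Matrix.SpecialLinearGroup.transvection h c')⁆ := by
        rw [commutatorElement_def, eq_mul_inv_iff_mul_eq, eq_mul_inv_iff_mul_eq]
        change psi (inc _) * psi (inc _) * psi _ = psi _ * psi (inc _)
        rw [← map_mul psi, ← map_mul psi, ← map_mul psi]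
        congr 1
        refine Subtype.ext (Prod.ext ?_ hD.symm)
        change (Matrix.SpecialLinearGroup.toGL (1 : SL(2, F))) *
          (Matrix.SpecialLinearGroup.toGL (1 : SL(2, F))) * D = D * (Matrix.SpecialLinearGroup.toGL (1 : SL(2, F)))
        rw [map_one]; simp
      rw [this]
      exact Subgroup.commutator_mem_commutator (Subgroup.mem_top _) (Subgroup.mem_top _)
    · intro A B hA hB
      have : phi (1, A * B) = phi (1, A) * phi (1, B) := by
        rw [← map_mul]; simp
      rw [this]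
      exact mul_mem hA hB
  rintro _ ⟨⟨A, B⟩, rfl⟩
  have : phi (A, B) = phi (A, 1) * phi (1, B) := by
    rw [← map_mul]; simp
  rw [this]
  exact mul_mem (h1 A) (h2 B)

theorem fst_eq_snd_of_phi_eq_one {s : SL(2, F) × SL(2, F)} (h : phi s = 1) : s.1 = s.2 := by
  have h1 : (phi s).1 1 = (1 : M F) := by rw [h]; rfl
  change ((s.1.toGL : GL (Fin 2) F) : M F) * 1 * ((s.2.toGL⁻¹ : GL (Fin 2) F) : M F) = 1 at h1
  rw [mul_one] at h1
  have h2 : ((s.1.toGL : GL (Fin 2) F) : M F) = ((s.2.toGL : GL (Fin 2) F) : M F) := by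
    calc ((s.1.toGL : GL (Fin 2) F) : M F) = ((s.1.toGL : GL (Fin 2) F) : M F) *
        ((s.2.toGL⁻¹ : GL (Fin 2) F) : M F) * ((s.2.toGL : GL (Fin 2) F) : M F) := by
          rw [mul_assoc, Units.inv_mul, mul_one]
      _ = _ := by rw [h1, one_mul]
  exact Subtype.ext h2

/-- the projection to `PSL × PSL` -/
def proj : SL(2, F) × SL(2, F) →* PSL(2, F) × PSL(2, F) :=
  MonoidHom.prodMap (QuotientGroup.mk' _) (QuotientGroup.mk' _)

theorem proj_surjective : Function.Surjective (proj (F := F)) := by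
  rintro ⟨x, y⟩
  obtain ⟨a, rfl⟩ := QuotientGroup.mk'_surjective _ x
  obtain ⟨b, rfl⟩ := QuotientGroup.mk'_surjective _ y
  exact ⟨(a, b), rfl⟩

theorem proj_eq_one_iff (s : SL(2, F) × SL(2, F)) : proj s = 1 ↔ ∀ t : SL(2, F) × SL(2, F), phi ⁅s, t⁆ = 1 := by
  have h0 : proj s = 1 ↔ s.1 ∈ Subgroup.center SL(2, F) ∧ s.2 ∈ Subgroup.center SL(2, F) := by
    rw [← QuotientGroup.eq_one_iff, ← QuotientGroup.eq_one_iff, Prod.ext_iff]; rfl
  rw [h0]
  constructor
  · rintro ⟨h1, h2⟩ t
    have : ⁅s, t⁆ = 1 := by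
      rw [commutatorElement_eq_one_iff_mul_comm]
      refine Prod.ext ?_ ?_
      · exact ((Subgroup.mem_center_iff.1 h1) t.1).symm
      · exact ((Subgroup.mem_center_iff.1 h2) t.2).symm
    rw [this, map_one]
  · intro h
    constructor
    · rw [Subgroup.mem_center_iff]
      intro g
      have h1 := fst_eq_snd_of_phi_eq_one (h (g, 1))
      change ⁅s.1, g⁆ = ⁅s.2, 1⁆ at h1
      rw [commutatorElement_one_right, commutatorElement_eq_one_iff_mul_comm] at h1
      exact h1.symm
    · rw [Subgroup.mem_center_iff]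
      intro g
      have h1 := fst_eq_snd_of_phi_eq_one (h (1, g))
      change ⁅s.1, 1⁆ = ⁅s.2, g⁆ at h1
      rw [commutatorElement_one_right, eq_comm, commutatorElement_eq_one_iff_mul_comm] at h1
      exact h1.symm

/-- coordinates: vectors as matrices -/
def coord (F : Type*) [Field F] : (Fin 2 ⊕ Fin 2 → F) ≃ₗ[F] M F where
  toFun v := !![v (.inl 0), -v (.inl 1); v (.inr 1), v (.inr 0)]
  map_add' u v := by ext i j; fin_cases i <;> fin_cases j <;> simp [add_comm]
  map_smul' c v := by ext i j; fin_cases i <;> fin_cases j <;> simp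
  invFun X := Sum.elim ![X 0 0, -X 0 1] ![X 1 1, X 1 0]
  left_inv v := by
    ext (i | i) <;> fin_cases i <;> simp
  right_inv X := by
    ext i j; fin_cases i <;> fin_cases j <;> simp

theorem coord_det (v : Fin 2 ⊕ Fin 2 → F) : dt F (coord F v) = Cfsg.quadFormPlus 2 F v := by
  change (!![v (.inl 0), -v (.inl 1); v (.inr 1), v (.inr 0)] : M F).det =
    ∑ i : Fin 2, v (.inl i) * v (.inr i)
  rw [Matrix.det_fin_two_of, Fin.sum_univ_two]
  ring

/-- `O₄⁺(F)` and its commutator subgroup. -/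
theorem pomega_equiv (a : F) (ha0 : a ≠ 0) (ha1 : a ≠ 1) :
    Nonempty (Cfsg.POmega F (Cfsg.quadFormPlus 2 F) ≃* PSL(2, F) × PSL(2, F)) := by
  obtain ⟨ε⟩ := exists_isometryGroup_equiv (coord F) (Cfsg.quadFormPlus 2 F) (dt F) coord_det
  exact quot_equiv ε phi proj proj_surjective
    (le_antisymm (le_commutator a ha0 ha1) commutator_le) proj_eq_one_iff

end Cfsg.Agent.LieClassical.OrthFourPlus
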