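import Cfsg.Prelude.Def_Classical
import Cfsg.Agent.LieClassical.SLGen
import Mathlib.Tactic

/-!
The three-dimensional orthogonal group of `x₀² + x y` and its relation with `GL₂`:
the adjoint action of `GL₂` on trace-zero matrices gives `phi : GL₂ →* O₃`, with kernel the
scalars, and `O₃ = ± phi(GL₂)`.
-/

set_option autoImplicit false

namespace Cfsg.Agent.LieClassical.OrthThree

open Matrix

variable {F : Type*} [Field F]

/-- the index type -/
abbrev I3 : Type := Unit ⊕ (Fin 1 ⊕ Fin 1)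

/-- a 3 by 3 matrix from its entries -/
def mk (a00 a01 a02 a10 a11 a12 a20 a21 a22 : F) : Matrix I3 I3 F
  | .inl _, .inl _ => a00
  | .inl _, .inr (.inl _) => a01
  | .inl _, .inr (.inr _) => a02
  | .inr (.inl _), .inl _ => a10
  | .inr (.inl _), .inr (.inl _) => a11
  | .inr (.inl _), .inr (.inr _) => a12
  | .inr (.inr _), .inl _ => a20
  | .inr (.inr _), .inr (.inl _) => a21
  | .inr (.inr _), .inr (.inr _) => a22

omit [Field F] in
theorem eq_mk (M : Matrix I3 I3 F) :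
    M = mk (M (.inl ()) (.inl ())) (M (.inl ()) (.inr (.inl 0))) (M (.inl ()) (.inr (.inr 0)))
      (M (.inr (.inl 0)) (.inl ())) (M (.inr (.inl 0)) (.inr (.inl 0)))
      (M (.inr (.inl 0)) (.inr (.inr 0)))
      (M (.inr (.inr 0)) (.inl ())) (M (.inr (.inr 0)) (.inr (.inl 0)))
      (M (.inr (.inr 0)) (.inr (.inr 0))) := by
  ext i j
  rcases i with i | i | i <;> rcases j with j | j | j <;> fin_cases i <;> fin_cases j <;> rfl

theorem mk_mul (a00 a01 a02 a10 a11 a12 a20 a21 a22 b00 b01 b02 b10 b11 b12 b20 b21 b22 : F) :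
    mk a00 a01 a02 a10 a11 a12 a20 a21 a22 * mk b00 b01 b02 b10 b11 b12 b20 b21 b22 =
    mk (a00 * b00 + a01 * b10 + a02 * b20) (a00 * b01 + a01 * b11 + a02 * b21)
      (a00 * b02 + a01 * b12 + a02 * b22)
      (a10 * b00 + a11 * b10 + a12 * b20) (a10 * b01 + a11 * b11 + a12 * b21)
      (a10 * b02 + a11 * b12 + a12 * b22)
      (a20 * b00 + a21 * b10 + a22 * b20) (a20 * b01 + a21 * b11 + a22 * b21)
      (a20 * b02 + a21 * b12 + a22 * b22) := by
  ext i j
  rcases i with i | i | i <;> rcases j with j | j | j <;>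
    simp [Matrix.mul_apply, Fintype.sum_sum_type, mk, add_assoc]

theorem mk_one : mk (1 : F) 0 0 0 1 0 0 0 1 = 1 := by
  ext i j
  rcases i with i | i | i <;> rcases j with j | j | j <;>
    simp [Matrix.one_apply, mk, eq_iff_true_of_subsingleton]

theorem mk_neg (a00 a01 a02 a10 a11 a12 a20 a21 a22 : F) :
    -mk a00 a01 a02 a10 a11 a12 a20 a21 a22 =
      mk (-a00) (-a01) (-a02) (-a10) (-a11) (-a12) (-a20) (-a21) (-a22) := by
  ext i j
  rcases i with i | i | i <;> rcases j with j | j | j <;> rfl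

/-- a vector from its entries -/
def vec (x y z : F) : I3 → F
  | .inl _ => x
  | .inr (.inl _) => y
  | .inr (.inr _) => z

omit [Field F] in
theorem eq_vec (v : I3 → F) : v = vec (v (.inl ())) (v (.inr (.inl 0))) (v (.inr (.inr 0))) := by
  ext i
  rcases i with i | i | i <;> fin_cases i <;> rfl

theorem mk_mulVec (a00 a01 a02 a10 a11 a12 a20 a21 a22 x y z : F) :
    mk a00 a01 a02 a10 a11 a12 a20 a21 a22 *ᵥ vec x y z =
      vec (a00 * x + a01 * y + a02 * z) (a10 * x + a11 * y + a12 * z)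
        (a20 * x + a21 * y + a22 * z) := by
  ext i
  rcases i with i | i | i <;>
    simp [Matrix.mulVec, dotProduct, Fintype.sum_sum_type, mk, vec, add_assoc]

theorem quadForm_vec (x y z : F) : Cfsg.quadFormOdd 1 F (vec x y z) = x ^ 2 + y * z := by
  change x ^ 2 + ∑ i : Fin 1, _ = _
  rw [Fin.sum_univ_one]
  rfl

theorem mem_isometryGroup_iff {ι : Type} [Fintype ι] [DecidableEq ι] (Q : (ι → F) → F)
    (g : Matrix.GeneralLinearGroup ι F) :
    g ∈ Cfsg.isometryGroup F Q ↔ ∀ v, Q ((g : Matrix ι ι F) *ᵥ v) = Q v :=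
  ⟨fun h v => h v v, fun h v _ => h v⟩

/-- the adjoint representation of `GL₂` in matrix form -/
def phiMat (g : Matrix.GeneralLinearGroup (Fin 2) F) : Matrix I3 I3 F :=
  let a := g 0 0
  let b := g 0 1
  let c := g 1 0
  let d := g 1 1
  let D : F := ((Matrix.GeneralLinearGroup.det g)⁻¹ : Fˣ)
  mk (D * (a * d + b * c)) (D * (-(a * c))) (D * (b * d))
    (D * (-(2 * a * b))) (D * (a ^ 2)) (D * (-b ^ 2))
    (D * (2 * c * d)) (D * (-c ^ 2)) (D * d ^ 2)

theorem phiMat_eq (g : Matrix.GeneralLinearGroup (Fin 2) F) (a b c d D : F)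
    (ha : g 0 0 = a) (hb : g 0 1 = b) (hc : g 1 0 = c) (hd : g 1 1 = d)
    (hD : (((Matrix.GeneralLinearGroup.det g)⁻¹ : Fˣ) : F) = D) :
    phiMat g = mk (D * (a * d + b * c)) (D * (-(a * c))) (D * (b * d))
    (D * (-(2 * a * b))) (D * (a ^ 2)) (D * (-b ^ 2))
    (D * (2 * c * d)) (D * (-c ^ 2)) (D * d ^ 2) := by
  subst ha hb hc hd hD
  rfl

theorem phiMat_one : phiMat (1 : Matrix.GeneralLinearGroup (Fin 2) F) = 1 := by
  rw [phiMat_eq 1 1 0 0 1 1 (by simp) (by simp) (by simp) (by simp) (by simp), ← mk_one]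
  simp

theorem phiMat_mul (g h : Matrix.GeneralLinearGroup (Fin 2) F) :
    phiMat (g * h) = phiMat g * phiMat h := by
  rw [phiMat_eq (g * h) (g 0 0 * h 0 0 + g 0 1 * h 1 0) (g 0 0 * h 0 1 + g 0 1 * h 1 1)
    (g 1 0 * h 0 0 + g 1 1 * h 1 0) (g 1 0 * h 0 1 + g 1 1 * h 1 1)
    (((Matrix.GeneralLinearGroup.det g)⁻¹ : Fˣ) * ((Matrix.GeneralLinearGroup.det h)⁻¹ : Fˣ))
    (by simp [Matrix.mul_apply, Fin.sum_univ_two]) (by simp [Matrix.mul_apply, Fin.sum_univ_two])
    (by simp [Matrix.mul_apply, Fin.sum_univ_two]) (by simp [Matrix.mul_apply, Fin.sum_univ_two])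
    (by rw [map_mul, mul_inv, Units.val_mul])]
  rw [phiMat_eq g _ _ _ _ _ rfl rfl rfl rfl rfl, phiMat_eq h _ _ _ _ _ rfl rfl rfl rfl rfl, mk_mul]
  congr 1 <;> ring

/-- the adjoint representation of `GL₂` -/
def phi : Matrix.GeneralLinearGroup (Fin 2) F →* Matrix.GeneralLinearGroup I3 F :=
  MonoidHom.toHomUnits ⟨⟨phiMat, phiMat_one⟩, phiMat_mul⟩

theorem phi_coe (g : Matrix.GeneralLinearGroup (Fin 2) F) :
    ((phi g : Matrix.GeneralLinearGroup I3 F) : Matrix I3 I3 F) = phiMat g := rfl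

theorem det_inv_mul (g : Matrix.GeneralLinearGroup (Fin 2) F) :
    (((Matrix.GeneralLinearGroup.det g)⁻¹ : Fˣ) : F) * (g 0 0 * g 1 1 - g 0 1 * g 1 0) = 1 := by
  have h : ((Matrix.GeneralLinearGroup.det g : Fˣ) : F) = g 0 0 * g 1 1 - g 0 1 * g 1 0 := by
    rw [Matrix.GeneralLinearGroup.val_det_apply, Matrix.det_fin_two]
  rw [← h, Units.inv_mul]

theorem phi_mem (g : Matrix.GeneralLinearGroup (Fin 2) F) :
    phi g ∈ Cfsg.isometryGroup F (Cfsg.quadFormOdd 1 F) := by
  rw [mem_isometryGroup_iff]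
  intro v
  rw [phi_coe, phiMat_eq g _ _ _ _ _ rfl rfl rfl rfl rfl, eq_vec v, mk_mulVec, quadForm_vec,
    quadForm_vec]
  have h := det_inv_mul g
  set D : F := (((Matrix.GeneralLinearGroup.det g)⁻¹ : Fˣ) : F)
  generalize g 0 0 = a at *
  generalize g 0 1 = b at *
  generalize g 1 0 = c at *
  generalize g 1 1 = d at *
  generalize v (.inl ()) = x at *
  generalize v (.inr (.inl 0)) = y at *
  generalize v (.inr (.inr 0)) = z at *
  have h2 : D ^ 2 * (a * d - b * c) ^ 2 = 1 := by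
    rw [← mul_pow, h, one_pow]
  linear_combination (x ^ 2 + y * z) * h2

/-- the element `-1` of the isometry group -/
theorem neg_mem {g : Matrix.GeneralLinearGroup I3 F}
    (hg : g ∈ Cfsg.isometryGroup F (Cfsg.quadFormOdd 1 F)) :
    -g ∈ Cfsg.isometryGroup F (Cfsg.quadFormOdd 1 F) := by
  rw [mem_isometryGroup_iff] at hg ⊢
  intro v
  rw [Units.val_neg, Matrix.neg_mulVec, ← Matrix.mulVec_neg, hg]
  rw [eq_vec v, quadForm_vec]
  have : (-vec (v (.inl ())) (v (.inr (.inl 0))) (v (.inr (.inr 0))) : I3 → F) =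
    vec (-(v (.inl ()))) (-(v (.inr (.inl 0)))) (-(v (.inr (.inr 0)))) := by
    ext i
    rcases i with i | i | i <;> rfl
  rw [this, quadForm_vec]
  ring

/-- entries criterion for the isometry group -/
theorem mk_isometry_fix {m00 m02 m10 m12 m20 m22 : F}
    (h : ∀ v : I3 → F, Cfsg.quadFormOdd 1 F (mk m00 0 m02 m10 1 m12 m20 0 m22 *ᵥ v) =
      Cfsg.quadFormOdd 1 F v) :
    m20 = 0 ∧ m22 = 1 ∧ m00 ^ 2 = 1 ∧ m12 = - m02 ^ 2 ∧ m10 = - (2 * m00 * m02) := by
  have h001 := h (vec 0 0 1)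
  have h100 := h (vec 1 0 0)
  have h011 := h (vec 0 1 1)
  have h110 := h (vec 1 1 0)
  have h101 := h (vec 1 0 1)
  rw [mk_mulVec, quadForm_vec, quadForm_vec] at h001 h100 h011 h110 h101
  have h22 : m22 = 1 := by linear_combination h011 - h001
  have h20 : m20 = 0 := by linear_combination h110 - h100
  subst h22 h20
  refine ⟨rfl, rfl, ?_, ?_, ?_⟩
  · linear_combination h100
  · linear_combination h001
  · linear_combination h101 - h001 - h100

/-- an element of `GL₂` from its entries -/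
noncomputable def gl (a b c d : F) (h : a * d - b * c ≠ 0) : Matrix.GeneralLinearGroup (Fin 2) F :=
  Matrix.GeneralLinearGroup.mkOfDetNeZero !![a, b; c, d] (by rwa [Matrix.det_fin_two_of])

theorem phi_gl (a b c d : F) (h : a * d - b * c ≠ 0) (D : F) (hD : D * (a * d - b * c) = 1) :
    ((phi (gl a b c d h) : Matrix.GeneralLinearGroup I3 F) : Matrix I3 I3 F) =
    mk (D * (a * d + b * c)) (D * (-(a * c))) (D * (b * d))
    (D * (-(2 * a * b))) (D * (a ^ 2)) (D * (-b ^ 2))
    (D * (2 * c * d)) (D * (-c ^ 2)) (D * d ^ 2) := by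
  rw [phi_coe]
  refine phiMat_eq _ a b c d D rfl rfl rfl rfl ?_
  have h1 := det_inv_mul (gl a b c d h)
  have h2 : (gl a b c d h) 0 0 * (gl a b c d h) 1 1 - (gl a b c d h) 0 1 * (gl a b c d h) 1 0 =
    a * d - b * c := rfl
  rw [h2] at h1
  exact mul_right_cancel₀ h (h1.trans hD.symm)

/-- the isometry group is `± phi(GL₂)`: the case of an element fixing the second basis vector -/
theorem exists_phi_of_fix {g : Matrix.GeneralLinearGroup I3 F}
    (hg : g ∈ Cfsg.isometryGroup F (Cfsg.quadFormOdd 1 F))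
    (h1 : g (.inl ()) (.inr (.inl 0)) = 0) (h2 : g (.inr (.inl 0)) (.inr (.inl 0)) = 1)
    (h3 : g (.inr (.inr 0)) (.inr (.inl 0)) = 0) :
    ∃ k : Matrix.GeneralLinearGroup (Fin 2) F, g = phi k ∨ g = -phi k := by
  rw [mem_isometryGroup_iff] at hg
  have hM := eq_mk (g : Matrix I3 I3 F)
  rw [h1, h2, h3] at hM
  rw [hM] at hg
  obtain ⟨e20, e22, e00, e12, e10⟩ := mk_isometry_fix hg
  rw [e20, e22, e12, e10] at hM
  generalize g (.inl ()) (.inl ()) = m at *
  generalize g (.inl ()) (.inr (.inr 0)) = t at *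
  have e01 : (m - 1) * (m + 1) = 0 := by linear_combination e00
  rcases mul_eq_zero.1 e01 with hm | hm
  · have hm1 : m = 1 := by linear_combination hm
    subst hm1
    refine ⟨gl 1 t 0 1 (by simp), Or.inl ?_⟩
    apply Units.ext
    rw [phi_gl 1 t 0 1 (by simp) 1 (by ring), hM]
    congr 1 <;> ring
  · have hm1 : m = -1 := by linear_combination hm
    subst hm1
    refine ⟨gl 1 (-t) 0 (-1) (by simp), Or.inr ?_⟩
    apply Units.ext
    rw [Units.val_neg, phi_gl 1 (-t) 0 (-1) (by simp) (-1) (by ring), hM, mk_neg]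
    congr 1 <;> ring

/-- the isometry group is `± phi(GL₂)` -/
theorem exists_phi {g : Matrix.GeneralLinearGroup I3 F}
    (hg : g ∈ Cfsg.isometryGroup F (Cfsg.quadFormOdd 1 F)) :
    ∃ k : Matrix.GeneralLinearGroup (Fin 2) F, g = phi k ∨ g = -phi k := by
  -- first move the second basis vector
  obtain ⟨k, hk⟩ : ∃ k : Matrix.GeneralLinearGroup (Fin 2) F,
      ((phi k : Matrix.GeneralLinearGroup I3 F) : Matrix I3 I3 F) *ᵥ vec 0 1 0 =
      (g : Matrix I3 I3 F) *ᵥ vec 0 1 0 := by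
    have hiso := (mem_isometryGroup_iff _ _).1 hg (vec 0 1 0)
    have hne : (g : Matrix I3 I3 F) *ᵥ vec 0 1 0 ≠ 0 := by
      intro h0
      have h1 : ((g⁻¹ : Matrix.GeneralLinearGroup I3 F) : Matrix I3 I3 F) *ᵥ
          ((g : Matrix I3 I3 F) *ᵥ vec 0 1 0) = 0 := by
        rw [h0, Matrix.mulVec_zero]
      rw [Matrix.mulVec_mulVec, ← Units.val_mul, inv_mul_cancel, Units.val_one,
        Matrix.one_mulVec] at h1
      have h2 := congrFun h1 (.inr (.inl 0))
      exact one_ne_zero h2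
    rw [eq_vec ((g : Matrix I3 I3 F) *ᵥ vec 0 1 0)] at hiso hne ⊢
    generalize ((g : Matrix I3 I3 F) *ᵥ vec 0 1 0) (.inl ()) = x at *
    generalize ((g : Matrix I3 I3 F) *ᵥ vec 0 1 0) (.inr (.inl 0)) = y at *
    generalize ((g : Matrix I3 I3 F) *ᵥ vec 0 1 0) (.inr (.inr 0)) = z at *
    rw [quadForm_vec, quadForm_vec] at hiso
    by_cases hy : y = 0
    · subst hy
      have hx : x = 0 := by
        have : x ^ 2 = 0 := by linear_combination hiso
        exact pow_eq_zero_iff (two_ne_zero) |>.1 this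
      subst hx
      have hz : z ≠ 0 := by
        rintro rfl
        apply hne
        ext i
        rcases i with i | i | i <;> rfl
      refine ⟨gl 0 1 z 0 (by simpa using hz), ?_⟩
      rw [phi_gl 0 1 z 0 (by simpa using hz) (-z⁻¹) (by field_simp; ring), mk_mulVec]
      congr 1
      · ring
      · ring
      · field_simp
        ring
    · refine ⟨gl y 0 (-x) 1 (by simpa using hy), ?_⟩
      rw [phi_gl y 0 (-x) 1 (by simpa using hy) (y⁻¹) (by field_simp; ring), mk_mulVec]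
      congr 1
      · field_simp
        ring
      · field_simp
        ring
      · field_simp
        linear_combination -hiso
  have hg' : (phi k)⁻¹ * g ∈ Cfsg.isometryGroup F (Cfsg.quadFormOdd 1 F) :=
    mul_mem (inv_mem (phi_mem k)) hg
  have hfix : (((phi k)⁻¹ * g : Matrix.GeneralLinearGroup I3 F) : Matrix I3 I3 F) *ᵥ vec 0 1 0 =
      vec 0 1 0 := by
    rw [Units.val_mul, ← Matrix.mulVec_mulVec, ← hk, Matrix.mulVec_mulVec, ← Units.val_mul,
      inv_mul_cancel, Units.val_one, Matrix.one_mulVec]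
  have hfix2 : ∀ i, ((phi k)⁻¹ * g : Matrix.GeneralLinearGroup I3 F) i (.inr (.inl 0)) =
      vec (0 : F) 1 0 i := by
    intro i
    rw [← hfix, eq_mk (((phi k)⁻¹ * g : Matrix.GeneralLinearGroup I3 F) : Matrix I3 I3 F),
      mk_mulVec]
    rcases i with i | i | i <;> simp [vec, mk]
  obtain ⟨l, hl⟩ := exists_phi_of_fix hg' (hfix2 _) (hfix2 _) (hfix2 _)
  refine ⟨k * l, ?_⟩
  rcases hl with hl | hl
  · left
    rw [map_mul, ← hl, mul_inv_cancel_left]
  · right
    rw [map_mul, ← mul_neg, ← hl, mul_inv_cancel_left]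

end Cfsg.Agent.LieClassical.OrthThree
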