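import Cfsg.Agent.LieClassical.OrthThree

/-!
`Ω₃(q)` for the form `x₀² + x y` is the image of `SL₂` under the adjoint representation, it has
trivial centre, and `PΩ₃ ≅ PSL₂` (over any field with more than two elements and characteristic
not two).
-/

set_option autoImplicit false

namespace Cfsg.Agent.LieClassical.OrthThreeOmega

open Matrix
open scoped commutatorElement
open Cfsg.Agent.LieClassical.OrthThree

variable {F : Type*} [Field F]

theorem scalar_of_phi_eq_one {k : Matrix.GeneralLinearGroup (Fin 2) F} (h : phi k = 1) :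
    k 0 1 = 0 ∧ k 1 0 = 0 ∧ k 0 0 = k 1 1 := by
  have h1 : phiMat k = 1 := by
    rw [← phi_coe, h, Units.val_one]
  rw [phiMat_eq k _ _ _ _ _ rfl rfl rfl rfl rfl] at h1
  have hD := det_inv_mul k
  generalize (((Matrix.GeneralLinearGroup.det k)⁻¹ : Fˣ) : F) = D at *
  generalize k 0 0 = a at *
  generalize k 0 1 = b at *
  generalize k 1 0 = c at *
  generalize k 1 1 = d at *
  have hD0 : D ≠ 0 := left_ne_zero_of_mul_eq_one hD
  have e12 : D * (-b ^ 2) = 0 := congrFun (congrFun h1 (.inr (.inl 0))) (.inr (.inr 0))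
  have e21 : D * (-c ^ 2) = 0 := congrFun (congrFun h1 (.inr (.inr 0))) (.inr (.inl 0))
  have e11 : D * (a ^ 2) = 1 := congrFun (congrFun h1 (.inr (.inl 0))) (.inr (.inl 0))
  have hb : b = 0 := by
    have := (mul_eq_zero.1 e12).resolve_left hD0
    exact pow_eq_zero_iff two_ne_zero |>.1 (neg_eq_zero.1 this)
  have hc : c = 0 := by
    have := (mul_eq_zero.1 e21).resolve_left hD0
    exact pow_eq_zero_iff two_ne_zero |>.1 (neg_eq_zero.1 this)
  subst hb hc
  refine ⟨rfl, rfl, ?_⟩
  have ha0 : a ≠ 0 := by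
    rintro rfl
    simp at e11
  have e : D * a * (a - d) = 0 := by linear_combination e11 - hD
  exact sub_eq_zero.1 ((mul_eq_zero.1 e).resolve_left (mul_ne_zero hD0 ha0))

/-- `SL₂ → O₃` -/
noncomputable def psi : Matrix.SpecialLinearGroup (Fin 2) F →*
    Cfsg.isometryGroup F (Cfsg.quadFormOdd 1 F) :=
  (phi.comp Matrix.SpecialLinearGroup.toGL).codRestrict _ (fun _ => phi_mem _)

theorem psi_coe (s : Matrix.SpecialLinearGroup (Fin 2) F) :
    ((psi s : Cfsg.isometryGroup F (Cfsg.quadFormOdd 1 F)) : Matrix.GeneralLinearGroup I3 F) =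
      phi (Matrix.SpecialLinearGroup.toGL s) := rfl

/-- elements of `SL₂` whose images commute, one of nonzero trace, commute -/
theorem comm_of_psi_comm {s t : Matrix.SpecialLinearGroup (Fin 2) F}
    (h : psi s * psi t = psi t * psi s) (ht : (t : Matrix (Fin 2) (Fin 2) F).trace ≠ 0) :
    s * t = t * s := by
  have h1 : phi (Matrix.SpecialLinearGroup.toGL (s * t * s⁻¹ * t⁻¹)) = 1 := by
    rw [← psi_coe]
    have : psi (s * t * s⁻¹ * t⁻¹) = 1 := by
      rw [map_mul, map_mul, map_mul, h, map_inv, map_inv]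
      group
    rw [this]
    rfl
  obtain ⟨e01, e10, e00⟩ := scalar_of_phi_eq_one h1
  set k : Matrix.SpecialLinearGroup (Fin 2) F := s * t * s⁻¹ * t⁻¹ with hk
  change k.1 0 1 = 0 at e01
  change k.1 1 0 = 0 at e10
  change k.1 0 0 = k.1 1 1 at e00
  have hk2 : k * t = s * t * s⁻¹ := by
    rw [hk]
    group
  have htr : (((k * t : Matrix.SpecialLinearGroup (Fin 2) F)) : Matrix (Fin 2) (Fin 2) F).trace =
      (t : Matrix (Fin 2) (Fin 2) F).trace := by
    rw [hk2, Matrix.SpecialLinearGroup.coe_mul, Matrix.trace_mul_comm,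
      ← Matrix.SpecialLinearGroup.coe_mul, inv_mul_cancel_left]
  have hkt : (((k * t : Matrix.SpecialLinearGroup (Fin 2) F)) : Matrix (Fin 2) (Fin 2) F).trace =
      k.1 0 0 * (t : Matrix (Fin 2) (Fin 2) F).trace := by
    rw [Matrix.SpecialLinearGroup.coe_mul, Matrix.trace_fin_two, Matrix.trace_fin_two,
      Matrix.mul_apply, Matrix.mul_apply, Fin.sum_univ_two, Fin.sum_univ_two]
    rw [e01, e10, ← e00]
    ring
  have hr : k.1 0 0 = 1 := by
    have : (k.1 0 0 - 1) * (t : Matrix (Fin 2) (Fin 2) F).trace = 0 := by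
      linear_combination htr - hkt
    exact sub_eq_zero.1 ((mul_eq_zero.1 this).resolve_right ht)
  have hk1 : k = 1 := by
    apply Subtype.ext
    ext i j
    fin_cases i <;> fin_cases j
    · simpa using hr
    · simpa using e01
    · simpa using e10
    · simpa [← e00] using hr
  rw [hk] at hk1
  have h3 : s * t * s⁻¹ = t := by
    rw [mul_inv_eq_one] at hk1
    exact hk1
  rw [mul_inv_eq_iff_eq_mul] at h3
  exact h3

theorem trace_transvection {i j : Fin 2} (hij : i ≠ j) (c : F) :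
    ((Matrix.SpecialLinearGroup.transvection hij c : Matrix.SpecialLinearGroup (Fin 2) F) :
      Matrix (Fin 2) (Fin 2) F).trace = 2 := by
  change ((1 : Matrix (Fin 2) (Fin 2) F) + single i j c).trace = 2
  rw [Matrix.trace_add, Matrix.trace_one, Matrix.trace_single_eq_of_ne _ _ _ hij]
  simp

/-- the only elements of `SL₂` with central image are central -/
theorem mem_center_of_psi_comm (h2 : (2 : F) ≠ 0) {s : Matrix.SpecialLinearGroup (Fin 2) F}
    (h : ∀ t, psi s * psi t = psi t * psi s) :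
    s ∈ Subgroup.center (Matrix.SpecialLinearGroup (Fin 2) F) := by
  rw [Subgroup.mem_center_iff]
  intro t
  have hcl : t ∈ Subgroup.closure (SLGen.transvections (Fin 2) F) := by
    rw [SLGen.closure_transvections]
    exact Subgroup.mem_top t
  have hle : Subgroup.closure (SLGen.transvections (Fin 2) F) ≤ Subgroup.centralizer {s} := by
    rw [Subgroup.closure_le]
    rintro _ ⟨i, j, hij, c, rfl⟩
    rw [SetLike.mem_coe, Subgroup.mem_centralizer_singleton_iff]
    refine (comm_of_psi_comm (h _) ?_).symm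
    rw [trace_transvection]
    exact h2
  exact Subgroup.mem_centralizer_singleton_iff.1 (hle hcl)

/-- a transvection of `SL₂` is a commutator in `GL₂` -/
theorem transvection_eq_commutator {a : F} (ha0 : a ≠ 0) (ha1 : a ≠ 1) {i j : Fin 2}
    (hij : i ≠ j) (c : F) : ∃ x y : Matrix.GeneralLinearGroup (Fin 2) F,
      Matrix.SpecialLinearGroup.toGL (Matrix.SpecialLinearGroup.transvection hij c) = ⁅x, y⁆ := by
  have ha1' : a - 1 ≠ 0 := sub_ne_zero.2 ha1
  have key : ∀ x y z : Matrix.GeneralLinearGroup (Fin 2) F, z * y * x = x * y → z = ⁅x, y⁆ := by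
    intro x y z h
    rw [commutatorElement_def, ← h]
    group
  fin_cases i <;> fin_cases j
  · exact absurd rfl hij
  · refine ⟨gl a 0 0 1 (by simpa using ha0), gl 1 (c / (a - 1)) 0 1 (by simp), key _ _ _ ?_⟩
    apply Units.ext
    change (((1 : Matrix (Fin 2) (Fin 2) F) + single 0 1 c) * !![1, c / (a - 1); 0, 1]) *
      !![a, 0; 0, 1] = !![a, 0; 0, 1] * !![1, c / (a - 1); 0, 1]
    have : (1 : Matrix (Fin 2) (Fin 2) F) + single 0 1 c = !![1, c; 0, 1] := by
      ext i j
      fin_cases i <;> fin_cases j <;> simp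
    rw [this]
    ext i j
    fin_cases i <;> fin_cases j <;> simp [Matrix.mul_apply, Fin.sum_univ_two]
    field_simp
    ring
  · refine ⟨gl 1 0 0 a (by simpa using ha0), gl 1 0 (c / (a - 1)) 1 (by simp), key _ _ _ ?_⟩
    apply Units.ext
    change (((1 : Matrix (Fin 2) (Fin 2) F) + single 1 0 c) * !![1, 0; c / (a - 1), 1]) *
      !![1, 0; 0, a] = !![1, 0; 0, a] * !![1, 0; c / (a - 1), 1]
    have : (1 : Matrix (Fin 2) (Fin 2) F) + single 1 0 c = !![1, 0; c, 1] := by
      ext i j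
      fin_cases i <;> fin_cases j <;> simp
    rw [this]
    ext i j
    fin_cases i <;> fin_cases j <;> simp [Matrix.mul_apply, Fin.sum_univ_two]
    field_simp
    ring
  · exact absurd rfl hij

/-- `GL₂ → O₃` -/
noncomputable def phi' : Matrix.GeneralLinearGroup (Fin 2) F →*
    Cfsg.isometryGroup F (Cfsg.quadFormOdd 1 F) :=
  phi.codRestrict _ (fun _ => phi_mem _)

theorem phi'_coe (s : Matrix.GeneralLinearGroup (Fin 2) F) :
    ((phi' s : Cfsg.isometryGroup F (Cfsg.quadFormOdd 1 F)) : Matrix.GeneralLinearGroup I3 F) =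
      phi s := rfl

theorem psi_eq (s : Matrix.SpecialLinearGroup (Fin 2) F) :
    psi s = phi' (Matrix.SpecialLinearGroup.toGL s) := rfl

theorem commutator_central_left {G : Type*} [Group G] {e : G} (he : ∀ z, e * z = z * e)
    (x y : G) : ⁅e * x, y⁆ = ⁅x, y⁆ := by
  have h1 : e * x * y * (e * x)⁻¹ = x * y * x⁻¹ := by
    rw [_root_.mul_inv_rev, mul_assoc e, mul_assoc e, he (x * y * (x⁻¹ * e⁻¹))]
    group
  rw [commutatorElement_def, commutatorElement_def, h1]

/-- `Ω₃` is the image of `SL₂` -/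
theorem range_psi (hF : ∃ a : F, a ≠ 0 ∧ a ≠ 1) :
    (psi (F := F)).range = Cfsg.Omega F (Cfsg.quadFormOdd 1 F) := by
  obtain ⟨a, ha0, ha1⟩ := hF
  apply le_antisymm
  · rw [MonoidHom.range_eq_map, ← SLGen.closure_transvections, Subgroup.map_le_iff_le_comap,
      Subgroup.closure_le]
    rintro _ ⟨i, j, hij, c, rfl⟩
    rw [SetLike.mem_coe, Subgroup.mem_comap, psi_eq]
    obtain ⟨x, y, hxy⟩ := transvection_eq_commutator ha0 ha1 hij c
    rw [hxy, map_commutatorElement]
    exact Subgroup.commutator_mem_commutator (Subgroup.mem_top _) (Subgroup.mem_top _)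
  · change commutator (Cfsg.isometryGroup F (Cfsg.quadFormOdd 1 F)) ≤ _
    rw [commutator_def, Subgroup.commutator_le]
    rintro x - y -
    obtain ⟨g, hg⟩ := exists_phi x.2
    obtain ⟨h, hh⟩ := exists_phi y.2
    have hx : ∃ e : Matrix.GeneralLinearGroup I3 F, (∀ z, e * z = z * e) ∧ x.1 = e * phi g := by
      rcases hg with hg | hg
      · exact ⟨1, fun z => by rw [one_mul, mul_one], by rw [hg, one_mul]⟩
      · exact ⟨-1, fun z => by rw [neg_one_mul, mul_neg_one], by rw [hg, neg_one_mul]⟩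
    have hy : ∃ e : Matrix.GeneralLinearGroup I3 F, (∀ z, e * z = z * e) ∧ y.1 = e * phi h := by
      rcases hh with hg | hg
      · exact ⟨1, fun z => by rw [one_mul, mul_one], by rw [hg, one_mul]⟩
      · exact ⟨-1, fun z => by rw [neg_one_mul, mul_neg_one], by rw [hg, neg_one_mul]⟩
    obtain ⟨e, he, hx⟩ := hx
    obtain ⟨f, hf, hy⟩ := hy
    have hdet : (⁅g, h⁆ : Matrix.GeneralLinearGroup (Fin 2) F).1.det = 1 := by
      have : Matrix.GeneralLinearGroup.det ⁅g, h⁆ = 1 := by
        rw [map_commutatorElement, commutatorElement_eq_one_iff_mul_comm, mul_comm]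
      rw [← Matrix.GeneralLinearGroup.val_det_apply, this, Units.val_one]
    obtain ⟨s, h1⟩ : ∃ s : Matrix.SpecialLinearGroup (Fin 2) F,
        Matrix.SpecialLinearGroup.toGL s = ⁅g, h⁆ :=
      ⟨⟨(⁅g, h⁆ : Matrix.GeneralLinearGroup (Fin 2) F).1, hdet⟩, Units.ext rfl⟩
    refine ⟨s, ?_⟩
    apply Subtype.ext
    rw [psi_coe]
    rw [h1, map_commutatorElement]
    change ⁅phi g, phi h⁆ = ⁅x.1, y.1⁆
    rw [hx, hy, commutator_central_left he, ← commutatorElement_inv (f * phi h),
      commutator_central_left hf, commutatorElement_inv]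

/-- the surjection `SL₂ → Ω₃` -/
noncomputable def psiOmega (hF : ∃ a : F, a ≠ 0 ∧ a ≠ 1) : Matrix.SpecialLinearGroup (Fin 2) F →*
    Cfsg.Omega F (Cfsg.quadFormOdd 1 F) :=
  psi.codRestrict _ (fun g => by rw [← range_psi hF]; exact ⟨g, rfl⟩)

theorem psiOmega_coe (hF : ∃ a : F, a ≠ 0 ∧ a ≠ 1) (s : Matrix.SpecialLinearGroup (Fin 2) F) :
    ((psiOmega hF s : Cfsg.Omega F (Cfsg.quadFormOdd 1 F)) :
      Cfsg.isometryGroup F (Cfsg.quadFormOdd 1 F)) = psi s := rfl

theorem psiOmega_surjective (hF : ∃ a : F, a ≠ 0 ∧ a ≠ 1) :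
    Function.Surjective (psiOmega (F := F) hF) := by
  rintro ⟨x, hx⟩
  have hx' := hx
  rw [← range_psi hF] at hx'
  obtain ⟨s, hs⟩ := hx'
  exact ⟨s, Subtype.ext hs⟩

theorem ker_eq (hF : ∃ a : F, a ≠ 0 ∧ a ≠ 1) (h2 : (2 : F) ≠ 0) :
    ((QuotientGroup.mk' (Subgroup.center (Cfsg.Omega F (Cfsg.quadFormOdd 1 F)))).comp
      (psiOmega (F := F) hF)).ker = Subgroup.center (Matrix.SpecialLinearGroup (Fin 2) F) := by
  ext s
  rw [MonoidHom.mem_ker, MonoidHom.comp_apply, QuotientGroup.mk'_apply,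
    QuotientGroup.eq_one_iff]
  constructor
  · intro h
    apply mem_center_of_psi_comm h2
    intro t
    have := Subgroup.mem_center_iff.1 h (psiOmega hF t)
    have := congrArg Subtype.val this
    exact this.symm
  · intro h
    rw [Subgroup.mem_center_iff]
    intro x
    obtain ⟨t, rfl⟩ := psiOmega_surjective hF x
    rw [← map_mul, ← map_mul, Subgroup.mem_center_iff.1 h t]

/-- `PΩ₃ ≅ PSL₂` -/
theorem nonempty_equiv (hF : ∃ a : F, a ≠ 0 ∧ a ≠ 1) (h2 : (2 : F) ≠ 0) :
    Nonempty (Cfsg.POmega F (Cfsg.quadFormOdd 1 F) ≃*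
      Matrix.ProjectiveSpecialLinearGroup (Fin 2) F) := by
  have e1 := QuotientGroup.quotientKerEquivOfSurjective
    ((QuotientGroup.mk' (Subgroup.center (Cfsg.Omega F (Cfsg.quadFormOdd 1 F)))).comp
      (psiOmega (F := F) hF))
    ((QuotientGroup.mk'_surjective _).comp (psiOmega_surjective hF))
  exact ⟨e1.symm.trans (QuotientGroup.quotientMulEquivOfEq (ker_eq hF h2))⟩

end Cfsg.Agent.LieClassical.OrthThreeOmega
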