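import Mathlib

/-!
An explicit homomorphism `SL_2(7) → SL_3(2)` with kernel `±1`.

The image of the matrix `(a, b; c, d)` is read off from a table, and the table is checked against
right multiplication by two generators.
-/

set_option autoImplicit false

namespace Cfsg.Agent.LieClassical.PSLTwoSevenTable

open Matrix

/-- The table: 9 bits for each element of `SL_2(7)`, up to the redundant entry. -/
def table : ℕ :=
  0x18d3d377eea79554679d32abbf0cbab5de6a2a6efa3851f77b4a51bdfd2548f5ca1dd955e94f8d7561eae3ddd3b5a16e2ce7cefc6f46c4799533327e6af9d54aabecc3ae4d73e6c54f4bdd474adec6568eeea96a778fb0b8efb14fba2b3c6d9ba78c754e56a5f5776a1f746a9ef43793523226e6cffd7328ef945ef8e535a969dbc8c95fd6f270fd0dd15cd5ed1f973933ab32bf2af2669c315479baf7f59f173a2ef59d8b1d7f36a2624e4cdfde595d659c72cbaf2f79a8a9bbe8e147facaf19de5394af272df22ff247664d79f7344d186abcfd5d9d62eceb176758ad672eac674ecc5f59f467d62779731af153d2f751d2b7b16ee9ea17a7b8ab1ae726756657e55e67ccd53e66a9f33547b6add21fda57685ada7eedc4f4ac859f34aabecc3ae4d72a7a5eea3a56f63d0ad1ddd52d4ef1f65de15de54e8cfad72b52fd9ba78c754469befdf3ce38a231a7a6efdd4f2aa86acfa33eb13bcb98cbce7e266afab991ae2f99be239cbf23cb4eeb0cefaab4c4ab4ff76ede91a508000000000000000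

/-- The code of the image of `(a, b; c, d)`. -/
def code (a b c d : ZMod 7) : ℕ :=
  if c = 0 then table >>> (9 * (a.val * 49 + b.val)) % 512
  else table >>> (9 * (a.val * 49 + c.val * 7 + d.val)) % 512

/-- The matrix with a given code. -/
def dec (k : ℕ) : Matrix (Fin 3) (Fin 3) (ZMod 2) :=
  !![((k % 2 : ℕ) : ZMod 2), ((k / 2 % 2 : ℕ) : ZMod 2), ((k / 4 % 2 : ℕ) : ZMod 2);
     ((k / 8 % 2 : ℕ) : ZMod 2), ((k / 16 % 2 : ℕ) : ZMod 2), ((k / 32 % 2 : ℕ) : ZMod 2);
     ((k / 64 % 2 : ℕ) : ZMod 2), ((k / 128 % 2 : ℕ) : ZMod 2), ((k / 256 % 2 : ℕ) : ZMod 2)]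

/-- The image of the generator `(1, 1; 0, 1)`. -/
def imU : Matrix (Fin 3) (Fin 3) (ZMod 2) := !![0, 1, 0; 0, 0, 1; 1, 1, 0]

/-- The image of the generator `(0, -1; 1, 0)`. -/
def imS : Matrix (Fin 3) (Fin 3) (ZMod 2) := !![1, 0, 0; 0, 0, 1; 0, 1, 0]

set_option maxRecDepth 100000 in
theorem code_mul_U : ∀ a b c d : ZMod 7, a * d - b * c = 1 →
    dec (code a (a + b) c (c + d)) = dec (code a b c d) * imU := by
  decide +kernel

set_option maxRecDepth 100000 in
theorem code_mul_S : ∀ a b c d : ZMod 7, a * d - b * c = 1 →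
    dec (code b (-a) d (-c)) = dec (code a b c d) * imS := by
  decide +kernel

set_option maxRecDepth 100000 in
theorem code_eq_one : ∀ a b c d : ZMod 7, a * d - b * c = 1 →
    dec (code a b c d) = 1 → b = 0 ∧ c = 0 ∧ a = d := by
  decide +kernel

set_option maxRecDepth 100000 in
theorem code_one : dec (code 1 0 0 1) = 1 := by
  decide +kernel

set_option maxRecDepth 100000 in
theorem code_scalar : ∀ a : ZMod 7, a * a = 1 → dec (code a 0 0 a) = 1 := by
  decide +kernel

end Cfsg.Agent.LieClassical.PSLTwoSevenTable
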