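import Mathlib
import Cfsg.Agent.LieClassical.PSLTwoSevenTable

/-!
The homomorphism `SL_2(7) → SL_3(2)` with kernel `±1`, and the embedding of `PSL_2(7)` in `PSL_3(2)`
that it gives, over any fields of orders 7 and 2.
-/

set_option autoImplicit false

namespace Cfsg.Agent.LieClassical.PSLTwoSeven

open Matrix Cfsg.Agent.LieClassical.PSLTwoSevenTable

local notation "SL₂" => Matrix.SpecialLinearGroup (Fin 2) (ZMod 7)

theorem fact7 : Fact (Nat.Prime 7) := ⟨by norm_num⟩
theorem fact2 : Fact (Nat.Prime 2) := ⟨by norm_num⟩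

theorem pow_three_eq_one : ∀ x : ZMod 2, x ^ 3 = 1 → x = 1 := by decide

/-- The homomorphism as a function. -/
def f (g : SL₂) : Matrix (Fin 3) (Fin 3) (ZMod 2) := dec (code (g 0 0) (g 0 1) (g 1 0) (g 1 1))

theorem f_def (g : SL₂) : f g = dec (code (g 0 0) (g 0 1) (g 1 0) (g 1 1)) := rfl

/-- The generator `(1, 1; 0, 1)`. -/
def genU : SL₂ := ⟨!![1, 1; 0, 1], by simp [Matrix.det_fin_two]⟩

/-- The generator `(0, -1; 1, 0)`. -/
def genS : SL₂ := ⟨!![0, -1; 1, 0], by simp [Matrix.det_fin_two]⟩

theorem coe_genU : (genU : Matrix (Fin 2) (Fin 2) (ZMod 7)) = !![1, 1; 0, 1] := rfl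

theorem coe_genS : (genS : Matrix (Fin 2) (Fin 2) (ZMod 7)) = !![0, -1; 1, 0] := rfl

theorem det_eq (g : SL₂) : g 0 0 * g 1 1 - g 0 1 * g 1 0 = 1 := by
  have := g.2
  rw [Matrix.det_fin_two] at this
  exact this

theorem f_mul_genU (g : SL₂) : f (g * genU) = f g * imU := by
  have h := code_mul_U _ _ _ _ (det_eq g)
  rw [f_def, f_def, ← h]
  simp [coe_genU, Matrix.SpecialLinearGroup.coe_mul, Matrix.mul_apply, Fin.sum_univ_two]

theorem f_mul_genS (g : SL₂) : f (g * genS) = f g * imS := by
  have h := code_mul_S _ _ _ _ (det_eq g)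
  rw [f_def, f_def, ← h]
  simp [coe_genS, Matrix.SpecialLinearGroup.coe_mul, Matrix.mul_apply, Fin.sum_univ_two]

theorem f_one : f 1 = 1 := by
  rw [f_def]
  simpa using code_one

/-- The subgroup of elements on which `f` is multiplicative. -/
def good : Subgroup SL₂ where
  carrier := {h | ∀ g, f (g * h) = f g * f h}
  one_mem' := by
    intro g
    rw [mul_one, f_one, mul_one]
  mul_mem' := by
    intro h k hh hk g
    rw [← mul_assoc, hk, hh, hk, mul_assoc]
  inv_mem' := by
    intro h hh g
    have h1 : f h⁻¹ * f h = 1 := by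
      rw [← hh, inv_mul_cancel, f_one]
    have h2 : f h * f h⁻¹ = 1 := mul_eq_one_comm.mp h1
    calc f (g * h⁻¹) = f (g * h⁻¹) * (f h * f h⁻¹) := by rw [h2, mul_one]
      _ = f (g * h⁻¹ * h) * f h⁻¹ := by rw [hh, mul_assoc]
      _ = f g * f h⁻¹ := by rw [inv_mul_cancel_right]

theorem mem_good {h : SL₂} : h ∈ good ↔ ∀ g, f (g * h) = f g * f h := Iff.rfl

theorem genU_mem : genU ∈ good := by
  have h : f genU = imU := by
    have := f_mul_genU 1
    rwa [one_mul, f_one, one_mul] at this
  intro g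
  rw [f_mul_genU, h]

theorem genS_mem : genS ∈ good := by
  have h : f genS = imS := by
    have := f_mul_genS 1
    rwa [one_mul, f_one, one_mul] at this
  intro g
  rw [f_mul_genS, h]

/-- Upper unitriangular matrices. -/
def up (x : ZMod 7) : SL₂ := ⟨!![1, x; 0, 1], by simp [Matrix.det_fin_two]⟩

/-- Lower unitriangular matrices. -/
def low (x : ZMod 7) : SL₂ := ⟨!![1, 0; x, 1], by simp [Matrix.det_fin_two]⟩

theorem coe_up (x : ZMod 7) : (up x : Matrix (Fin 2) (Fin 2) (ZMod 7)) = !![1, x; 0, 1] := rfl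

theorem coe_low (x : ZMod 7) : (low x : Matrix (Fin 2) (Fin 2) (ZMod 7)) = !![1, 0; x, 1] := rfl

theorem genU_pow (n : ℕ) : genU ^ n = up n := by
  induction n with
  | zero =>
    ext i j
    fin_cases i <;> fin_cases j <;> simp [coe_up]
  | succ n ih =>
    rw [pow_succ, ih]
    ext i j
    fin_cases i <;> fin_cases j <;>
      simp [coe_up, coe_genU, Matrix.SpecialLinearGroup.coe_mul, Matrix.mul_apply, Fin.sum_univ_two, add_comm]

theorem up_mem (x : ZMod 7) : up x ∈ good := by
  have := fact7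
  have : up x = genU ^ x.val := by rw [genU_pow, ZMod.natCast_zmod_val]
  rw [this]
  exact pow_mem genU_mem _

theorem low_mem (x : ZMod 7) : low x ∈ good := by
  have : low x * genS = genS * up (-x) := by
    ext i j
    fin_cases i <;> fin_cases j <;> simp [coe_up, coe_low, coe_genS, Matrix.SpecialLinearGroup.coe_mul, Matrix.mul_apply, Fin.sum_univ_two]
  have h2 : low x = genS * up (-x) * genS⁻¹ := by rw [← this, mul_inv_cancel_right]
  rw [h2]
  exact mul_mem (mul_mem genS_mem (up_mem _)) (inv_mem genS_mem)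

theorem mem_of_ne_zero (g : SL₂) (hg : g 1 0 ≠ 0) : g ∈ good := by
  have := fact7
  have hd := det_eq g
  have : g = up ((g 0 0 - 1) / g 1 0) * low (g 1 0) * up ((g 1 1 - 1) / g 1 0) := by
    ext i j
    fin_cases i <;> fin_cases j
    · simp [coe_up, coe_low, Matrix.SpecialLinearGroup.coe_mul, Matrix.mul_apply, Fin.sum_univ_two]
      field_simp
      ring
    · simp [coe_up, coe_low, Matrix.SpecialLinearGroup.coe_mul, Matrix.mul_apply, Fin.sum_univ_two]
      field_simp
      linear_combination (-1 : ZMod 7) * hd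
    · simp [coe_up, coe_low, Matrix.SpecialLinearGroup.coe_mul, Matrix.mul_apply, Fin.sum_univ_two]
    · simp [coe_up, coe_low, Matrix.SpecialLinearGroup.coe_mul, Matrix.mul_apply, Fin.sum_univ_two]
      field_simp
      ring
  rw [this]
  exact mul_mem (mul_mem (up_mem _) (low_mem _)) (up_mem _)

theorem mem_good_all (g : SL₂) : g ∈ good := by
  have := fact7
  by_cases hg : g 1 0 = 0
  · have hd := det_eq g
    have h2 : (g * genS) 1 0 ≠ 0 := by
      have : (g * genS) 1 0 = g 1 1 := by
        simp [coe_genS, Matrix.SpecialLinearGroup.coe_mul, Matrix.mul_apply, Fin.sum_univ_two]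
      rw [this]
      intro h
      rw [hg, h] at hd
      simp at hd
    have h3 := mem_of_ne_zero _ h2
    have h4 : g = g * genS * genS⁻¹ := by rw [mul_inv_cancel_right]
    rw [h4]
    exact mul_mem h3 (inv_mem genS_mem)
  · exact mem_of_ne_zero g hg

/-- `f` as a homomorphism to the monoid of matrices. -/
def fHom : SL₂ →* Matrix (Fin 3) (Fin 3) (ZMod 2) where
  toFun := f
  map_one' := f_one
  map_mul' g h := mem_good_all h g

theorem fHom_apply (g : SL₂) : fHom g = f g := rfl

theorem det_fHom (g : SL₂) : (fHom g).det = 1 := by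
  have h1 : fHom g * fHom g⁻¹ = 1 := by rw [← map_mul, mul_inv_cancel, map_one]
  have h2 : (fHom g).det * (fHom g⁻¹).det = 1 := by rw [← Matrix.det_mul, h1, Matrix.det_one]
  generalize (fHom g).det = x at h2 ⊢
  generalize (fHom g⁻¹).det = y at h2
  revert x y
  decide

/-- The homomorphism `SL_2(7) → SL_3(2)`. -/
def phi : SL₂ →* Matrix.SpecialLinearGroup (Fin 3) (ZMod 2) where
  toFun g := ⟨fHom g, det_fHom g⟩
  map_one' := by
    ext i j
    simp
  map_mul' g h := by
    exact Subtype.ext (map_mul fHom g h)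

theorem coe_phi (g : SL₂) : (phi g : Matrix (Fin 3) (Fin 3) (ZMod 2)) = f g := rfl

theorem phi_eq_one {g : SL₂} (h : phi g = 1) : g 0 1 = 0 ∧ g 1 0 = 0 ∧ g 0 0 = g 1 1 := by
  have h1 : f g = 1 := by rw [← coe_phi, h]; rfl
  exact code_eq_one _ _ _ _ (det_eq g) h1

theorem phi_eq_one_of {g : SL₂} (h1 : g 0 1 = 0) (h2 : g 1 0 = 0) (h3 : g 0 0 = g 1 1) :
    phi g = 1 := by
  have hd := det_eq g
  rw [h1, h2, ← h3] at hd
  have h4 : f g = 1 := by
    rw [f_def, h1, h2, ← h3]
    exact code_scalar _ (by simpa using hd)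
  apply Subtype.ext
  rw [← coe_phi] at h4
  exact h4

/-- An isomorphism of rings gives an embedding of `PSL_2(F)` in `PSL_3(K)`, for `|F| = 7`, `|K| = 2`. -/
theorem exists_injective {F K : Type*} [Field F] [Fintype F] [Field K] [Fintype K]
    (hF : Fintype.card F = 7) (hK : Fintype.card K = 2) :
    ∃ f : Matrix.ProjectiveSpecialLinearGroup (Fin 2) F →*
      Matrix.ProjectiveSpecialLinearGroup (Fin 3) K, Function.Injective f := by
  have := fact7
  have := fact2
  let e : ZMod 7 ≃+* F := ZMod.ringEquivOfPrime F (by norm_num) hF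
  let d : ZMod 2 ≃+* K := ZMod.ringEquivOfPrime K (by norm_num) hK
  let Phi : Matrix.SpecialLinearGroup (Fin 2) F →* Matrix.SpecialLinearGroup (Fin 3) K :=
    (Matrix.SpecialLinearGroup.map (d : ZMod 2 →+* K)).comp
      (phi.comp (Matrix.SpecialLinearGroup.map (e.symm : F →+* ZMod 7)))
  have hPhi : ∀ g, Phi g = Matrix.SpecialLinearGroup.map (d : ZMod 2 →+* K)
      (phi (Matrix.SpecialLinearGroup.map (e.symm : F →+* ZMod 7) g)) := fun _ => rfl
  have hcen : ∀ g : Matrix.SpecialLinearGroup (Fin 2) F,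
      g ∈ Subgroup.center (Matrix.SpecialLinearGroup (Fin 2) F) ↔
        g 0 1 = 0 ∧ g 1 0 = 0 ∧ g 0 0 = g 1 1 := by
    intro g
    rw [Matrix.SpecialLinearGroup.mem_center_iff]
    constructor
    · rintro ⟨r, -, hr⟩
      have : ∀ i j, g i j = (Matrix.scalar (Fin 2) r) i j := by
        intro i j; rw [hr]
      simp [this]
    · rintro ⟨h1, h2, h3⟩
      refine ⟨g 0 0, ?_, ?_⟩
      · have hd := g.2
        rw [Matrix.det_fin_two] at hd
        simp only [Fintype.card_fin]
        have : g 0 0 * g 1 1 - g 0 1 * g 1 0 = 1 := hd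
        rw [h1, h2, ← h3] at this
        rw [sq]
        simpa using this
      · ext i j
        fin_cases i <;> fin_cases j <;> simp [h1, h2, h3]
  have hmem : ∀ g : Matrix.SpecialLinearGroup (Fin 2) F,
      g ∈ Subgroup.center (Matrix.SpecialLinearGroup (Fin 2) F) ↔ Phi g = 1 := by
    intro g
    rw [hcen]
    constructor
    · rintro ⟨h1, h2, h3⟩
      rw [hPhi, phi_eq_one_of, map_one]
      · simp [h1]
      · simp [h2]
      · simp [h3]
    · intro h
      have h0 : phi (Matrix.SpecialLinearGroup.map (e.symm : F →+* ZMod 7) g) = 1 := by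
        have h5 := (hPhi g).symm.trans h
        apply Subtype.ext
        have h6 := congrArg (fun A : Matrix.SpecialLinearGroup (Fin 3) K =>
          (A : Matrix (Fin 3) (Fin 3) K)) h5
        simp only [Matrix.SpecialLinearGroup.map_apply_coe, Matrix.SpecialLinearGroup.coe_one] at h6
        rw [← map_one (RingHom.mapMatrix (d : ZMod 2 →+* K))] at h6
        exact Matrix.map_injective d.injective h6
      obtain ⟨h1, h2, h3⟩ := phi_eq_one h0
      simp only [Matrix.SpecialLinearGroup.map_apply_coe, RingHom.mapMatrix_apply,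
        Matrix.map_apply] at h1 h2 h3
      refine ⟨?_, ?_, ?_⟩
      · simpa using h1
      · simpa using h2
      · simpa using h3
  have hmem3 : ∀ g : Matrix.SpecialLinearGroup (Fin 3) K,
      g ∈ Subgroup.center (Matrix.SpecialLinearGroup (Fin 3) K) ↔ g = 1 := by
    intro g
    constructor
    · intro h
      obtain ⟨r, hr, hg⟩ := Matrix.SpecialLinearGroup.mem_center_iff.mp h
      have : r = 1 := by
        have h1 := d.symm.injective.eq_iff (a := r) (b := 1)
        rw [← h1, map_one]
        have h2 : (d.symm r) ^ 3 = 1 := by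
          rw [← map_pow]; simp only [Fintype.card_fin] at hr; rw [hr, map_one]
        exact pow_three_eq_one _ h2
      apply Subtype.ext
      rw [← hg, this]
      simp
    · rintro rfl
      exact one_mem _
  refine ⟨QuotientGroup.map _ _ Phi ?_, ?_⟩
  · intro g hg
    rw [Subgroup.mem_comap, (hmem g).mp hg]
    exact one_mem _
  · rw [← MonoidHom.ker_eq_bot_iff, eq_bot_iff]
    intro x hx
    obtain ⟨g, rfl⟩ := QuotientGroup.mk_surjective x
    rw [MonoidHom.mem_ker, QuotientGroup.map_mk, QuotientGroup.eq_one_iff, hmem3] at hx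
    rw [Subgroup.mem_bot, QuotientGroup.eq_one_iff, hmem]
    exact hx

end Cfsg.Agent.LieClassical.PSLTwoSeven
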