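import Mathlib.LinearAlgebra.Projectivization.PSL.PSL2
import Mathlib.Algebra.Field.ZMod
import Mathlib.Tactic

/-!
`SL 2` over the field with two elements is the symmetric group on three letters.
-/

set_option autoImplicit false
set_option linter.unusedSimpArgs false

namespace Cfsg.Agent.LieClassical.SLTwoTwo

open Matrix

/-- The three nonzero vectors. -/
def vec : Fin 3 → (Fin 2 → ZMod 2) := ![![0,1], ![1,0], ![1,1]]

/-- The index of a nonzero vector. -/
def code (v : Fin 2 → ZMod 2) : Fin 3 := if v 0 = 0 then 0 else if v 1 = 0 then 1 else 2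

/-- The action on nonzero vectors. -/
def act (A : Matrix (Fin 2) (Fin 2) (ZMod 2)) : Fin 3 → Fin 3 := fun i => code (A *ᵥ vec i)

theorem code_vec (i : Fin 3) : code (vec i) = i := by
  revert i; decide

theorem vec_code (v : Fin 2 → ZMod 2) (hv : v ≠ 0) : vec (code v) = v := by
  revert v; decide

theorem vec_ne_zero (i : Fin 3) : vec i ≠ 0 := by
  revert i; decide

theorem mulVec_ne_zero (A : SpecialLinearGroup (Fin 2) (ZMod 2)) (v : Fin 2 → ZMod 2)
    (hv : v ≠ 0) : (A : Matrix (Fin 2) (Fin 2) (ZMod 2)) *ᵥ v ≠ 0 := by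
  intro h
  apply hv
  have h0 : A • v = 0 := h
  have h1 : (A⁻¹ * A) • v = 0 := by
    rw [mul_smul, h0, smul_zero]
  rwa [inv_mul_cancel, one_smul] at h1

theorem act_mul (A B : SpecialLinearGroup (Fin 2) (ZMod 2)) (i : Fin 3) :
    act (A * B : SpecialLinearGroup (Fin 2) (ZMod 2)).1 i = act A.1 (act B.1 i) := by
  unfold act
  rw [vec_code _ (mulVec_ne_zero B _ (vec_ne_zero i)), Matrix.mulVec_mulVec]
  rfl

theorem act_one (i : Fin 3) : act (1 : Matrix (Fin 2) (Fin 2) (ZMod 2)) i = i := by
  unfold act
  rw [Matrix.one_mulVec, code_vec]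

/-- The homomorphism to the symmetric group. -/
def hom : SpecialLinearGroup (Fin 2) (ZMod 2) →* Equiv.Perm (Fin 3) where
  toFun A := 
    { toFun := act A.1
      invFun := act (A⁻¹).1
      left_inv := fun i => by
        rw [← act_mul, inv_mul_cancel]
        exact act_one i
      right_inv := fun i => by
        rw [← act_mul, mul_inv_cancel]
        exact act_one i }
  map_one' := Equiv.ext fun i => act_one i
  map_mul' A B := Equiv.ext fun i => act_mul A B i

theorem hom_injective : Function.Injective hom := by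
  rw [injective_iff_map_eq_one]
  intro A hA
  have h : ∀ i, act A.1 i = i := fun i => by
    have := DFunLike.congr_fun hA i
    exact this
  have h2 : ∀ i, A.1 *ᵥ vec i = vec i := fun i => by
    rw [← vec_code (A.1 *ᵥ vec i) (mulVec_ne_zero A _ (vec_ne_zero i))]
    congr 1
    exact h i
  apply Subtype.ext
  refine Matrix.ext_of_mulVec_single fun i => ?_
  fin_cases i
  · have h3 := h2 1
    have h4 : vec 1 = Pi.single (0 : Fin 2) (1 : ZMod 2) := by decide
    rw [h4] at h3
    exact h3.trans (Matrix.one_mulVec _).symm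
  · have h3 := h2 0
    have h4 : vec 0 = Pi.single (1 : Fin 2) (1 : ZMod 2) := by decide
    rw [h4] at h3
    exact h3.trans (Matrix.one_mulVec _).symm

theorem card_sl : Fintype.card (SpecialLinearGroup (Fin 2) (ZMod 2)) = 6 := by
  decide +kernel

theorem hom_bijective : Function.Bijective hom := by
  rw [Fintype.bijective_iff_injective_and_card]
  refine ⟨hom_injective, ?_⟩
  rw [card_sl, Fintype.card_perm, Fintype.card_fin]
  rfl

theorem nonempty_mulEquiv {F : Type*} [Field F] [Fintype F] (hF : Fintype.card F = 2) :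
    Nonempty (Matrix.SpecialLinearGroup (Fin 2) F ≃* Equiv.Perm (Fin 3)) := by
  let e : ZMod 2 ≃+* F := ZMod.ringEquivOfPrime F Nat.prime_two hF
  let e' : SpecialLinearGroup (Fin 2) F ≃* SpecialLinearGroup (Fin 2) (ZMod 2) :=
    { toFun := SpecialLinearGroup.map (e.symm : F →+* ZMod 2)
      invFun := SpecialLinearGroup.map (e : ZMod 2 →+* F)
      left_inv := fun A => by
        ext i j
        simp
      right_inv := fun A => by
        ext i j
        simp
      map_mul' := map_mul _ }
  exact ⟨e'.trans (MulEquiv.ofBijective hom hom_bijective)⟩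

end Cfsg.Agent.LieClassical.SLTwoTwo
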